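import Cfsg.Agent.Lib.GW.Assembly
import Cfsg.Agent.Lib.GW.Twist.DihedralMain

/-!
The twist lemma for a minimal counterexample whose rotations centralise the core of the
centralizer of the central involution.
-/

set_option autoImplicit false

namespace CfsgLib.GW

open Subgroup CfsgLib.Invol CfsgLib.BlockA.DihedralBlock

universe u

/-- `O(C(a)) ∩ C(b)` centralises the part inverted by `b`, for dihedral Sylow 2-subgroups of order
at least eight with rotations centralising `O(C(a))`. -/
theorem twist_rot :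
    ∀ (G : Type u) [Group G] [Finite G], Min G →
    ∀ (T : Sylow 2 G) (a b g : G), 8 ≤ Nat.card (T : Subgroup G) → Four a b g →
      a ∈ (T : Subgroup G) → (T : Subgroup G) ≤ cI a → b ∈ (T : Subgroup G) →
      ∀ D : DihData (T : Subgroup G), dz T D = a →
        (∀ y ∈ coreC a, (D.r : G) * y = y * (D.r : G)) →
        ∀ F : Subgroup G, F ≤ coreC a → coreC a = F ⊔ (coreC a ⊓ cI b) →
          (∀ x ∈ cI a, ∀ f ∈ F, x * f * x⁻¹ ∈ F) →
          (∀ x ∈ F, ∀ y ∈ F, x * y = y * x) → (∀ x ∈ F, b * x * b⁻¹ = x⁻¹) →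
          coreC a ⊓ cI b ≤ centralizer (F : Set G) := by
  intro G _ _ M T a b g hT8 hg haT hT hbT D hDa hrot F hFO hO hnorm hcomm hinv
  subst hDa
  have := M.simple
  intro d hd
  rw [mem_centralizer_iff]
  intro f hf
  by_contra hne
  have hFodd : Odd (Nat.card F) := (odd_coreC _).of_dvd_nat (card_dvd_of_le hFO)
  have hh : 2 ≤ D.h := by rw [D.card_eq] at hT8; omega
  obtain ⟨j, hj⟩ : ∃ j : ℤ, b = dt T D j := by
    rcases D.invol_cases (u := ⟨b, hbT⟩) (by rw [orderOf_mk]; exact hg.hb) with e | ⟨i, e⟩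
    · exact absurd (congrArg Subtype.val e : b = dz T D).symm hg.hab
    · exact ⟨i, congrArg Subtype.val e⟩
  have hur : b * rot T D * b⁻¹ = (rot T D)⁻¹ := by
    rw [hj]
    refine congrArg Subtype.val (?_ : D.r ^ j * D.s * D.r * (D.r ^ j * D.s)⁻¹ = D.r⁻¹)
    have e := D.zy_mul_z j 1
    rw [zpow_one] at e
    rw [e, D.zy_inv, D.zy_mul_zy, show j - 1 - j = -1 by ring, zpow_neg_one]
  refine (Twist.RotCent.false (T := T) (D := D) (u := b) (F := F)
    (A := coreC (dz T D) ⊓ cI b)
    { hh := hh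
      huT := hbT
      hu := hg.hb
      hur := hur
      hFcomm := hcomm
      hFodd := hFodd
      hFu := hinv
      hFr := fun x hx => hrot x (hFO hx)
      hAodd := (odd_coreC _).of_dvd_nat (card_dvd_of_le inf_le_left)
      hAu := fun x hx => (mem_cI.1 hx.2).symm
      hAr := fun x hx => hrot x hx.1
      hAF := fun x hx y hy => hnorm x (coreC_le_cI _ hx.1) y hy
      hdisj := ?_
      hcent := ?_
      hmove := ⟨d, hd, f, hf, fun e => hne e.symm⟩ })
  · refine (eq_bot_iff_forall _).2 fun x hx => ?_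
    have e1 := hinv x hx.1
    rw [← mem_cI.1 hx.2.2, mul_inv_cancel_right] at e1
    exact CfsgLib.Recog.NonCA.eq_one_of_sq_of_odd hFodd hx.1 (by
      nth_rewrite 2 [e1]
      exact mul_inv_cancel x)
  · refine le_antisymm ((M.cI_le_sup T hg.ha hT).trans ?_) ?_
    · rw [sup_assoc, ← hO, sup_comm]
    · rw [sup_assoc, ← hO]
      exact sup_le hT (coreC_le_cI _)

end CfsgLib.GW
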