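import Mathlib

/-!
The arithmetic behind the rotations on `O(C(a))`: the order formula and the second block identity
leave no room for a prime part centralised by one kind of reflection.
-/

set_option autoImplicit false

namespace CfsgLib.GW.Twist

/-- The positive sign. -/
private theorem end_pos {n c γ f g : ℤ} (hn : 0 ≤ n) (hnodd : Odd n) (hγodd : Odd γ) (hγ : 0 < γ)
    (hf : 3 ≤ f) (hg : 3 ≤ g) (h2γ : 2 * γ ≤ g + 1) (hc : c = f * (g - 1))
    (hn2 : n ^ 2 = (2 * c + γ) ^ 2 + 8 * f * γ) : False := by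
  have hfg : 0 < f * γ := mul_pos (by omega) hγ
  have hc0 : 0 < c := hc ▸ mul_pos (by omega) (by omega)
  have h1 : 2 * c + γ < n := by
    by_contra hle
    have := pow_le_pow_left₀ hn (not_lt.1 hle) 2
    linarith
  obtain ⟨j, hj⟩ := hnodd
  obtain ⟨i, hi⟩ := hγodd
  have h3 := pow_le_pow_left₀ (by omega) (show 2 * c + γ + 2 ≤ n by omega) 2
  have h5 : 2 * c + γ + 1 ≤ 2 * (f * γ) := by linarith
  have h6 : f * (g - 1) < f * γ := by rw [← hc]; omega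
  have h7 : g - 1 < γ := lt_of_mul_lt_mul_left h6 (by omega)
  omega

/-- The negative sign. -/
private theorem end_neg {n c γ f g : ℤ} (hn : 0 ≤ n) (hnodd : Odd n) (hγodd : Odd γ) (hγ : 0 < γ)
    (hf : 3 ≤ f) (hg : 3 ≤ g) (hgodd : Odd g) (h2γ : 2 * γ ≤ g + 1) (hc : c = f * (g - 1))
    (hn2 : n ^ 2 = (2 * c - γ) ^ 2 - 8 * f * γ) : False := by
  have hfg : 0 < f * γ := mul_pos (by omega) hγ
  have hcg : 3 * (g - 1) ≤ c := hc ▸ mul_le_mul_of_nonneg_right hf (by omega)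
  have hcγ : 0 ≤ 2 * c - γ := by omega
  have h1 : n < 2 * c - γ := by
    by_contra hle
    have := pow_le_pow_left₀ hcγ (not_lt.1 hle) 2
    linarith
  obtain ⟨j, hj⟩ := hnodd
  obtain ⟨i, hi⟩ := hγodd
  obtain ⟨k, hk⟩ := hgodd
  have h3 := pow_le_pow_left₀ hn (show n ≤ 2 * c - γ - 2 by omega) 2
  have h5 : 2 * c ≤ 2 * (f * γ) + γ + 1 := by linarith
  rcases lt_or_ge g 5 with hlt | hge
  · obtain rfl : g = 3 := by omega
    obtain rfl : γ = 1 := by omega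
    omega
  · have h8 : f * (2 * γ) ≤ f * (g + 1) := mul_le_mul_of_nonneg_left h2γ (by omega)
    have h9 : 0 ≤ (2 * f - 1) * (g - 5) := mul_nonneg (by omega) (by omega)
    rw [hc] at h5
    linarith

/-- With `N (x - d)² = 8 x (x + d) (φ (χ + 1))²`, `N` prime to the primes of `φ` and the second
identity, `φ ≥ 3` and `χ ≥ 3` are impossible. -/
theorem rot_arith {x φ χ N : ℕ} {d u v : ℤ} (hd : d = 1 ∨ d = -1) (h4 : (4 : ℤ) ∣ (x : ℤ) - d)
    (hx : 0 < x) (hxd : (x : ℤ) ≠ d) (hφ : Odd φ) (hφ1 : 1 < φ) (hχ : Odd χ) (hχ1 : 1 < χ)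
    (hN : Odd N) (hcop : ∀ p : ℕ, p.Prime → p ∣ φ → ¬ p ∣ N) (huv : u + v = x + d)
    (hord : (N : ℤ) * ((x : ℤ) - d) ^ 2 = 8 * x * ((x : ℤ) + d) * ((φ : ℤ) * (χ + 1)) ^ 2)
    (hI : ((χ : ℤ) - 1) ^ 2 * (u * v) * ((x : ℤ) - d) ^ 2 =
      d * x * (u - v) ^ 2 * ((χ : ℤ) + 1) ^ 2) : False := by
  have hd2 : d * d = 1 := by rcases hd with rfl | rfl <;> norm_num
  obtain ⟨α, hα⟩ := h4
  have hα0 : α ≠ 0 := fun e => hxd (by rw [e, mul_zero] at hα; linarith)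
  have hαpos : 0 < α := by
    rcases hd with rfl | rfl <;> omega
  set β : ℤ := 2 * α + d with hβ
  have hxα : (x : ℤ) = 4 * α + d := by linarith
  set K : ℤ := (φ : ℤ) * (χ + 1) with hK
  -- `α ∣ K`
  have hN' : (N : ℤ) * α ^ 2 = x * β * K ^ 2 := by
    refine mul_left_cancel₀ (show (16 : ℤ) ≠ 0 by norm_num) ?_
    rw [hxα] at hord
    rw [hxα, hβ]
    linear_combination hord
  have hcopx : IsCoprime α (x : ℤ) := ⟨-4 * d, d, by rw [hxα]; linear_combination hd2⟩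
  have hcopb : IsCoprime α β := ⟨-2 * d, d, by rw [hβ]; linear_combination hd2⟩
  have hαK : α ∣ K := by
    refine (Int.pow_dvd_pow_iff two_ne_zero).1 ?_
    refine ((hcopx.mul_right hcopb).pow_left).dvd_of_dvd_mul_left (y := (x : ℤ) * β) ?_
    exact ⟨N, by linear_combination -hN'⟩
  obtain ⟨γ, hγ⟩ := hαK
  have hNγ : (N : ℤ) = x * β * γ ^ 2 := by
    refine mul_right_cancel₀ (pow_ne_zero 2 hα0) ?_
    rw [hN', hγ]; ring
  have hγodd : Odd γ := by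
    have h : Odd ((x : ℤ) * β * γ ^ 2) := hNγ ▸ (Int.odd_coe_nat N).2 hN
    exact (Int.odd_pow' two_ne_zero).1 (Int.odd_mul.1 h).2
  have hχ3 : (3 : ℤ) ≤ χ := by obtain ⟨k, hk⟩ := hχ; omega
  have hφ3 : (3 : ℤ) ≤ φ := by obtain ⟨k, hk⟩ := hφ; omega
  have hγpos : 0 < γ := by
    have : 0 < α * γ := hγ ▸ by positivity
    exact (mul_pos_iff_of_pos_left hαpos).1 this
  -- `γ ∣ χ + 1`
  have hγφ : IsCoprime γ (φ : ℤ) := by
    rw [Int.isCoprime_iff_gcd_eq_one, Int.gcd_eq_natAbs, Int.natAbs_natCast]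
    refine Nat.coprime_of_dvd fun p hp hpγ hpφ => hcop p hp hpφ ?_
    rw [← Int.natCast_dvd_natCast, hNγ]
    exact (Dvd.dvd.pow (Int.natCast_dvd.2 hpγ) two_ne_zero).mul_left _
  obtain ⟨α', hα'⟩ : γ ∣ (χ : ℤ) + 1 :=
    hγφ.dvd_of_dvd_mul_left (y := (φ : ℤ)) ⟨α, by rw [← hK, hγ]; ring⟩
  have hαφ : α = φ * α' := by
    refine mul_right_cancel₀ hγpos.ne' ?_
    rw [← hγ, hK, hα']; ring
  have h2γ : 2 * γ ≤ χ + 1 := by
    have heven : Even α' := by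
      have h : Even (γ * α') := hα' ▸ ((Int.odd_coe_nat χ).2 hχ).add_one
      exact (Int.even_mul.1 h).resolve_left (Int.not_even_iff_odd.2 hγodd)
    have hα'pos : 0 < α' := by
      have : 0 < γ * α' := hα' ▸ by omega
      exact (mul_pos_iff_of_pos_left hγpos).1 this
    obtain ⟨k, hk⟩ := heven
    have : 2 * γ ≤ γ * α' := by
      have h1 : γ * 1 ≤ γ * k := mul_le_mul_of_nonneg_left (by omega) hγpos.le
      rw [hk, mul_add]; linarith
    omega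
  -- the square
  set c : ℤ := (φ : ℤ) * (χ - 1) with hc
  set M : ℤ := (2 * c + d * γ) ^ 2 + 8 * d * φ * γ with hM
  have hMx : M = 4 * c ^ 2 + d * x * γ ^ 2 := by
    rw [hM, hc, hxα, hαφ]
    linear_combination 4 * d * φ * γ * hα'
  have hD : M * (u - v) ^ 2 = (4 * c * β) ^ 2 := by
    have h4uv : 4 * (u * v) = (2 * β) ^ 2 - (u - v) ^ 2 := by
      rw [show 2 * β = u + v by rw [huv, hxα, hβ]; ring]; ring
    rw [hxα, hαφ] at hI
    rw [hMx, hxα, hαφ]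
    have hα'0 : α' ≠ 0 := fun e => hα0 (by rw [hαφ, e, mul_zero])
    refine mul_left_cancel₀ (pow_ne_zero 2 hα'0) ?_
    rw [hc]
    linear_combination (4 * (φ : ℤ) ^ 2 * ((χ : ℤ) - 1) ^ 2 * α' ^ 2) * h4uv - hI -
      d * (4 * φ * α' + d) * (u - v) ^ 2 * (γ * α' + χ + 1) * hα'
  have hc0 : 0 < c := mul_pos (by omega) (by omega)
  have hβ0 : β ≠ 0 := by rcases hd with rfl | rfl <;> omega
  have hne : u - v ≠ 0 := fun e => by
    rw [e, zero_pow two_ne_zero, mul_zero] at hD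
    exact mul_ne_zero (mul_ne_zero (by norm_num) hc0.ne') hβ0 (sq_eq_zero_iff.1 hD.symm)
  obtain ⟨m, hm⟩ : u - v ∣ 4 * c * β :=
    (Int.pow_dvd_pow_iff two_ne_zero).1 ⟨M, by linear_combination -hD⟩
  have hMm : m ^ 2 = M := by
    refine mul_right_cancel₀ (pow_ne_zero 2 hne) ?_
    rw [hD, hm]; ring
  obtain ⟨n, hn, hn2⟩ : ∃ n : ℤ, 0 ≤ n ∧ n ^ 2 = M := ⟨|m|, abs_nonneg _, by rw [sq_abs, hMm]⟩
  have hnodd : Odd n := by
    refine (Int.odd_pow' two_ne_zero).1 ?_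
    rw [hn2, hM, show (2 * c + d * γ) ^ 2 + 8 * d * φ * γ =
      2 * (2 * c ^ 2 + 2 * d * c * γ + 4 * d * φ * γ) + d * d * γ ^ 2 by ring, hd2, one_mul]
    exact (even_two_mul _).add_odd hγodd.pow
  rw [hM] at hn2
  rcases hd with rfl | rfl
  · exact end_pos hn hnodd hγodd hγpos hφ3 hχ3 h2γ hc (by linear_combination hn2)
  · exact end_neg hn hnodd hγodd hγpos hφ3 hχ3 ((Int.odd_coe_nat χ).2 hχ) h2γ hc
      (by linear_combination hn2)

end CfsgLib.GW.Twist
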