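import Cfsg.Agent.Lib.GW.Twist.DihedralRotBase
import Cfsg.Agent.Lib.GW.Twist.DihedralRotArith
import Cfsg.Agent.Lib.GW.Twist.DihedralCore
import Cfsg.Agent.Lib.GW.Component.Ratio
import Cfsg.Agent.Lib.GW.Component.EndCount

/-!
# The rotations centralise `O(C(a))`, and the twist lemma for dihedral Sylow subgroups
-/

set_option autoImplicit false
set_option linter.unusedSectionVars false
set_option linter.style.haveILetI false

namespace CfsgLib.GW

open Subgroup CfsgLib.Invol CfsgLib.BlockA.DihedralBlock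

universe u

variable {G : Type u} [Group G] [Finite G]

/-- With rotations of order four the reflection `b` cannot centralise a prime part inverted by
`c` when `c` centralises no part inverted by `b`. -/
theorem Min.no_one_mixed (M : Min G) (hco : ∀ x : G, orderOf x = 2 → IsCoatom (cI x))
    (T : Sylow 2 G) (D : DihData (T : Subgroup G)) (hh : D.h = 2) (j : ℤ)
    (hScT : ∀ x ∈ (T : Subgroup G), Sc (dz T D) x)
    (hbb : dt T D (j + 1) * dt T D j * (dt T D (j + 1))⁻¹ = dz T D * dt T D j)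
    {p : ℕ} [Fact p.Prime] (hXb : fitP (dz T D) p ≤ cI (dt T D j))
    (hXc : ∀ x ∈ fitP (dz T D) p, dt T D (j + 1) * x * (dt T D (j + 1))⁻¹ = x⁻¹)
    (hX : fitP (dz T D) p ≠ ⊥)
    (hkind : ∀ q : ℕ, q.Prime → fitP (dz T D) q ≤ cI (dt T D (j + 1)) →
      (∀ x ∈ fitP (dz T D) q, dt T D j * x * (dt T D j)⁻¹ = x⁻¹) → fitP (dz T D) q = ⊥) :
    False := by
  classical
  haveI : Fact (Nat.Prime 2) := ⟨Nat.prime_two⟩
  have ha : orderOf (dz T D) = 2 := (Subgroup.orderOf_coe _).trans D.orderOf_z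
  have hT : (T : Subgroup G) ≤ cI (dz T D) := sylow_le_centralizer_dz T D
  have hbo : orderOf (dt T D j) = 2 := (Subgroup.orderOf_coe _).trans (D.orderOf_zy j)
  have hco' : orderOf (dt T D (j + 1)) = 2 := (Subgroup.orderOf_coe _).trans (D.orderOf_zy (j + 1))
  have hbT : dt T D j ∈ (T : Subgroup G) := SetLike.coe_mem _
  have hcT : dt T D (j + 1) ∈ (T : Subgroup G) := SetLike.coe_mem _
  have hba : dt T D j ≠ dz T D := fun h => D.ne_zpow j D.h (Subtype.ext h : D.r ^ j * D.s = D.z)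
  obtain ⟨g, hg⟩ := M.exists_four T ha (SetLike.coe_mem _) hT hbo hbT hba
  obtain ⟨a, haD⟩ : ∃ a, a = dz T D := ⟨_, rfl⟩
  obtain ⟨b, hbD⟩ : ∃ b, b = dt T D j := ⟨_, rfl⟩
  obtain ⟨c, hcD⟩ : ∃ c, c = dt T D (j + 1) := ⟨_, rfl⟩
  rw [← hbD, ← hcD, ← haD] at hbb hkind
  rw [← hcD, ← haD] at hXc
  rw [← hbD, ← haD] at hXb hg
  rw [← haD] at hX hT ha hScT
  rw [← hbD] at hbo hbT
  rw [← hcD] at hcT hco'
  have hbc : b ∈ cI a := hT hbT
  have hcc : c ∈ cI a := hT hcT
  set O := coreC a with hO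
  set W := O ⊓ cI b with hW
  set W' := O ⊓ cI c with hW'
  have hScb := hScT b hbT
  have hScc := hScT c hcT
  -- the fixed points of `c` lie among those of `b`
  have hW'W : W' ≤ W := by
    intro y hy
    refine ⟨hy.1, ?_⟩
    obtain ⟨z, hzF, -, hzi, hzp, hw⟩ := coreC_split hbo hbc hScb hy.1
    have hbyc : b * y * b⁻¹ ∈ cI c := by
      have hya := mem_cI.1 (coreC_le_cI a hy.1)
      have hyc := mem_cI.1 hy.2
      have e : b⁻¹ * c * b = a * c := by
        have h2 : c * b * c = a * b := by rw [← hbb, invol_inv hco']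
        rw [invol_inv hbo]
        calc b * c * b = b * (c * b * c) * c⁻¹ := by group
          _ = b * (a * b) * c := by rw [h2, invol_inv hco']
          _ = a * c := by rw [← mul_assoc b a b, ← hg.comm, mul_assoc a b b, invol_mul_self hbo,
                mul_one]
      refine mem_cI.2 ?_
      calc b * y * b⁻¹ * c = b * (y * (b⁻¹ * c * b)) * b⁻¹ := by group
        _ = b * ((b⁻¹ * c * b) * y) * b⁻¹ := by
          rw [e, (Commute.mul_right hya hyc).eq]
        _ = c * (b * y * b⁻¹) := by group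
    have hdc : defect b y ∈ cI c := mul_mem (inv_mem hy.2) hbyc
    have hzc : z ∈ cI c := zpowers_le.2 hdc hzp
    have hz1 : z = 1 := by
      by_contra hne
      obtain ⟨r, hr, hrdvd⟩ := Nat.exists_prime_and_dvd (fun e => hne (orderOf_eq_one_iff.1 e))
      haveI := Fact.mk hr
      set f := z ^ (orderOf z / r) with hf
      have hfo : orderOf f = r := orderOf_pow_orderOf_div (orderOf_pos z).ne' hrdvd
      have hfF : f ∈ fitP a r := mem_fitP_of_pgroup (pow_mem hzF _) (k := 1) (by rw [hfo, pow_one])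
      have hfb : b * f * b⁻¹ = f⁻¹ := by rw [hf, ← conj_pow, hzi, inv_pow]
      have hfc : c * f * c⁻¹ = f := by
        rw [(mem_cI.1 (pow_mem hzc _ : f ∈ cI c)).symm, mul_inv_cancel_right]
      have hfO : f ∈ coreC a := fitP_le_coreC a r hfF
      have hf1 : f = 1 := by
        rcases hScb r hr with h | h
        · exact eq_one_of_fixed_inverted hfO (h f hfF) hfb
        rcases hScc r hr with h' | h'
        · have h0 := hkind r hr (fun x hx => mem_cI.2 (mul_inv_eq_iff_eq_mul.1 (h' x hx)).symm) h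
          rw [h0, mem_bot] at hfF
          exact hfF
        · exact eq_one_of_fixed_inverted hfO hfc (h' f hfF)
      exact hr.ne_one (by rw [← hfo, hf1, orderOf_one])
    rw [hz1, mul_one] at hw
    exact hw.2
  -- the part inverted by `b`
  let B : Subgroup G :=
    { carrier := {z | z ∈ fitC a ∧ (∀ f ∈ fitC a, z * f = f * z) ∧ b * z * b⁻¹ = z⁻¹}
      one_mem' := ⟨one_mem _, fun f _ => by simp, by simp⟩
      mul_mem' := fun {x y} hx hy => ⟨mul_mem hx.1 hy.1,
        fun f hf => ((show Commute x f from hx.2.1 f hf).mul_left (hy.2.1 f hf)).eq, by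
          rw [show b * (x * y) * b⁻¹ = b * x * b⁻¹ * (b * y * b⁻¹) by group, hx.2.2, hy.2.2,
            hx.2.1 y hy.1, mul_inv_rev]⟩
      inv_mem' := fun {x} hx => ⟨inv_mem hx.1,
        fun f hf => (show Commute x f from hx.2.1 f hf).inv_left.eq, by
          rw [show b * x⁻¹ * b⁻¹ = (b * x * b⁻¹)⁻¹ by group, hx.2.2]⟩ }
  have hcardO : Nat.card O = Nat.card W * Nat.card B := by
    rw [← Nat.card_prod]
    refine (Nat.card_congr (Equiv.ofBijective (fun w : W × B =>
      (⟨(w.1 : G) * w.2, mul_mem w.1.2.1 (fitC_le_coreC a w.2.2.1)⟩ : O)) ⟨?_, ?_⟩)).symm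
    · rintro ⟨w, z⟩ ⟨w', z'⟩ h
      have h' : (w : G) * z = w' * z' := congrArg Subtype.val h
      have hk : (w' : G)⁻¹ * w = z' * (z : G)⁻¹ := by
        rw [eq_mul_inv_iff_mul_eq, mul_assoc, h', inv_mul_cancel_left]
      have h1 : (w' : G)⁻¹ * w ∈ cI b := mul_mem (inv_mem w'.2.2) w.2.2
      have h2 : (w' : G)⁻¹ * w ∈ B := hk ▸ mul_mem z'.2 (inv_mem z.2)
      have hk1 : (w' : G)⁻¹ * w = 1 := eq_one_of_fixed_inverted (fitC_le_coreC a h2.1)
        (by rw [(mem_cI.1 h1).symm, mul_inv_cancel_right]) h2.2.2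
      have hw : (w : G) = w' := (inv_mul_eq_one.1 hk1).symm
      rw [hw, mul_right_inj] at h'
      exact Prod.ext (Subtype.ext hw) (Subtype.ext h')
    · rintro ⟨y, hy⟩
      obtain ⟨z, hzF, hzc, hzi, -, hw⟩ := coreC_split hbo hbc hScb hy
      exact ⟨⟨⟨y * z, hw⟩, ⟨z⁻¹, B.inv_mem ⟨hzF, hzc, hzi⟩⟩⟩,
        Subtype.ext (mul_inv_cancel_right y z)⟩
  -- parameters
  obtain ⟨χ, hχ⟩ : Nat.card W' ∣ Nat.card W := card_dvd_of_le hW'W
  set φ := Nat.card B with hφdef
  have hWodd : Odd (Nat.card W) := (odd_coreC a).of_dvd_nat (card_dvd_of_le inf_le_left)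
  have hW'odd : Odd (Nat.card W') := (odd_coreC a).of_dvd_nat (card_dvd_of_le inf_le_left)
  have hφodd : Odd φ := (odd_coreC a).of_dvd_nat (card_dvd_of_le (fun z hz => fitC_le_coreC a hz.1))
  have hχodd : Odd χ := hWodd.of_dvd_nat ⟨_, by rw [hχ, mul_comm]⟩
  have hχ1 : 1 < χ := by
    by_contra hle
    have : χ = 1 := by have := hχodd.pos; omega
    rw [this, mul_one] at hχ
    have e : W' = W := eq_of_le_of_card_ge hW'W hχ.le
    refine hX ((Subgroup.eq_bot_iff_forall _).2 fun x hx => ?_)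
    have hxW : x ∈ W' := e ▸ (⟨fitP_le_coreC a p hx, hXb hx⟩ : x ∈ W)
    exact eq_one_of_fixed_inverted hxW.1 (by rw [(mem_cI.1 hxW.2).symm, mul_inv_cancel_right])
      (hXc x hx)
  have hOne : coreC a ≠ ⊥ := fun e => hX (le_bot_iff.1 (e ▸ fitP_le_coreC a p))
  have hOtop : coreC a ≠ ⊤ := fun e =>
    M.cI_ne_top (invol_ne_one ha) (top_le_iff.1 (e ▸ coreC_le_cI a))
  have hφ1 : 1 < φ := by
    by_contra hle
    have : φ = 1 := by have := hφodd.pos; omega
    rw [this, mul_one] at hcardO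
    have e : W = O := eq_of_le_of_card_ge inf_le_left hcardO.le
    have hgN : g ∈ normalizer (coreC a : Set G) := mem_normalizer_iff_of_finite fun y hy => by
      have hyW : y ∈ coreC a ⊓ coreC b := by
        rw [← M.inf_cI_eq hbo]
        exact (e.ge hy : y ∈ W)
      exact (hg.rot_core M hyW).1
    have hN := ((hco a ha).le_iff.1 (cI_le_normalizer_coreC a)).resolve_left
      (M.normalizer_ne_top hOne hOtop)
    exact hg.hab ((conj_eq_self (hN.le hgN)).symm.trans hg.ga)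
  -- the index
  set N := (cI a).index with hN
  have hNodd : Odd N := by
    have hidx : Odd ((T : Subgroup G).index) :=
      Nat.not_even_iff_odd.1 fun h => T.not_dvd_index (even_iff_two_dvd.1 h)
    exact hidx.of_dvd_nat (index_dvd_of_le hT)
  have hcop : ∀ r : ℕ, r.Prime → r ∣ φ → ¬ r ∣ N := by
    intro r hr hrφ hrN
    haveI := Fact.mk hr
    obtain ⟨f, hf⟩ := exists_prime_orderOf_dvd_card' (G := B) r hrφ
    have hf' : orderOf (f : G) = r := by rw [Subgroup.orderOf_coe, hf]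
    have hfF : (f : G) ∈ fitP a r := mem_fitP_of_pgroup f.2.1 (k := 1) (by rw [hf', pow_one])
    have hf1 : (f : G) ≠ 1 := fun e => hr.ne_one (by rw [← hf', e, orderOf_one])
    have hE : fitP a r ≠ ⊥ := fun e => hf1 (mem_bot.1 (e ▸ hfF))
    have hbinv : ∀ x ∈ fitP a r, b * x * b⁻¹ = x⁻¹ := (hScb r hr).resolve_left fun h =>
      hf1 (eq_one_of_fixed_inverted (fitP_le_coreC a r hfF) (h f hfF) f.2.2.2)
    have hcinv : ∀ x ∈ fitP a r, c * x * c⁻¹ = x⁻¹ := (hScc r hr).resolve_left fun h =>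
      hE (hkind r hr (fun x hx => mem_cI.2 (mul_inv_eq_iff_eq_mul.1 (h x hx)).symm) hbinv)
    obtain ⟨P⟩ := (inferInstance : Nonempty (Sylow r O))
    set P' := (P : Subgroup O).map O.subtype with hP'
    have hEP : fitP a r ≤ P' := map_mono (CfsgLib.Solvable.pCore_le_sylow P)
    have hPO : P' ≤ O := map_subtype_le _
    -- the normalizer of `P'` lies in `C(a)`
    have hNP : normalizer (P' : Set G) ≤ cI a := by
      intro n hn
      obtain ⟨u, hu⟩ : ∃ u, u = n * a * n⁻¹ := ⟨_, rfl⟩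
      have huo : orderOf u = 2 := by rw [hu, orderOf_conj_eq, ha]
      have huP : ∀ x ∈ fitP a r, u * x = x * u := by
        intro x hx
        have h1 : n⁻¹ * x * n ∈ P' := by
          have := (mem_normalizer_iff.1 (inv_mem hn) x).1 (hEP hx)
          rwa [inv_inv] at this
        have h2 := mem_cI.1 (coreC_le_cI a (hPO h1))
        calc u * x = n * (a * (n⁻¹ * x * n)) * n⁻¹ := by rw [hu]; group
          _ = n * ((n⁻¹ * x * n) * a) * n⁻¹ := by rw [h2]
          _ = x * u := by rw [hu]; group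
      have hua : u ∈ cI a := by
        rw [← normalizer_fitP M hco ha hE]
        refine mem_normalizer_iff_of_finite fun x hx => ?_
        rwa [huP x hx, mul_inv_cancel_right]
      obtain ⟨k, hk⟩ := exists_conj_invol_mem_sylow (T.subtype hT) (x := (⟨u, hua⟩ : cI a))
        (by rw [orderOf_mk, huo])
      have hkT : (k : G) * u * (k : G)⁻¹ ∈ (T : Subgroup G) := mem_subgroupOf.1 hk
      rcases D.invol_cases (u := ⟨_, hkT⟩) (by rw [orderOf_mk, orderOf_conj_eq, huo]) with e | ⟨i, e⟩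
      · have e' : (k : G) * u * (k : G)⁻¹ = a := (congrArg Subtype.val e).trans haD.symm
        have hua' : u = a := by
          exact (MulAut.conj (k : G)).injective (e'.trans (conj_eq_self k.2).symm)
        exact mem_cI.2 (mul_inv_eq_iff_eq_mul.1 (hu ▸ hua'))
      · exfalso
        have e' : (k : G) * u * (k : G)⁻¹ = dt T D i := congrArg Subtype.val e
        have hfix : ∀ x ∈ fitP a r, dt T D i * x * (dt T D i)⁻¹ = x := by
          intro x hx
          have hx' : (k : G)⁻¹ * x * k ∈ fitP a r := fitP_preimage (conj_eq_self k.2) hx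
          rw [← e']
          calc (k : G) * u * (k : G)⁻¹ * x * ((k : G) * u * (k : G)⁻¹)⁻¹
              = (k : G) * (u * ((k : G)⁻¹ * x * k) * u⁻¹) * (k : G)⁻¹ := by group
            _ = x := by rw [huP _ hx', mul_inv_cancel_right]; group
        have hinv : ∀ x ∈ fitP a r, dt T D i * x * (dt T D i)⁻¹ = x⁻¹ := by
          intro x hx
          have hm : ∃ m : ℤ, i = j + 2 * m ∨ i = (j + 1) + 2 * m := by
            rcases Int.even_or_odd' (i - j) with ⟨m, hm | hm⟩
            · exact ⟨m, Or.inl (by linarith)⟩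
            · exact ⟨m, Or.inr (by linarith)⟩
          obtain ⟨m, hm⟩ := hm
          obtain ⟨w, hw⟩ : ∃ w, w = ((D.r ^ m : (T : Subgroup G)) : G) := ⟨_, rfl⟩
          have hwc : w ∈ cI a := hw ▸ hT (SetLike.coe_mem _)
          have hx' : w⁻¹ * x * w ∈ fitP a r := fitP_preimage (conj_eq_self hwc) hx
          have hconj : ∀ l : ℤ, dt T D (l + 2 * m) = w * dt T D l * w⁻¹ := fun l =>
            hw ▸ (congrArg Subtype.val (D.conj_refl m l)).symm
          have key : ∀ t : G, (∀ y ∈ fitP a r, t * y * t⁻¹ = y⁻¹) →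
              w * t * w⁻¹ * x * (w * t * w⁻¹)⁻¹ = x⁻¹ := fun t ht => by
            calc w * t * w⁻¹ * x * (w * t * w⁻¹)⁻¹ = w * (t * (w⁻¹ * x * w) * t⁻¹) * w⁻¹ := by group
              _ = x⁻¹ := by rw [ht _ hx']; group
          rcases hm with rfl | rfl
          · rw [hconj, ← hbD]; exact key b hbinv
          · rw [hconj, ← hcD]; exact key c hcinv
        exact hE ((Subgroup.eq_bot_iff_forall _).2 fun x hx =>
          eq_one_of_fixed_inverted (fitP_le_coreC a r hx) (hfix x hx) (hinv x hx))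
    -- so `P'` is a Sylow subgroup of `G`
    have hP'p : IsPGroup r P' := P.2.map _
    obtain ⟨Q, hQ⟩ := hP'p.exists_le_sylow
    have hPQ : P' = (Q : Subgroup G) := by
      by_contra hne
      have hlt : P'.subgroupOf (Q : Subgroup G) < ⊤ := by
        rw [lt_top_iff_ne_top, Ne, subgroupOf_eq_top]
        exact fun hle => hne (le_antisymm hQ hle)
      haveI : Group.IsNilpotent (Q : Subgroup G) := Q.2.isNilpotent
      have hgrow := Group.normalizerCondition_of_isNilpotent (P'.subgroupOf (Q : Subgroup G)) hlt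
      obtain ⟨n, hnN, hnP⟩ := SetLike.exists_of_lt hgrow
      have hnN' : (n : G) ∈ normalizer (P' : Set G) := mem_normalizer_iff_of_finite fun x hx => by
        have h := (mem_normalizer_iff.1 hnN ⟨x, hQ hx⟩).1 (mem_subgroupOf.2 hx)
        exact mem_subgroupOf.1 h
      have hnO : (n : G) ∈ O := by
        refine M.mem_coreC ha (hNP hnN') ?_
        obtain ⟨l, hl⟩ := IsPGroup.iff_orderOf.1 Q.2 n
        rw [Subgroup.orderOf_coe, hl]
        refine Odd.pow (hr.odd_of_ne_two ?_)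
        rintro rfl
        exact (Nat.not_even_iff_odd.2 hφodd) (even_iff_two_dvd.2 hrφ)
      set R := (P : Subgroup O) ⊔ zpowers ⟨n, hnO⟩ with hR
      have hRp : IsPGroup r R := by
        refine ((Q.2.comap_subtype).to_le (sup_le (fun x hx => ?_) (zpowers_le.2 ?_)) :)
        · exact hQ ⟨x, hx, rfl⟩
        · exact (n.2 : (n : G) ∈ (Q : Subgroup G))
      have := P.3 hRp le_sup_left
      exact hnP (mem_subgroupOf.2 ⟨⟨n, hnO⟩, this ▸ mem_sup_right (mem_zpowers _), rfl⟩)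
    have hQd : ¬ r ∣ (Q : Subgroup G).index := Q.not_dvd_index
    rw [← hPQ] at hQd
    exact hQd (hrN.trans (index_dvd_of_le (hPO.trans (coreC_le_cI a))))
  -- the identities
  have := Fintype.ofFinite G
  obtain ⟨MI, hM⟩ := CfsgLib.BlockB.exists_isPModular Nat.prime_two (p := 2)
  haveI := hM.2.1.isPrime
  have h2h : 2 ≤ D.h := hh.ge
  obtain ⟨ζ, hζ⟩ : ∃ ζ : ℂ, IsPrimitiveRoot ζ (2 * D.h) :=
    ⟨_, Complex.isPrimitiveRoot_exp _ (by omega)⟩
  obtain ⟨χ₁, χ₂, χ₃, χ', δ₁, δ₂, δ₃, S⟩ := exists_shape hM T D h2h hζ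
  have hone : ∀ s t : G, orderOf s = 2 → orderOf t = 2 → IsConj s t := fun s t => M.one_class
  obtain ⟨huv, -, hdvd, hid⟩ := identity_I hM T D h2h hζ S hone j _ _ _ rfl rfl rfl
  obtain ⟨hxne, hord⟩ := order_formula hM T D h2h hζ S hone
  set x := Cfsg.charDegree (χ₁ : G → ℂ) with hx
  set u := -δ₁ * δ₂ * (Cfsg.charDegree (χ₂ : G → ℂ) : ℤ) with hu
  set v := -δ₁ * δ₃ * (Cfsg.charDegree (χ₃ : G → ℂ) : ℤ) with hv
  set w := Nat.card W' with hw
  have hcA : Nat.card (centralizer ({dz T D, dt T D j} : Set G)) = 4 * (w * χ) := by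
    rw [← cI_inf_eq, M.card_pair T D j, ← haD, ← hbD, ← hχ]
  have hcB : Nat.card (centralizer ({dz T D, dt T D (j + 1)} : Set G)) = 4 * w := by
    rw [← cI_inf_eq, M.card_pair T D (j + 1), ← haD, ← hcD]
  have hcJ : Nat.card (cI a) = 8 * (w * χ * φ) := by
    obtain ⟨n, -, hn, hnT, -⟩ := Component.Min.exists_card_cI M ha
    rw [hn, ← hnT T, D.card_eq, hh, hcardO, hχ]
  have hGN : Nat.card G = 8 * (w * χ * φ) * N := by rw [← hcJ, hN, (cI a).card_mul_index]
  rw [hcA, hcB] at hid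
  have hsum : (1 / (Nat.card (centralizer ({dz T D, dt T D 0} : Set G)) : ℚ) +
      1 / (Nat.card (centralizer ({dz T D, dt T D 1} : Set G)) : ℚ)) =
      1 / (4 * (w * χ) : ℚ) + 1 / (4 * w : ℚ) := by
    rcases Int.even_or_odd j with hj | hj
    · rw [← card_pair_period T D (show Even (j - 0) by simpa using hj),
        ← card_pair_period T D (show Even (j + 1 - 1) by simpa using hj), hcA, hcB]
      push_cast; rfl
    · rw [← card_pair_period T D (show Even (j + 1 - 0) by simpa using hj.add_one),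
        ← card_pair_period T D (show Even (j - 1) from hj.sub_odd odd_one), hcA, hcB]
      push_cast; ring
  rw [hsum, ← haD, hcJ, hGN] at hord
  have hwQ : (w : ℚ) ≠ 0 := by exact_mod_cast hW'odd.pos.ne'
  have hχQ : (χ : ℚ) ≠ 0 := by exact_mod_cast hχodd.pos.ne'
  have hφQ : (φ : ℚ) ≠ 0 := by exact_mod_cast hφodd.pos.ne'
  refine Twist.rot_arith (x := x) (φ := φ) (χ := χ) (N := N) S.sgn₁ ?_
    (CfsgLib.BlockB.irr_degree_pos χ₁) hxne hφodd hφ1 hχodd hχ1 hNodd hcop huv ?_ ?_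
  · rw [hh] at hdvd; simpa using hdvd
  · apply Int.cast_injective (α := ℚ)
    push_cast at hord ⊢
    field_simp at hord
    linear_combination hord / 16
  · apply Int.cast_injective (α := ℚ)
    push_cast at hid ⊢
    field_simp at hid
    linear_combination hid

/-- The rotations centralise `O(C(a))`. -/
theorem rot_centralizes (M : Min G) (hco : ∀ x : G, orderOf x = 2 → IsCoatom (cI x))
    (T : Sylow 2 G) (D : DihData (T : Subgroup G)) (hh : 2 ≤ D.h)
    (hsc : ∀ s ∈ (T : Subgroup G), orderOf s = 2 → ∀ p : ℕ, p.Prime →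
      fitP (dz T D) p ≤ cI s ∨ ∀ x ∈ fitP (dz T D) p, s * x * s⁻¹ = x⁻¹)
    (hsq : ∀ s ∈ (T : Subgroup G), ∀ x ∈ coreC (dz T D), s ^ 2 * x = x * s ^ 2) :
    ∀ y ∈ coreC (dz T D), (D.r : G) * y = y * (D.r : G) := by
  haveI : Fact (Nat.Prime 2) := ⟨Nat.prime_two⟩
  have ha : orderOf (dz T D) = 2 := (Subgroup.orderOf_coe _).trans D.orderOf_z
  have hT : (T : Subgroup G) ≤ cI (dz T D) := sylow_le_centralizer_dz T D
  have hdo : ∀ i, orderOf (dt T D i) = 2 := fun i => (Subgroup.orderOf_coe _).trans (D.orderOf_zy i)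
  have hdT : ∀ i, dt T D i ∈ (T : Subgroup G) := fun i => SetLike.coe_mem _
  have hda : ∀ i, dt T D i ≠ dz T D := fun i h =>
    D.ne_zpow i D.h (Subtype.ext h : D.r ^ i * D.s = D.z)
  have hinv : ∀ s ∈ (T : Subgroup G), orderOf s = 2 → Sc (dz T D) s := fun s hsT hso p hp =>
    (hsc s hsT hso p hp).imp (fun h f hf => by rw [(mem_cI.1 (h hf)).symm, mul_inv_cancel_right]) id
  have hr10 : (D.r : G) = dt T D 1 * dt T D 0 := congrArg Subtype.val
    (show D.r = D.r ^ (1 : ℤ) * D.s * (D.r ^ (0 : ℤ) * D.s) by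
      rw [D.zy_mul_zy, sub_zero, zpow_one])
  have hScT : ∀ x ∈ (T : Subgroup G), Sc (dz T D) x := by
    intro x hx
    have hd : ∀ i, Sc (dz T D) (dt T D i) := fun i => hinv _ (hdT i) (hdo i)
    rcases D.cases ⟨x, hx⟩ with ⟨i, h⟩ | ⟨i, h⟩
    · rw [show x = dt T D i * dt T D 0 from congrArg Subtype.val
        (show (⟨x, hx⟩ : (T : Subgroup G)) = D.r ^ i * D.s * (D.r ^ (0 : ℤ) * D.s) by
          rw [D.zy_mul_zy, sub_zero, h])]
      exact (hd i).mul (hd 0)
    · rw [show x = dt T D i from congrArg Subtype.val h]; exact hd i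
  -- neighbouring reflections agree on every prime part
  suffices key : ∀ j : ℤ, (j = 0 ∨ j = 1) → ∀ p : ℕ, p.Prime →
      fitP (dz T D) p ≤ cI (dt T D j) →
      (∀ x ∈ fitP (dz T D) p, dt T D (j + 1) * x * (dt T D (j + 1))⁻¹ = x⁻¹) →
      fitP (dz T D) p = ⊥ by
    refine comm_coreC_of_comm_fitC (hT (SetLike.coe_mem _))
      ((T.2 D.r).imp fun k hk => congrArg Subtype.val hk) fun f hf => ?_
    refine mem_fitC_induction (P := fun f => (D.r : G) * f = f * D.r) hf (by simp)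
      (fun x y hx hy => by rw [← mul_assoc, hx, mul_assoc, hy, mul_assoc]) fun p hp f hf => ?_
    haveI := Fact.mk hp
    refine mul_inv_eq_iff_eq_mul.1 ?_
    rw [hr10, show dt T D 1 * dt T D 0 * f * (dt T D 1 * dt T D 0)⁻¹ =
      dt T D 1 * (dt T D 0 * f * (dt T D 0)⁻¹) * (dt T D 1)⁻¹ by group]
    have h1 := hsc _ (hdT 0) (hdo 0) p hp
    have h2 := hsc _ (hdT 1) (hdo 1) p hp
    rcases h1 with h1 | h1 <;> rcases h2 with h2 | h2
    · rw [(mem_cI.1 (h1 hf)).symm, mul_inv_cancel_right, (mem_cI.1 (h2 hf)).symm,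
        mul_inv_cancel_right]
    · have h0 := key 0 (Or.inl rfl) p hp h1 (by rw [zero_add]; exact h2)
      rw [h0, mem_bot] at hf; rw [hf]; group
    · have h0 : fitP (dz T D) p = ⊥ := key 1 (Or.inr rfl) p hp h2 fun x hx => by
        have hD : dt T D (1 + 1) = (D.r : G) * dt T D 0 * (D.r : G)⁻¹ := (congrArg Subtype.val
          (show D.r * (D.r ^ (0 : ℤ) * D.s) * D.r⁻¹ = D.r ^ (1 + 1 : ℤ) * D.s by
            have h := D.conj_refl 1 0
            rw [zpow_one] at h
            rw [h]; norm_num)).symm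
        have hrc := conj_eq_self (hT (SetLike.coe_mem D.r))
        have hx' := fitP_preimage hrc hx
        rw [hD, show (D.r : G) * dt T D 0 * (D.r : G)⁻¹ * x *
            ((D.r : G) * dt T D 0 * (D.r : G)⁻¹)⁻¹ =
          (D.r : G) * (dt T D 0 * ((D.r : G)⁻¹ * x * D.r) * (dt T D 0)⁻¹) * (D.r : G)⁻¹ by group,
          h1 _ hx']
        group
      rw [h0, mem_bot] at hf; rw [hf]; group
    · rw [h1 f hf, h2 _ (inv_mem hf), inv_inv]
  intro j hj p hp hb hc
  haveI := Fact.mk hp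
  obtain ⟨g₁, hg₁⟩ := M.exists_four T ha (SetLike.coe_mem _) hT (hdo j) (hdT j) (hda j)
  obtain ⟨k, hk⟩ := D.h_pow
  rcases k with _ | k
  · rw [hk] at hh; simp at hh
  -- `r ^ (h / 2)` moves every reflection to its partner
  obtain ⟨e, he⟩ : ∃ e : ℤ, e = ((2 ^ k : ℕ) : ℤ) := ⟨_, rfl⟩
  have hpart : ∀ i, ((D.r ^ e : (T : Subgroup G)) : G) * dt T D i *
      ((D.r ^ e : (T : Subgroup G)) : G)⁻¹ = dz T D * dt T D i := fun i => congrArg Subtype.val
    (show D.r ^ e * (D.r ^ i * D.s) * (D.r ^ e)⁻¹ = D.z * (D.r ^ i * D.s) by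
      rw [D.conj_refl, DihData.z, ← mul_assoc, ← zpow_add]
      congr 2; rw [he, hk, pow_succ]; push_cast; ring)
  rcases k with _ | k
  · -- rotations of order four
    have h2 : D.h = 2 := by rw [hk]; norm_num
    have he1 : e = 1 := by rw [he]; norm_num
    have hadj : ∀ i : ℤ, dt T D (i + 1) * dt T D i * (dt T D (i + 1))⁻¹ = dz T D * dt T D i ∧
        dt T D i * dt T D (i + 1) * (dt T D i)⁻¹ = dz T D * dt T D (i + 1) := fun i => by
      refine ⟨congrArg Subtype.val (show D.r ^ (i + 1) * D.s * (D.r ^ i * D.s) *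
          (D.r ^ (i + 1) * D.s)⁻¹ = D.z * (D.r ^ i * D.s) from ?_),
        congrArg Subtype.val (show D.r ^ i * D.s * (D.r ^ (i + 1) * D.s) *
          (D.r ^ i * D.s)⁻¹ = D.z * (D.r ^ (i + 1) * D.s) from ?_)⟩ <;>
        rw [D.zy_inv, D.zy_mul_zy, DihData.z, ← mul_assoc, ← mul_assoc, ← zpow_add, ← zpow_add,
          mul_left_inj, D.zpow_eq_iff, h2]
      · exact ⟨0, by ring⟩
      · exact ⟨1, by ring⟩
    by_contra hne
    by_cases hkind : ∀ q : ℕ, q.Prime → fitP (dz T D) q ≤ cI (dt T D (j + 1)) →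
        (∀ x ∈ fitP (dz T D) q, dt T D j * x * (dt T D j)⁻¹ = x⁻¹) → fitP (dz T D) q = ⊥
    · exact M.no_one_mixed hco T D h2 j hScT (hadj j).1 hb hc hne hkind
    · push Not at hkind
      obtain ⟨q, hq, hqc, hqb, hq0⟩ := hkind
      haveI := Fact.mk hq
      obtain ⟨g₂, hg₂⟩ := M.exists_four T ha (SetLike.coe_mem _) hT (hdo (j + 1)) (hdT (j + 1))
        (hda (j + 1))
      exact M.no_two_mixed hco T hT hg₁ hg₂ (hdT j) (hdT (j + 1)) (hadj j).2 hScT hb hqc hqb hne hq0
  · -- longer rotations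
    refine hg₁.fitP_eq_bot_of_commuting M hco (hpart j) (fun y hy => ?_) hb
    have hsq' := hsq _ (SetLike.coe_mem (D.r ^ ((2 ^ k : ℕ) : ℤ))) y hy
    have e2 : ((D.r ^ e : (T : Subgroup G)) : G) =
        ((D.r ^ ((2 ^ k : ℕ) : ℤ) : (T : Subgroup G)) : G) ^ 2 := congrArg Subtype.val
      (show D.r ^ e = (D.r ^ ((2 ^ k : ℕ) : ℤ)) ^ 2 by
        rw [← zpow_natCast _ 2, ← zpow_mul, he]; congr 1)
    rw [e2]; exact hsq'

/-- `O(C(a)) ∩ C(b)` centralises the part inverted by `b`, for dihedral Sylow 2-subgroups of order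
at least eight. -/
theorem twist_dihedral :
    ∀ (G : Type u) [Group G] [Finite G], Min G →
    (∀ x : G, orderOf x = 2 → IsCoatom (cI x)) →
    ∀ (T : Sylow 2 G) (a b g : G), 8 ≤ Nat.card (T : Subgroup G) → Four a b g →
      a ∈ (T : Subgroup G) → (T : Subgroup G) ≤ cI a → b ∈ (T : Subgroup G) →
      (∀ s ∈ (T : Subgroup G), orderOf s = 2 → ∀ p : ℕ, p.Prime →
        fitP a p ≤ cI s ∨ ∀ x ∈ fitP a p, s * x * s⁻¹ = x⁻¹) →
      (∀ s ∈ (T : Subgroup G), ∀ x ∈ coreC a, s ^ 2 * x = x * s ^ 2) →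
      ∀ F : Subgroup G, F ≤ fitC a → coreC a = F ⊔ (coreC a ⊓ cI b) →
        (∀ x ∈ cI a, ∀ f ∈ F, x * f * x⁻¹ ∈ F) →
        (∀ x ∈ F, ∀ y ∈ F, x * y = y * x) → (∀ x ∈ F, b * x * b⁻¹ = x⁻¹) →
        coreC a ⊓ cI b ≤ centralizer (F : Set G) := by
  intro G _ _ M hco T a b g h8 hg haT hT hbT hsc hsq F hFf hO hn hc hi
  obtain ⟨D₀⟩ := M.dih T
  obtain ⟨D, hD⟩ := CfsgLib.InvChar.BSW.exists_dihData_central D₀ ⟨a, haT⟩
    (by rw [orderOf_mk, hg.ha]) fun w => Subtype.ext (mem_cI.1 (hT w.2))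
  have hDa : dz T D = a := congrArg Subtype.val hD
  subst hDa
  have hh : 2 ≤ D.h := by rw [D.card_eq] at h8; omega
  exact twist_rot G M T _ b g h8 hg haT hT hbT D rfl (rot_centralizes M hco T D hh hsc hsq) F
    (hFf.trans (fitC_le_coreC _)) hO hn hc hi

end CfsgLib.GW
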