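import Cfsg.Agent.Lib.GW.Twist.KleinDegree
import Cfsg.Agent.Lib.FT.OddOrder

/-!
# The twist lemma for a four-group Sylow 2-subgroup: the involution count

The count attached to a linear character of `A` does not depend on the character, is at least
3/4 at the principal one and at most 2/3 at the others.
-/

set_option autoImplicit false
set_option linter.unusedSectionVars false
set_option linter.unusedDecidableInType false

namespace CfsgLib.GW.Twist

open CfsgLib.Char
open CfsgLib.Recog.NonCA (eq_one_of_sq_of_odd mem_of_sq_mem irr_degree_nat sign_orth column_count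
  sum_conj_mul_hom)
open scoped ComplexConjugate

universe v w

namespace TwistCent

open scoped _root_.Classical

variable {X : Type v} [Group X] [Fintype X] [Fintype (Cfsg.IrrCharacter X)] {t u n : X}
  {F A : Subgroup X} (h : TwistCent t u n F A)
include h

/-- The principal character. -/
def onec (_h : TwistCent t u n F A) : Cfsg.IrrCharacter X := ⟨fun _ => 1, isIrrCharacter_one⟩

theorem cl_onec (l : A →* ℂˣ) : h.cl l h.onec = if l = 1 then 1 else 0 := by
  apply Int.cast_injective (α := ℂ)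
  apply mul_left_cancel₀ (natCard_ne_zero (G := h.K))
  rw [h.cl_eq]
  simp only [onec, one_mul]
  have e := sum_conj_mul_hom (h.lamK l) 1
  simp only [MonoidHom.one_apply, Units.val_one, mul_one] at e
  rw [e]
  have hK1 : h.lamK 1 = 1 := MonoidHom.one_comp _
  by_cases hl : l = 1
  · rw [if_pos hl, hl, hK1, if_pos rfl]
    push_cast
    ring
  · rw [if_neg hl, if_neg fun e' => hl (h.lamK_injective (e'.symm.trans hK1.symm))]
    push_cast
    ring

/-- The degree. -/
noncomputable def deg (_h : TwistCent t u n F A) (χ : Cfsg.IrrCharacter X) : ℕ :=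
  (irr_degree_nat χ).choose

theorem deg_pos (χ : Cfsg.IrrCharacter X) : 0 < h.deg χ := (irr_degree_nat χ).choose_spec.1

theorem deg_cast (χ : Cfsg.IrrCharacter X) : (h.deg χ : ℂ) = (χ : X → ℂ) 1 :=
  (irr_degree_nat χ).choose_spec.2.symm

/-- The sum over the orbit, the value at `t` of a constituent. -/
noncomputable def osum (l : A →* ℂˣ) (χ : Cfsg.IrrCharacter X) : ℤ := ∑ μ ∈ h.orbit l, h.cl μ χ

/-- The constituents. -/
noncomputable def supp (l : A →* ℂˣ) : Finset (Cfsg.IrrCharacter X) :=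
  Finset.univ.filter fun χ => h.cl l χ ≠ 0

/-- The involution count attached to `l`. -/
noncomputable def Rq (l : A →* ℂˣ) : ℚ :=
  ∑ χ ∈ h.supp l, (h.cl l χ : ℚ) * ((h.osum l χ : ℚ) * h.osum l χ) / h.deg χ

theorem osum_cast {l : A →* ℂˣ} {χ : Cfsg.IrrCharacter X} (hl : χ ∈ h.supp l) :
    (h.osum l χ : ℂ) = (χ : X → ℂ) t := by
  have e := h.chi_tK (Finset.mem_filter.1 hl).2 1
  rw [OneMemClass.coe_one, mul_one] at e
  rw [e, osum, Int.cast_sum]
  exact Finset.sum_congr rfl fun μ _ => by rw [map_one, Units.val_one, mul_one]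

/-- Two involutions have product in `tK` only if it lies in `tF`. -/
theorem no_pair {k : X} (hk : k ∈ h.K) (i j : X) (hi : i * i = 1) (hj : j * j = 1)
    (e : i * j = (t * k)⁻¹) : k ∈ F := by
  have hi' : i⁻¹ = i := inv_eq_of_mul_eq_one_right hi
  have hj' : j⁻¹ = j := inv_eq_of_mul_eq_one_right hj
  have hc : ∀ {k : X}, k ∈ h.K → Commute t k := fun {k} hk =>
    (h.mem_M_iff.1 (h.K_le_M hk)).symm
  set y := t * k with hy
  have hinv : i * y * i⁻¹ = y⁻¹ := by
    have hyv : y = j * i := by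
      rw [← inv_inv y, ← e, mul_inv_rev, hi', hj']
    rw [hyv, mul_inv_rev, hi', hj', mul_assoc, mul_assoc, hi, mul_one]
  have hy' : y⁻¹ = t * k⁻¹ := by
    rw [hy, mul_inv_rev, h.tinv]
    exact ((hc hk).inv_right).symm.eq
  obtain ⟨m, hm⟩ := h.odd_K
  have hpow : ∀ k ∈ h.K, (t * k) ^ (2 * m + 1) = t := by
    intro k hk
    have e1 : k ^ (2 * m + 1) = 1 := orderOf_dvd_iff_pow_eq_one.1 (by
      rw [← hm, ← Subgroup.orderOf_mk k hk]; exact orderOf_dvd_natCard _)
    rw [(hc hk).mul_pow, e1, mul_one, pow_succ, pow_mul, pow_two, h.tt, one_pow, one_mul]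
  have hit : i * t * i⁻¹ = t := by
    have e1 := congrArg (· ^ (2 * m + 1)) hinv
    simp only [conj_pow] at e1
    rw [hy, hpow _ hk, ← hy, hy', hpow _ (inv_mem hk)] at e1
    exact e1
  have hik : i * k * i⁻¹ = k⁻¹ := by
    refine mul_left_cancel (a := t) ?_
    rw [← hy', ← hinv, hy]
    calc t * (i * k * i⁻¹) = (i * t * i⁻¹) * (i * k * i⁻¹) := by rw [hit]
      _ = i * (t * k) * i⁻¹ := by group
  obtain ⟨f, hf, d, hd, rfl⟩ := h.mem_K.1 hk
  obtain ⟨a, ha, hact⟩ := h.M_K (h.mem_M_conj.2 hit)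
  obtain ⟨f', hf', e'⟩ := hact f hf d hd
  have e2 : f' * (a * d * a⁻¹) = (d⁻¹ * f⁻¹ * d) * d⁻¹ := by
    rw [← e', hik]; group
  obtain ⟨-, e3⟩ := h.FD_ext hf' (h.D_conj_inv hd (inv_mem hf))
    (mul_mem (mul_mem ha hd) (inv_mem ha)) (inv_mem hd) e2
  have e4 : a * d * a⁻¹ = d := by
    have h2 : a * a ∈ Subgroup.centralizer ({d} : Set X) := by
      rw [Subgroup.mem_centralizer_singleton_iff, ← mul_inv_eq_iff_eq_mul]
      calc a * a * d * (a * a)⁻¹ = a * (a * d * a⁻¹) * a⁻¹ := by group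
        _ = a * d⁻¹ * a⁻¹ := by rw [e3]
        _ = (a * d * a⁻¹)⁻¹ := by group
        _ = d := by rw [e3, inv_inv]
    exact mul_inv_eq_iff_eq_mul.2
      (Subgroup.mem_centralizer_singleton_iff.1 (mem_of_sq_mem h.hAodd ha h2))
  have hd1 : d = 1 := eq_one_of_sq_of_odd h.hAodd hd (by
    nth_rewrite 2 [e4.symm.trans e3]
    exact mul_inv_cancel d)
  rwa [hd1, mul_one]

theorem Rq_cast (l : A →* ℂˣ) : (Nat.card h.K : ℂ) * (h.Rq l : ℂ) =
    ∑ f : F, ∑ χ : Cfsg.IrrCharacter X,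
      ((χ : X → ℂ) t * (χ : X → ℂ) t / (χ : X → ℂ) 1) * (χ : X → ℂ) (t * (f : X)) := by
  have h1 : (h.Rq l : ℂ) = ∑ χ : Cfsg.IrrCharacter X,
      (h.cl l χ : ℂ) * ((χ : X → ℂ) t * (χ : X → ℂ) t / (χ : X → ℂ) 1) := by
    rw [Rq, supp, Rat.cast_sum, Finset.sum_filter]
    refine Finset.sum_congr rfl fun χ _ => ?_
    by_cases hc : h.cl l χ = 0
    · simp [hc]
    · rw [if_pos hc]
      push_cast
      rw [h.osum_cast (show χ ∈ h.supp l from Finset.mem_filter.2 ⟨Finset.mem_univ _, hc⟩),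
        h.deg_cast]
      ring
  set w : Cfsg.IrrCharacter X → ℂ := fun χ =>
    (χ : X → ℂ) t * (χ : X → ℂ) t / (χ : X → ℂ) 1 with hw
  set G : h.K → ℂ := fun k =>
    ∑ χ : Cfsg.IrrCharacter X, w χ * (χ : X → ℂ) (t * k) with hG
  have h2 : (Nat.card h.K : ℂ) * (h.Rq l : ℂ) = ∑ k : h.K, conj (h.lamK l k : ℂ) * G k := by
    rw [h1, Finset.mul_sum]
    simp only [← mul_assoc, h.cl_eq, Finset.sum_mul]
    rw [Finset.sum_comm]
    refine Finset.sum_congr rfl fun k _ => ?_
    rw [hG, Finset.mul_sum]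
    exact Finset.sum_congr rfl fun χ _ => by simp only [hw]; ring
  have hzero : ∀ k : h.K, (k : X) ∉ F → G k = 0 := by
    intro k hk
    apply mul_left_cancel₀ (natCard_ne_zero (G := X))
    rw [mul_zero, hG, Finset.mul_sum]
    have hterm : ∀ χ : Cfsg.IrrCharacter X, (Nat.card X : ℂ) *
        (w χ * (χ : X → ℂ) (t * (k : X))) =
        ∑ g : X, (χ : X → ℂ) (t * (g * t * g⁻¹)) * conj ((χ : X → ℂ) (t * (k : X))⁻¹) := by
      intro χ
      rw [← Finset.sum_mul, CfsgLib.BlockB.sum_irr_mul_conj,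
        char_inv (irr_isCharacter χ.2), Complex.conj_conj]
      simp only [hw]
      ring
    rw [Finset.sum_congr rfl fun χ _ => hterm χ, Finset.sum_comm]
    refine Finset.sum_eq_zero fun g _ => ?_
    rw [column_count]
    refine Finset.sum_eq_zero fun a _ => if_neg fun e => hk ?_
    refine h.no_pair k.2 (a * t * a⁻¹) (a * (g * t * g⁻¹) * a⁻¹) ?_ ?_ ?_
    · calc a * t * a⁻¹ * (a * t * a⁻¹) = a * (t * t) * a⁻¹ := by group
        _ = 1 := by rw [h.tt]; group
    · calc a * (g * t * g⁻¹) * a⁻¹ * (a * (g * t * g⁻¹) * a⁻¹)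
          = a * g * (t * t) * g⁻¹ * a⁻¹ := by group
        _ = 1 := by rw [h.tt]; group
    · rw [← e]; group
  rw [h2, ← Finset.sum_subset (Finset.subset_univ
      (Finset.univ.image (Subgroup.inclusion h.F_le_K))) fun k _ hk => ?_,
    Finset.sum_image (Subgroup.inclusion_injective h.F_le_K).injOn]
  · refine Finset.sum_congr rfl fun f _ => ?_
    rw [h.lamK_apply f.2 (d := 1) (mul_one _).symm, map_one, Units.val_one, map_one, one_mul]
    rfl
  · rw [hzero k fun hkF => hk (Finset.mem_image.2 ⟨⟨k, hkF⟩, Finset.mem_univ _, rfl⟩), mul_zero]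

theorem Rq_const (l : A →* ℂˣ) : h.Rq l = h.Rq 1 := by
  apply Rat.cast_injective (α := ℂ)
  exact mul_left_cancel₀ (natCard_ne_zero (G := h.K)) ((h.Rq_cast l).trans (h.Rq_cast 1).symm)

theorem cl_deg_sum (l : A →* ℂˣ) : ∑ χ ∈ h.supp l, (h.deg χ : ℤ) * h.cl l χ = 0 := by
  apply Int.cast_injective (α := ℂ)
  push_cast
  simp only [h.deg_cast]
  rw [supp, Finset.sum_filter]
  refine Eq.trans (Finset.sum_congr rfl fun χ _ => ?_) (h.cl_degree l)
  by_cases hc : h.cl l χ = 0 <;> simp [hc]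

theorem cl_sign {l : A →* ℂˣ} {χ : Cfsg.IrrCharacter X} (hχ : χ ∈ h.supp l) :
    h.cl l χ = 1 ∨ h.cl l χ = -1 :=
  ((h.cl_cases l).1 χ).resolve_left (Finset.mem_filter.1 hχ).2

theorem osum_fixed {l : A →* ℂˣ} (hl : l.comp h.sig = l) (χ : Cfsg.IrrCharacter X) :
    h.osum l χ = h.cl l χ := by
  simp [osum, orbit, hl]

theorem deg_ge' [IsSimpleGroup X] {l : A →* ℂˣ} {χ : Cfsg.IrrCharacter X} (hχ : χ ∈ h.supp l)
    (hne : χ ≠ h.onec) : (12 : ℚ) ≤ h.deg χ := by
  exact_mod_cast h.deg_ge (Finset.mem_filter.1 hχ).2 (fun e => hne (Subtype.ext e))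
    (h.deg_cast χ).symm

theorem term_bound [IsSimpleGroup X] {l : A →* ℂˣ} (hfix : l.comp h.sig = l)
    {χ : Cfsg.IrrCharacter X} (hχ : χ ∈ h.supp l) (hne : χ ≠ h.onec) :
    |(h.cl l χ : ℚ) * ((h.osum l χ : ℚ) * h.osum l χ) / h.deg χ| ≤ 1 / 12 := by
  have hd := h.deg_ge' hχ hne
  have e : |(h.cl l χ : ℚ) * ((h.osum l χ : ℚ) * h.osum l χ)| = 1 := by
    rw [h.osum_fixed hfix]
    rcases h.cl_sign hχ with e | e <;> rw [e] <;> norm_num
  rw [abs_div, e, abs_of_pos (by linarith : (0 : ℚ) < h.deg χ)]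
  exact one_div_le_one_div_of_le (by norm_num) hd

theorem Rq_one_ge [IsSimpleGroup X] : (3 / 4 : ℚ) ≤ h.Rq 1 := by
  have hfix : (1 : A →* ℂˣ).comp h.sig = 1 := MonoidHom.one_comp _
  have h1mem : h.onec ∈ h.supp 1 := Finset.mem_filter.2 ⟨Finset.mem_univ _, by
    rw [h.cl_onec, if_pos rfl]; norm_num⟩
  have hdone : h.deg h.onec = 1 := by
    have : (h.deg h.onec : ℂ) = 1 := h.deg_cast _
    exact_mod_cast this
  have hcard : ((h.supp 1).erase h.onec).card = 3 := by
    rw [Finset.card_erase_of_mem h1mem, show (h.supp 1).card = 4 from (h.cl_cases 1).2]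
  have hlow := Finset.card_nsmul_le_sum ((h.supp 1).erase h.onec)
    (fun χ => (h.cl 1 χ : ℚ) * ((h.osum 1 χ : ℚ) * h.osum 1 χ) / h.deg χ) (-1 / 12) fun χ hχ => by
      have := (abs_le.1 (h.term_bound hfix (Finset.mem_of_mem_erase hχ) (Finset.ne_of_mem_erase hχ))).1
      linarith
  rw [hcard] at hlow
  rw [Rq, ← Finset.add_sum_erase _ _ h1mem, h.osum_fixed hfix, h.cl_onec, if_pos rfl, hdone]
  norm_num at hlow ⊢
  linarith

theorem onec_notMem {l : A →* ℂˣ} (hl : l ≠ 1) : h.onec ∉ h.supp l := fun e =>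
  (Finset.mem_filter.1 e).2 (by rw [h.cl_onec, if_neg hl])

theorem not_fixed [IsSimpleGroup X] {l : A →* ℂˣ} (hl : l ≠ 1) : l.comp h.sig ≠ l := by
  intro hfix
  have hub := Finset.sum_le_card_nsmul (h.supp l)
    (fun χ => (h.cl l χ : ℚ) * ((h.osum l χ : ℚ) * h.osum l χ) / h.deg χ) (1 / 12) fun χ hχ =>
      (abs_le.1 (h.term_bound hfix hχ fun e => h.onec_notMem hl (e ▸ hχ))).2
  rw [show (h.supp l).card = 4 from (h.cl_cases l).2] at hub
  have hlb := h.Rq_one_ge
  rw [← h.Rq_const l, Rq] at hlb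
  norm_num at hub
  linarith

theorem moved_false [IsSimpleGroup X] {l : A →* ℂˣ} (hl : l ≠ 1) (hmv : l.comp h.sig ≠ l) :
    False := by
  set l1 := l.comp h.sig with hl1
  set l2 := l1.comp h.sig with hl2
  have h3 : l2.comp h.sig = l := h.comp_sig_cube l
  have h02 : l2 ≠ l := fun e => hmv (by rw [e] at h3; exact h3)
  have h12 : l2 ≠ l1 := fun e => hmv (by
    have : l1.comp h.sig = l := by rw [← e]; exact h3
    rw [← hl2] at this
    exact (e.symm.trans this))
  have hs1 : h.supp l1 = h.supp l := Finset.filter_congr fun χ _ => h.cl_sig_ne_zero l χ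
  have hs2 : h.supp l2 = h.supp l :=
    (Finset.filter_congr fun χ _ => h.cl_sig_ne_zero l1 χ).trans hs1
  let e : Fin 4 ≃ h.supp l := ((Fintype.equivFinOfCardEq
    ((Fintype.card_coe _).trans (show (h.supp l).card = 4 from (h.cl_cases l).2))).symm)
  have hsum : ∀ g : Cfsg.IrrCharacter X → ℤ, ∑ χ ∈ h.supp l, g χ = ∑ i, g (e i) := fun g => by
    rw [← Finset.sum_coe_sort]
    exact (e.sum_comp fun χ => g χ).symm
  have ho : ∀ a b : A →* ℂˣ, a ≠ b → h.supp a = h.supp l →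
      ∑ i, h.cl a (e i) * h.cl b (e i) = 0 := by
    intro a b hab ha
    rw [← hsum fun χ => h.cl a χ * h.cl b χ, ← ha, supp, Finset.sum_filter]
    refine Eq.trans (Finset.sum_congr rfl fun χ _ => ?_) ((h.cl_norm a b).trans (if_neg hab))
    by_cases hc : h.cl a χ = 0 <;> simp [hc]
  have hp : ∀ a : A →* ℂˣ, h.supp a = h.supp l → ∑ i, (h.deg (e i) : ℤ) * h.cl a (e i) = 0 := by
    intro a ha
    rw [← hsum fun χ => (h.deg χ : ℤ) * h.cl a χ, ← ha]
    exact h.cl_deg_sum a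
  have hsgn : ∀ a : A →* ℂˣ, h.supp a = h.supp l → ∀ i, h.cl a (e i) = 1 ∨ h.cl a (e i) = -1 :=
    fun a ha i => h.cl_sign (ha.symm ▸ (e i).2)
  obtain ⟨hd, habs⟩ := sign_orth (v0 := fun i => h.cl l (e i)) (v1 := fun i => h.cl l1 (e i))
    (v2 := fun i => h.cl l2 (e i)) (d := fun i => (h.deg (e i) : ℤ))
    (hsgn l rfl) (hsgn l1 hs1) (hsgn l2 hs2)
    (fun i => by exact_mod_cast h.deg_pos _) (ho l l1 (Ne.symm hmv) rfl) (ho l l2 (Ne.symm h02) rfl)
    (ho l1 l2 (Ne.symm h12) hs1) (hp l rfl) (hp l1 hs1) (hp l2 hs2)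
  have hos : ∀ i, h.osum l (e i) = h.cl l (e i) + h.cl l1 (e i) + h.cl l2 (e i) := fun i => by
    rw [osum, orbit, ← hl1, ← hl2, Finset.sum_insert (by simp [Ne.symm hmv, Ne.symm h02]),
      Finset.sum_pair (Ne.symm h12)]
    ring
  set z := h.deg (e 0) with hz
  have hzd : ∀ i, h.deg (e i) = z := fun i => by exact_mod_cast hd i
  have hzge : (12 : ℚ) ≤ z := h.deg_ge' (e 0).2 fun e' => h.onec_notMem hl (e' ▸ (e 0).2)
  set N : ℤ := ∑ i, h.cl l (e i) *
    ((h.cl l (e i) + h.cl l1 (e i) + h.cl l2 (e i)) *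
      (h.cl l (e i) + h.cl l1 (e i) + h.cl l2 (e i))) with hN
  have hR : h.Rq l = (N : ℚ) / z := by
    rw [Rq, ← Finset.sum_coe_sort, hN, Int.cast_sum, Finset.sum_div]
    rw [← e.sum_comp]
    refine Finset.sum_congr rfl fun i _ => ?_
    rw [hos, hzd]
    push_cast
    rfl
  have hN8 : (N : ℚ) ≤ 8 := by
    have h8 : |N| = 8 := habs
    exact_mod_cast (le_abs_self N).trans h8.le
  have hlb := h.Rq_one_ge
  rw [← h.Rq_const l, hR, le_div_iff₀ (by linarith)] at hlb
  linarith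

theorem false_of_fintype [IsSimpleGroup X] : False := by
  obtain ⟨d, hd, f, hf, hne⟩ := h.hmove
  have : Nontrivial A := ⟨⟨⟨d, hd⟩, 1, fun e => hne (by
    rw [show d = 1 from congrArg Subtype.val e, one_mul, mul_one])⟩⟩
  have : Group.IsSolvable A := CfsgLib.FT.odd_order_solvable h.hAodd
  have hidx : (commutator A).index ≠ 1 := fun e =>
    (Group.IsSolvable.commutator_lt_top_of_nontrivial A).ne (Subgroup.index_eq_one.1 e)
  obtain ⟨l, hl⟩ : ∃ l : A →* ℂˣ, l ≠ 1 := by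
    by_contra hc
    push Not at hc
    exact hidx (by
      rw [← natCard_linear, Nat.card_eq_one_iff_exists]
      exact ⟨1, hc⟩)
  exact h.moved_false hl (h.not_fixed hl)

end TwistCent

/-- A simple group has no such centralizer. -/
theorem TwistCent.false {X : Type v} [Group X] [Finite X] [IsSimpleGroup X] {t u n : X}
    {F A : Subgroup X} (h : TwistCent t u n F A) : False := by
  have := Fintype.ofFinite X
  have := Fintype.ofFinite (Cfsg.IrrCharacter X)
  exact h.false_of_fintype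

end CfsgLib.GW.Twist
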