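import Cfsg.Agent.Lib.GW.Assembly
import Cfsg.Agent.Lib.GW.Twist.KleinMain

/-!
The twist lemma for a minimal counterexample with four-group Sylow 2-subgroups.
-/

set_option autoImplicit false

namespace CfsgLib.GW

open Subgroup CfsgLib.Invol

universe u

/-- `O(C(a)) ∩ C(b)` centralises the part inverted by `b`, for Sylow 2-subgroups of order four. -/
theorem twist_klein :
    ∀ (G : Type u) [Group G] [Finite G], Min G →
    (∀ x : G, orderOf x = 2 → IsCoatom (cI x)) →
    ∀ (T : Sylow 2 G) (a b g : G), Four a b g → a ∈ (T : Subgroup G) → (T : Subgroup G) ≤ cI a →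
      b ∈ (T : Subgroup G) →
      (∀ s ∈ (T : Subgroup G), orderOf s = 2 → ∀ p : ℕ, p.Prime →
        fitP a p ≤ cI s ∨ ∀ x ∈ fitP a p, s * x * s⁻¹ = x⁻¹) →
      (∀ s ∈ (T : Subgroup G), ∀ x ∈ coreC a, s ^ 2 * x = x * s ^ 2) →
      ∀ F : Subgroup G, F ≤ fitC a → coreC a = F ⊔ (coreC a ⊓ cI b) →
        (∀ x ∈ cI a, ∀ f ∈ F, x * f * x⁻¹ ∈ F) →
        (∀ x ∈ F, ∀ y ∈ F, x * y = y * x) → (∀ x ∈ F, b * x * b⁻¹ = x⁻¹) →
        Nat.card (T : Subgroup G) = 4 →
        coreC a ⊓ cI b ≤ centralizer (F : Set G) := by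
  intro G _ _ M _ T a b g hg haT hT hbT _ _ F hFf hO hnorm hcomm hinv hT4
  have := M.simple
  intro d hd
  rw [mem_centralizer_iff]
  intro f hf
  by_contra hne
  have hFO : F ≤ coreC a := hFf.trans (fitC_le_coreC a)
  have hFodd : Odd (Nat.card F) := (odd_coreC a).of_dvd_nat (card_dvd_of_le hFO)
  have hsup : zpowers a ⊔ zpowers b ≤ (T : Subgroup G) :=
    sup_le (zpowers_le.2 haT) (zpowers_le.2 hbT)
  have hTeq : (T : Subgroup G) = zpowers a ⊔ zpowers b := by
    refine (eq_of_le_of_card_ge hsup ?_).symm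
    have h3 : 2 < Nat.card ↥(zpowers a ⊔ zpowers b) := by
      have := Fintype.ofFinite ↥(zpowers a ⊔ zpowers b)
      rw [Nat.card_eq_fintype_card, Fintype.two_lt_card_iff]
      refine ⟨1, ⟨a, mem_sup_left (mem_zpowers a)⟩, ⟨b, mem_sup_right (mem_zpowers b)⟩, ?_, ?_, ?_⟩
      · exact fun e => invol_ne_one hg.ha (congrArg Subtype.val e).symm
      · exact fun e => invol_ne_one hg.hb (congrArg Subtype.val e).symm
      · exact fun e => hg.hab (congrArg Subtype.val e)
    have hdvd := card_dvd_of_le hsup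
    rw [hT4] at hdvd ⊢
    have hle := Nat.le_of_dvd (by norm_num) hdvd
    by_contra hlt
    push Not at hlt
    have e3 : Nat.card ↥(zpowers a ⊔ zpowers b) = 3 := by omega
    rw [e3] at hdvd
    norm_num at hdvd
  refine (Twist.TwistCent.false (t := a) (u := b) (n := g) (F := F) (A := coreC a ⊓ cI b)
    { ht := hg.ha
      hu := hg.hb
      htu := hg.comm
      hne := hg.hab
      hsyl := ⟨T, hTeq⟩
      hn := ⟨hg.ga, hg.gb⟩
      hFcomm := hcomm
      hFodd := hFodd
      hFu := hinv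
      hFt := fun x hx => (mem_cI.1 (coreC_le_cI a (hFO hx))).symm
      hAodd := (odd_coreC a).of_dvd_nat (card_dvd_of_le inf_le_left)
      hAt := fun x hx => (mem_cI.1 (coreC_le_cI a hx.1)).symm
      hAu := fun x hx => (mem_cI.1 hx.2).symm
      hAn := fun x hx => by
        rw [M.inf_cI_eq hg.hb] at hx ⊢
        exact Four.rot_core M hg hx
      hAF := fun x hx y hy => hnorm x (coreC_le_cI a hx.1) y hy
      hdisj := ?_
      hcent := ?_
      hmove := ⟨d, hd, f, hf, fun e => hne e.symm⟩ })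
  · refine (eq_bot_iff_forall _).2 fun x hx => ?_
    have e1 := hinv x hx.1
    rw [← mem_cI.1 hx.2.2, mul_inv_cancel_right] at e1
    exact CfsgLib.Recog.NonCA.eq_one_of_sq_of_odd hFodd hx.1 (by
      nth_rewrite 2 [e1]
      exact mul_inv_cancel x)
  · refine le_antisymm ((M.cI_le_sup T hg.ha hT).trans ?_) ?_
    · rw [hTeq, sup_assoc (zpowers a ⊔ zpowers b) F, ← hO, sup_comm]
    · rw [← hTeq, sup_assoc, ← hO]
      exact sup_le hT (coreC_le_cI a)

end CfsgLib.GW
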