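import Cfsg.Agent.Lib.GW.Twist.InvRotUnique

/-!
# An involution centraliser with dihedral Sylow subgroup: invariant characters are trivial

Nonprincipal constituents have degree at least `6q`; the involution count does not depend on the
character, is at least `1 - 4/25` at the principal one and at most `5/8` at the others.
-/

set_option autoImplicit false
set_option linter.unusedSectionVars false
set_option linter.unusedDecidableInType false

namespace CfsgLib.GW.Twist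

open CfsgLib.Char CfsgLib.Invol CfsgLib.BlockA.DihedralBlock
open CfsgLib.Recog.NonCA (eq_one_of_sq_of_odd mem_of_sq_mem irr_degree_nat column_count
  sum_conj_mul_hom conj_hom_apply hom_eq_one_of_sq)
open scoped ComplexConjugate

universe v

namespace InvRot

open scoped _root_.Classical

section Degree

variable {X : Type v} [Group X] [Fintype X] {T : Sylow 2 X} {D : DihData (T : Subgroup X)} {u : X}
  {K F A : Subgroup X} (h : InvRot T D u K F A)
include h

/-- The multiplicity of a nonprincipal character of `F` is a multiple of `q`. -/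
theorem mult_dvd {χ : Cfsg.IrrCharacter X}
    (hc : ∀ i : ZMod (2 * D.h), i ≠ 0 → ∀ f ∈ F, (χ : X → ℂ) (h.rp i * f) = (χ : X → ℂ) (h.rp i))
    {p : F →* ℂˣ} (hp : p ≠ 1) : ∃ k : ℕ,
      Cfsg.classInner (fun f : F => (χ : X → ℂ) f) (fun f => (p f : ℂ)) =
        ((2 * D.h * k : ℕ) : ℂ) := by
  let j : Multiplicative (ZMod (2 * D.h)) × F →* X :=
    h.rpHom.noncommCoprod F.subtype fun x k => h.rp_comm_F x.toAdd k.2
  obtain ⟨k, hk⟩ := classInner_isCharacter_nat (isCharacter_comp (irr_isCharacter χ.2) j)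
    (irr_isCharacter (isIrrCharacter_linear
      (p.comp (MonoidHom.snd (Multiplicative (ZMod (2 * D.h))) F))))
  refine ⟨k, ?_⟩
  rw [classInner_def, Nat.card_prod, Fintype.sum_prod_type,
    Nat.card_congr Multiplicative.toAdd, Nat.card_zmod,
    Finset.sum_eq_single (1 : Multiplicative (ZMod (2 * D.h)))] at hk
  · rw [Nat.cast_mul (2 * D.h) k, ← hk, classInner_def, Nat.cast_mul (2 * D.h), mul_inv,
      ← mul_assoc, ← mul_assoc, mul_inv_cancel₀ (h.q_ne), one_mul]
    congr 1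
    refine Finset.sum_congr rfl fun f _ => ?_
    simp only [Function.comp_apply, MonoidHom.coe_comp, MonoidHom.coe_snd]
    refine congrArg₂ (· * ·) (congrArg (χ : X → ℂ) ?_) rfl
    show (f : X) = h.rp 0 * f
    rw [h.rp_zero, one_mul]
  · intro x _ hx
    have hx' : x.toAdd ≠ 0 := fun e => hx (Multiplicative.toAdd.injective e)
    have e := sum_conj_mul_hom p 1
    simp only [MonoidHom.one_apply, Units.val_one, mul_one, if_neg (Ne.symm hp)] at e
    calc ∑ f : F, ((χ : X → ℂ) ∘ j) (x, f) *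
          conj ((p.comp (MonoidHom.snd (Multiplicative (ZMod (2 * D.h))) F) (x, f) : ℂˣ) : ℂ)
        = ∑ f : F, (χ : X → ℂ) (h.rp x.toAdd) * conj (p f : ℂ) :=
          Finset.sum_congr rfl fun f _ => congrArg₂ (· * ·) (hc _ hx' f f.2) rfl
      _ = 0 := by rw [← Finset.mul_sum, e, mul_zero]
  · simp

/-- Multiplicities are invariant under elements normalising `F`. -/
theorem mult_conj (χ : Cfsg.IrrCharacter X) {g : X} (hg : ∀ f ∈ F, g * f * g⁻¹ ∈ F)
    {p q : F →* ℂˣ} (hq : ∀ f : F, q f = p ⟨g * f * g⁻¹, hg f f.2⟩) :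
    Cfsg.classInner (fun f : F => (χ : X → ℂ) f) (fun f => (q f : ℂ)) =
      Cfsg.classInner (fun f : F => (χ : X → ℂ) f) (fun f => (p f : ℂ)) := by
  have hinj : Function.Injective fun f : F => (⟨g * f * g⁻¹, hg f f.2⟩ : F) := fun a b e =>
    Subtype.ext (by simpa using congrArg Subtype.val e)
  rw [classInner_def, classInner_def]
  congr 1
  refine Fintype.sum_bijective _ ⟨hinj, Finite.surjective_of_injective hinj⟩ _ _ fun f => ?_
  rw [hq f, irr_isClassFunction χ.2 (f : X) g]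

/-- Conjugation by an element of `A` on `F`. -/
def cA (a : A) : F →* F := MonoidHom.mk' (fun f => ⟨a * f * (a : X)⁻¹, h.hAF a a.2 f f.2⟩)
  fun a b => Subtype.ext (by simp [mul_assoc])

theorem cA_comp (a b : A) (p : F →* ℂˣ) : (p.comp (h.cA a)).comp (h.cA b) = p.comp (h.cA (a * b)) :=
  MonoidHom.ext fun f => congrArg p (Subtype.ext (by simp [cA, mul_assoc]))

theorem cA_one (p : F →* ℂˣ) : p.comp (h.cA 1) = p :=
  MonoidHom.ext fun f => congrArg p (Subtype.ext (by simp [cA]))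

/-- The degree of a nonprincipal character constant on the sections of `F` is at least `6q`. -/
theorem deg_ge [IsSimpleGroup X] {χ : Cfsg.IrrCharacter X}
    (hc : ∀ i : ZMod (2 * D.h), i ≠ 0 → ∀ f ∈ F, (χ : X → ℂ) (h.rp i * f) = (χ : X → ℂ) (h.rp i))
    (hne : (χ : X → ℂ) ≠ fun _ => 1) {d : ℕ} (hd : (χ : X → ℂ) 1 = d) :
    6 * (2 * D.h) ≤ d := by
  have hFc : ∀ a b : F, a * b = b * a := fun a b => Subtype.ext (h.hFcomm _ a.2 _ b.2)
  have : Finite (F →* ℂˣ) := Nat.finite_of_card_ne_zero (by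
    rw [natCard_linear]; exact Subgroup.index_ne_zero_of_finite)
  have := Fintype.ofFinite (F →* ℂˣ)
  have hnat : ∀ p : F →* ℂˣ, ∃ m : ℕ,
      Cfsg.classInner (fun f : F => (χ : X → ℂ) f) (fun f => (p f : ℂ)) = m := fun p =>
    classInner_isCharacter_nat (isCharacter_restrict (irr_isCharacter χ.2) F)
      (irr_isCharacter (isIrrCharacter_linear p))
  choose m hm using hnat
  have hinv : ∀ b : F, ∑ p : F →* ℂˣ, (m p : ℂ) * (p b : ℂ) = (χ : X → ℂ) b := fun b => by
    simp only [← hm]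
    exact linear_expand hFc _ b
  have hsum : ∑ p : F →* ℂˣ, m p = d := by
    have h1 := hinv 1
    simp only [map_one, Units.val_one, mul_one, OneMemClass.coe_one] at h1
    rw [hd] at h1
    exact_mod_cast h1
  have hconj : ∀ (a : A) (p : F →* ℂˣ), m (p.comp (h.cA a)) = m p := fun a p => by
    apply Nat.cast_injective (R := ℂ)
    rw [← hm, ← hm]
    exact h.mult_conj χ (g := a) (h.hAF a a.2) fun f => rfl
  have hinvm : ∀ p : F →* ℂˣ, m p⁻¹ = m p := fun p => by
    apply Nat.cast_injective (R := ℂ)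
    rw [← hm, ← hm]
    refine h.mult_conj χ (g := u) (fun f hf => h.T_F h.huT hf) fun f => ?_
    rw [MonoidHom.inv_apply, ← map_inv]
    exact congrArg p (Subtype.ext (h.hFu f f.2).symm)
  have heven : ∀ p : F →* ℂˣ, p ≠ 1 → 0 < m p → 2 * D.h ≤ m p := fun p hp hpos => by
    obtain ⟨k, hk⟩ := h.mult_dvd hc hp
    rw [hm] at hk
    have : m p = 2 * D.h * k := by exact_mod_cast hk
    rcases Nat.eq_zero_or_pos k with rfl | hk0
    · omega
    · rw [this]; exact Nat.le_mul_of_pos_right _ hk0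
  obtain ⟨a0, ha0, f0, hf0, hne0⟩ := h.hmove
  set a : A := ⟨a0, ha0⟩
  obtain ⟨p, hpm, hpa⟩ : ∃ p : F →* ℂˣ, 0 < m p ∧ p.comp (h.cA a) ≠ p := by
    by_contra hc
    push Not at hc
    set x : F := h.cA a ⟨f0, hf0⟩ * (⟨f0, hf0⟩ : F)⁻¹
    have hx : (χ : X → ℂ) x = (χ : X → ℂ) 1 := by
      rw [← hinv x, hd, ← hsum, Nat.cast_sum]
      refine Finset.sum_congr rfl fun p _ => ?_
      rcases Nat.eq_zero_or_pos (m p) with e | e
      · simp [e]
      · have e2 := DFunLike.congr_fun (hc p e) ⟨f0, hf0⟩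
        rw [MonoidHom.comp_apply] at e2
        rw [map_mul, map_inv, e2, mul_inv_cancel, Units.val_one, mul_one]
    have hx1 : a0 * f0 * a0⁻¹ * f0⁻¹ = 1 := faithful χ hne hx
    exact hne0 (by rwa [mul_inv_eq_one, mul_inv_eq_iff_eq_mul] at hx1)
  have hp1 : p ≠ 1 := fun e => hpa (by rw [e, MonoidHom.one_comp])
  let S : Subgroup A :=
    { carrier := {b | p.comp (h.cA b) = p}
      one_mem' := h.cA_one p
      mul_mem' := fun {b c} hb hc => by
        show p.comp (h.cA (b * c)) = p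
        rw [← h.cA_comp, show p.comp (h.cA b) = p from hb, hc]
      inv_mem' := fun {b} hb => by
        show p.comp (h.cA b⁻¹) = p
        conv_lhs => rw [← show p.comp (h.cA b) = p from hb]
        rw [h.cA_comp, mul_inv_cancel, h.cA_one] }
  have hsqS : ∀ b : A, b * b ∈ S → b ∈ S := fun b hb =>
    mem_of_sq_mem (H := (⊤ : Subgroup A)) (by rw [Subgroup.card_top]; exact h.hAodd)
      (Subgroup.mem_top b) hb
  have hneg : ∀ b : A, p.comp (h.cA b) ≠ p⁻¹ := fun b e => by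
    have hb : b ∈ S := hsqS b (by
      show p.comp (h.cA (b * b)) = p
      rw [← h.cA_comp, e, MonoidHom.inv_comp, e, inv_inv])
    rw [show p.comp (h.cA b) = p from hb] at e
    refine hp1 (hom_eq_one_of_sq h.hFodd fun f => ?_)
    nth_rewrite 1 [e]
    rw [MonoidHom.inv_apply, inv_mul_cancel]
  have hsame : ∀ b c : A, p.comp (h.cA b) = p.comp (h.cA c) → b * c⁻¹ ∈ S := fun b c e => by
    show p.comp (h.cA (b * c⁻¹)) = p
    rw [← h.cA_comp, e, h.cA_comp, mul_inv_cancel, h.cA_one]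
  set q : A → (F →* ℂˣ) := fun b => p.comp (h.cA b) with hq
  have hqneg : ∀ b c : A, q b ≠ (q c)⁻¹ := fun b c e => hneg (b * c⁻¹) (by
    rw [← h.cA_comp, show p.comp (h.cA b) = (p.comp (h.cA c))⁻¹ from e, MonoidHom.inv_comp,
      h.cA_comp, mul_inv_cancel, h.cA_one])
  set T : Finset (F →* ℂˣ) := {q 1, q a, q (a * a)} with hT
  have haS : a ∉ S := hpa
  have h01 : q 1 ≠ q a := fun e => haS (by simpa using inv_mem (hsame _ _ e))
  have h02 : q 1 ≠ q (a * a) := fun e => haS (hsqS a (by simpa using inv_mem (hsame _ _ e)))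
  have h12 : q a ≠ q (a * a) := fun e => haS (by simpa using inv_mem (hsame _ _ e))
  have hTcard : T.card = 3 := by simp [hT, h01, h02, h12]
  have hTq : ∀ r ∈ T, ∃ b, r = q b := fun r hr => by
    simp only [hT, Finset.mem_insert, Finset.mem_singleton] at hr
    rcases hr with e | e | e <;> exact ⟨_, e⟩
  have hdisj : Disjoint T (T.image fun r => r⁻¹) := by
    rw [Finset.disjoint_left]
    intro r hr hr'
    obtain ⟨r', hr'', e⟩ := Finset.mem_image.1 hr'
    obtain ⟨b, rfl⟩ := hTq r hr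
    obtain ⟨c, rfl⟩ := hTq r' hr''
    exact hqneg b c e.symm
  have hmem : ∀ r ∈ T ∪ T.image fun r => r⁻¹, 2 * D.h ≤ m r := by
    intro r hr
    have key : ∀ b, 2 * D.h ≤ m (q b) := fun b => by
      rw [hq, hconj]
      exact heven p hp1 hpm
    rcases Finset.mem_union.1 hr with hr | hr
    · obtain ⟨b, rfl⟩ := hTq r hr; exact key b
    · obtain ⟨r', hr', rfl⟩ := Finset.mem_image.1 hr
      obtain ⟨b, rfl⟩ := hTq r' hr'
      rw [hinvm]; exact key b
  rw [← hsum]
  refine le_trans ?_ (Finset.sum_le_sum_of_subset (Finset.subset_univ (T ∪ T.image fun r => r⁻¹)))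
  refine le_trans ?_ (Finset.card_nsmul_le_sum _ _ _ hmem)
  rw [Finset.card_union_of_disjoint hdisj,
    Finset.card_image_of_injective (f := fun r : F →* ℂˣ => r⁻¹) T (fun a b e => inv_injective e), hTcard]
  simp only [smul_eq_mul]
  omega

end Degree

variable {X : Type v} [Group X] [Fintype X] [Fintype (Cfsg.IrrCharacter X)] {T : Sylow 2 X}
  {D : DihData (T : Subgroup X)} {u : X} {K F A : Subgroup X} (h : InvRot T D u K F A)
include h

local notation "q" => (2 * D.h)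
local notation "Z" => ZMod (2 * D.h)

/-- The principal character. -/
def onec (_h : InvRot T D u K F A) : Cfsg.IrrCharacter X := ⟨fun _ => 1, isIrrCharacter_one⟩

/-- The degree. -/
noncomputable def deg (_h : InvRot T D u K F A) (χ : Cfsg.IrrCharacter X) : ℕ :=
  (irr_degree_nat χ).choose

theorem deg_pos (χ : Cfsg.IrrCharacter X) : 0 < h.deg χ := (irr_degree_nat χ).choose_spec.1

theorem deg_cast (χ : Cfsg.IrrCharacter X) : (h.deg χ : ℂ) = (χ : X → ℂ) 1 :=
  (irr_degree_nat χ).choose_spec.2.symm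

/-- The constituents. -/
noncomputable def supp (l : h.ULin) : Finset (Cfsg.IrrCharacter X) :=
  Finset.univ.filter fun χ => h.P (h.lamIrr l) χ ≠ 0

theorem card_supp (l : h.ULin) : (h.supp l).card = 3 := by
  have hfix := h.lamIrr_fix l
  have e : ((h.supp l).card : ℤ) = 3 := by
    rw [← h.P_norm hfix, supp, Finset.card_filter, Nat.cast_sum]
    refine Finset.sum_congr rfl fun χ _ => ?_
    obtain ⟨h1, h2⟩ := abs_le.1 (h.P_abs hfix χ)
    rcases (by omega : h.P (h.lamIrr l) χ = -1 ∨ h.P (h.lamIrr l) χ = 0 ∨ h.P (h.lamIrr l) χ = 1)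
      with e | e | e <;> rw [e] <;> norm_num
  exact_mod_cast e

/-- The involution count attached to `l`. -/
noncomputable def Rq (l : h.ULin) : ℚ :=
  ∑ χ ∈ h.supp l, (h.P (h.lamIrr l) χ : ℚ) *
    ((h.fh (h.lamIrr l) χ : ℚ) * h.fh (h.lamIrr l) χ) / h.deg χ

theorem fh_value {l : h.ULin} {χ : Cfsg.IrrCharacter X} (hl : χ ∈ h.supp l) :
    (h.fh (h.lamIrr l) χ : ℂ) = (χ : X → ℂ) (dz T D) := by
  have e := h.chi_sect (Finset.mem_filter.1 hl).2 h.half_ne_zero 1
  rw [OneMemClass.coe_one, mul_one, h.rp_half, map_one, Units.val_one, mul_one] at e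
  rw [h.fh_cast, e]

/-- Two involutions have product in a section only at elements inverted in `C(a)`. -/
theorem no_pair {i : Z} (hi : i ≠ 0) {k : X} (hk : k ∈ K) (a b : X) (ha : a * a = 1)
    (hb : b * b = 1) (e : a * b = (h.rp i * k)⁻¹) : ∃ g ∈ h.M, g * k * g⁻¹ = k⁻¹ := by
  have ha' : a⁻¹ = a := inv_eq_of_mul_eq_one_right ha
  have hb' : b⁻¹ = b := inv_eq_of_mul_eq_one_right hb
  set y := h.rp i * k with hy
  have hinv : a * y * a⁻¹ = y⁻¹ := by
    have hyv : y = b * a := by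
      rw [← inv_inv y, ← e, mul_inv_rev, ha', hb']
    rw [hyv, mul_inv_rev, ha', hb', mul_assoc, mul_assoc, ha, mul_one]
  have hy' : y⁻¹ = h.rp (-i) * k⁻¹ := by
    rw [hy, mul_inv_rev, h.rp_neg]
    exact (((show Commute (h.rp i) k from h.rp_comm_K i hk).inv_inv).symm).eq
  rw [hy'] at hinv
  have haM := h.sect hi hk (inv_mem hk) hinv
  obtain ⟨w, hw, k0, hk0, hwk⟩ := h.mem_M.1 haM
  have hak : a * k * a⁻¹ = w * (k0 * k * k0⁻¹) * w⁻¹ := by rw [hwk]; group
  have hakK : a * k * a⁻¹ ∈ K := hak ▸ h.T_K hw (mul_mem (mul_mem hk0 hk) (inv_mem hk0))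
  have hai : a * h.rp i * a⁻¹ = w * h.rp i * w⁻¹ := by
    rw [hwk]
    calc w * k0 * h.rp i * (w * k0)⁻¹ = w * (k0 * h.rp i) * k0⁻¹ * w⁻¹ := by group
      _ = w * (h.rp i * k0) * k0⁻¹ * w⁻¹ := by rw [h.rp_comm_K i hk0]
      _ = _ := by group
  have hik : a * k * a⁻¹ = k⁻¹ := by
    refine (h.decomp (w := a * h.rp i * a⁻¹) ?_ (h.rp_mem (-i)) hakK (inv_mem hk) ?_).2
    · rw [hai]; exact mul_mem (mul_mem hw (h.rp_mem i)) (inv_mem hw)
    · rw [← hinv, hy]; group
  exact ⟨a, haM, hik⟩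

theorem Rq_cast (l : h.ULin) :
    ((q : ℕ) : ℂ) * (Nat.card K : ℂ) * (h.Rq l : ℂ) =
      ∑ i : Z, (1 - psi D (-i)) * ∑ k : K, ∑ χ : Cfsg.IrrCharacter X,
        ((χ : X → ℂ) (dz T D) * (χ : X → ℂ) (dz T D) / (χ : X → ℂ) 1) *
          (χ : X → ℂ) (h.rp i * (k : X)) := by
  set w : Cfsg.IrrCharacter X → ℂ := fun χ =>
    (χ : X → ℂ) (dz T D) * (χ : X → ℂ) (dz T D) / (χ : X → ℂ) 1 with hw
  set G : Z → K → ℂ := fun i k =>
    ∑ χ : Cfsg.IrrCharacter X, w χ * (χ : X → ℂ) (h.rp i * k) with hG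
  have h1 : (h.Rq l : ℂ) = ∑ χ : Cfsg.IrrCharacter X, (h.P (h.lamIrr l) χ : ℂ) * w χ := by
    rw [Rq, supp, Rat.cast_sum, Finset.sum_filter]
    refine Finset.sum_congr rfl fun χ _ => ?_
    by_cases hc : h.P (h.lamIrr l) χ = 0
    · simp [hc]
    · rw [if_pos hc]
      push_cast
      rw [h.fh_value (show χ ∈ h.supp l from Finset.mem_filter.2 ⟨Finset.mem_univ _, hc⟩),
        h.deg_cast, hw]
      ring
  have h2 : ((q : ℕ) : ℂ) * (Nat.card K : ℂ) * (h.Rq l : ℂ) =
      ∑ i : Z, (1 - psi D (-i)) * ∑ k : K, conj (l.1 k : ℂ) * G i k := by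
    have hP : ∀ χ : Cfsg.IrrCharacter X,
        ((q : ℕ) : ℂ) * (Nat.card K : ℂ) * ((h.P (h.lamIrr l) χ : ℂ) * w χ) =
        ∑ i : Z, (1 - psi D (-i)) *
          ∑ k : K, conj (l.1 k : ℂ) * (w χ * (χ : X → ℂ) (h.rp i * k)) := by
      intro χ
      have hq := h.q_ne
      have hK : (Nat.card K : ℂ) ≠ 0 := natCard_ne_zero
      rw [P, h.dif_cast]
      simp only [one_mul, f, classInner_def, Finset.mul_sum, Finset.sum_mul]
      refine Finset.sum_congr rfl fun i _ => Finset.sum_congr rfl fun k _ => ?_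
      show _ = (1 - psi D (-i)) * (conj ((h.lamIrr l : K → ℂ) k) * _)
      field_simp
    rw [h1, Finset.mul_sum, Finset.sum_congr rfl fun χ _ => hP χ, Finset.sum_comm]
    refine Finset.sum_congr rfl fun i _ => ?_
    rw [← Finset.mul_sum, Finset.sum_comm]
    congr 1
    refine Finset.sum_congr rfl fun k _ => ?_
    rw [hG, Finset.mul_sum]
  have hzero : ∀ i : Z, i ≠ 0 → ∀ k : K, l.1 k ≠ 1 → G i k = 0 := by
    intro i hi k hk
    apply mul_left_cancel₀ (natCard_ne_zero (G := X))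
    rw [mul_zero, hG, Finset.mul_sum]
    have hterm : ∀ χ : Cfsg.IrrCharacter X, (Nat.card X : ℂ) *
        (w χ * (χ : X → ℂ) (h.rp i * (k : X))) =
        ∑ g : X, (χ : X → ℂ) (dz T D * (g * dz T D * g⁻¹)) *
          conj ((χ : X → ℂ) (h.rp i * (k : X))⁻¹) := by
      intro χ
      rw [← Finset.sum_mul, CfsgLib.BlockB.sum_irr_mul_conj,
        char_inv (irr_isCharacter χ.2), Complex.conj_conj]
      simp only [hw]
      ring
    rw [Finset.sum_congr rfl fun χ _ => hterm χ, Finset.sum_comm]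
    refine Finset.sum_eq_zero fun g _ => ?_
    rw [column_count]
    refine Finset.sum_eq_zero fun a _ => if_neg fun e => hk ?_
    have hzz : dz T D * dz T D = 1 := invol_mul_self h.orderOf_dz
    suffices hinv : ∃ g ∈ h.M, g * (k : X) * g⁻¹ = (k : X)⁻¹ by
      obtain ⟨c, hc, hce⟩ := hinv
      exact h.inverted l hc hce
    refine h.no_pair hi k.2 (a * dz T D * a⁻¹) (a * (g * dz T D * g⁻¹) * a⁻¹) ?_ ?_ ?_
    · calc a * dz T D * a⁻¹ * (a * dz T D * a⁻¹) = a * (dz T D * dz T D) * a⁻¹ := by group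
        _ = 1 := by rw [hzz]; group
    · calc a * (g * dz T D * g⁻¹) * a⁻¹ * (a * (g * dz T D * g⁻¹) * a⁻¹)
          = a * g * (dz T D * dz T D) * g⁻¹ * a⁻¹ := by group
        _ = 1 := by rw [hzz]; group
    · rw [← e]; group
  rw [h2]
  refine Finset.sum_congr rfl fun i _ => ?_
  by_cases hi : i = 0
  · rw [hi, neg_zero, AddChar.map_zero_eq_one, sub_self, zero_mul, zero_mul]
  congr 1
  refine Finset.sum_congr rfl fun k _ => ?_
  by_cases e : l.1 k = 1
  · rw [e, Units.val_one, map_one, one_mul]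
  · rw [hzero i hi k e, mul_zero]
    exact (hzero i hi k e).symm

theorem Rq_const (l : h.ULin) : h.Rq l = h.Rq h.one := by
  apply Rat.cast_injective (α := ℂ)
  exact mul_left_cancel₀ (mul_ne_zero h.q_ne (natCard_ne_zero (G := K)))
    ((h.Rq_cast l).trans (h.Rq_cast h.one).symm)

theorem P_onec {l : h.ULin} (hl : l.1 ≠ 1) : h.P (h.lamIrr l) h.onec = 0 := by
  have hf : ∀ i : Z, h.f (h.lamIrr l) h.onec i = 0 := fun i => by
    have e := sum_conj_mul_hom l.1 1
    simp only [MonoidHom.one_apply, Units.val_one, mul_one, if_neg (Ne.symm hl)] at e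
    rw [f, classInner_def]
    simp only [onec, lamIrr, one_mul, e, mul_zero]
  apply Int.cast_injective (α := ℂ)
  rw [P, h.dif_cast, Int.cast_zero]
  simp [hf]

theorem onec_notMem {l : h.ULin} (hl : l.1 ≠ 1) : h.onec ∉ h.supp l := fun e =>
  (Finset.mem_filter.1 e).2 (h.P_onec hl)

theorem deg_ge' [IsSimpleGroup X] {χ : Cfsg.IrrCharacter X}
    (hc : ∀ i : Z, i ≠ 0 → ∀ f ∈ F, (χ : X → ℂ) (h.rp i * f) = (χ : X → ℂ) (h.rp i))
    (hne : χ ≠ h.onec) : 6 * (2 * D.h) ≤ h.deg χ :=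
  h.deg_ge hc (fun e => hne (Subtype.ext e)) (h.deg_cast χ).symm

theorem supp_const {l : h.ULin} {χ : Cfsg.IrrCharacter X} (hχ : χ ∈ h.supp l) :
    ∀ i : Z, i ≠ 0 → ∀ f ∈ F, (χ : X → ℂ) (h.rp i * f) = (χ : X → ℂ) (h.rp i) := by
  intro i hi f hf
  have e1 := h.chi_sect (Finset.mem_filter.1 hχ).2 hi ⟨f, h.hFK hf⟩
  have e2 := h.chi_sect (Finset.mem_filter.1 hχ).2 hi 1
  rw [h.inverted l (h.T_le_M h.huT) (k := ⟨f, h.hFK hf⟩) (h.hFu f hf)] at e1
  rw [OneMemClass.coe_one, mul_one, map_one] at e2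
  exact e1.trans e2.symm

theorem term_bound [IsSimpleGroup X] {l : h.ULin} (hl : l.1 ≠ 1) {χ : Cfsg.IrrCharacter X}
    (hχ : χ ∈ h.supp l) :
    (h.P (h.lamIrr l) χ : ℚ) * ((h.fh (h.lamIrr l) χ : ℚ) * h.fh (h.lamIrr l) χ) / h.deg χ ≤
      5 / 24 := by
  have := Fintype.ofFinite (Cfsg.IrrCharacter K)
  have hd := h.deg_ge' (h.supp_const hχ) fun e => h.onec_notMem hl (e ▸ hχ)
  set z := h.fh (h.lamIrr l) χ with hz
  have hD : CyclicVec.D2 (h.mult (h.lamIrr l) χ) < 4 * (q : ℕ) := by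
    refine lt_of_le_of_lt ?_ (h.weight_lt χ)
    exact Finset.single_le_sum (f := fun θ => CyclicVec.D2 (h.mult θ χ))
      (fun θ _ => CyclicVec.D2_nonneg _) (Finset.mem_univ _)
  have habs : 2 * (D.h : ℤ) * |z| < 4 * (q : ℕ) :=
    lt_of_le_of_lt (CyclicVec.two_mul_sum_sg_le (h.mult (h.lamIrr l) χ)) hD
  have hsq : 2 * (z * z) < 4 * (q : ℕ) := by
    have h1 : (2 * (z * z) : ℝ) ≤ (CyclicVec.D2 (h.mult (h.lamIrr l) χ) : ℝ) := by
      rw [h.D2_eq_norm]
      have h2 := Finset.single_le_sum (f := fun x => Complex.normSq (h.f (h.lamIrr l) χ x))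
        (fun x _ => Complex.normSq_nonneg _)
        (Finset.mem_erase.2 ⟨h.half_ne_zero, Finset.mem_univ _⟩)
      have h3 : Complex.normSq (h.f (h.lamIrr l) χ (D.h : Z)) = (z : ℝ) * z := by
        rw [← h.fh_cast]
        simp [Complex.normSq_apply, hz]
      simp only [h3] at h2
      linarith
    have h4 : 2 * (z * z) ≤ CyclicVec.D2 (h.mult (h.lamIrr l) χ) := by exact_mod_cast h1
    linarith
  have hh := h.hh
  push_cast at habs hsq
  have hz3 : |z| ≤ 3 := by
    by_contra hc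
    rw [not_le] at hc
    nlinarith
  have hbound : 4 * (z * z) ≤ 5 * (q : ℕ) := by
    push_cast
    by_cases h2 : |z| ≤ 2
    · nlinarith [abs_mul_abs_self z, abs_nonneg z]
    · have e3 : z * z = 9 := by rw [← abs_mul_abs_self, show |z| = 3 by omega]; norm_num
      have h4 : 4 ≤ D.h := by
        obtain ⟨k, hk⟩ := D.h_pow
        have : 3 ≤ D.h := by omega
        rcases k with _ | _ | k
        · omega
        · omega
        · rw [hk, pow_succ, pow_succ]
          have := Nat.one_le_two_pow (n := k)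
          omega
      omega
  obtain ⟨p1, p2⟩ := abs_le.1 (h.P_abs (h.lamIrr_fix l) χ)
  have hdq : (6 * ((q : ℕ) : ℚ)) ≤ (h.deg χ : ℚ) := by exact_mod_cast hd
  have hqpos : (0 : ℚ) < ((q : ℕ) : ℚ) := Nat.cast_pos.2 (Nat.pos_of_ne_zero (NeZero.ne _))
  have hb : (4 : ℚ) * ((z : ℚ) * z) ≤ 5 * ((q : ℕ) : ℚ) := by exact_mod_cast hbound
  have hzz : (0 : ℚ) ≤ (z : ℚ) * z := mul_self_nonneg _
  rw [div_le_iff₀ (by linarith)]
  have hPle : (h.P (h.lamIrr l) χ : ℚ) ≤ 1 := by exact_mod_cast p2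
  nlinarith [mul_le_mul_of_nonneg_right hPle hzz]

theorem Rq_le [IsSimpleGroup X] {l : h.ULin} (hl : l.1 ≠ 1) : h.Rq l ≤ 5 / 8 := by
  have := Finset.sum_le_card_nsmul (h.supp l)
    (fun χ => (h.P (h.lamIrr l) χ : ℚ) *
      ((h.fh (h.lamIrr l) χ : ℚ) * h.fh (h.lamIrr l) χ) / h.deg χ) (5 / 24) fun χ hχ =>
      h.term_bound hl hχ
  rw [h.card_supp] at this
  rw [Rq]
  norm_num at this ⊢
  exact this

theorem Rq_one_ge [IsSimpleGroup X] : (21 / 25 : ℚ) ≤ h.Rq h.one := by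
  obtain ⟨M, hM⟩ := CfsgLib.BlockB.exists_isPModular (p := 2) Nat.prime_two
  have := CfsgLib.Block.isPrime_of_pmodular hM
  have : Fact (Nat.Prime 2) := ⟨Nat.prime_two⟩
  obtain ⟨χ₁, χ₂, χ₃, χ', δ₁, δ₂, δ₃, S⟩ := exists_shape hM T D h.hh (isPrimitiveRoot_q D)
  set χl := χ' 1 with hχl
  have h1mem : 1 ∈ Finset.Ico 1 D.h := Finset.mem_Ico.2 ⟨le_rfl, h.hh⟩
  have hnd : ∀ {i : Z}, i ≠ 0 → ¬ 2 * D.h ∣ i.val := fun {i} hi e => hi (by
    rw [← ZMod.natCast_zmod_val i, ZMod.natCast_eq_zero_iff]; exact e)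
  have hblk : ∀ χ ∈ Cfsg.principalBlock M X, ∀ i : Z, i ≠ 0 → ∀ k ∈ K,
      (χ : X → ℂ) (h.rp i * k) = (χ : X → ℂ) (h.rp i) := by
    intro χ hχ i hi k hk
    refine (CfsgLib.Block.principal_section hM (orderOf_rot_pow_two T D i.val)
      (complement_rot_all T D (hnd hi))).1 χ hχ k (h.rp_comm_K i hk) ?_
    refine Odd.not_two_dvd_nat (h.hKodd.of_dvd_nat ?_)
    rw [← Subgroup.orderOf_mk k hk]
    exact orderOf_dvd_natCard _
  have hf : ∀ χ ∈ Cfsg.principalBlock M X, ∀ i : Z, i ≠ 0 →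
      h.f (h.lamIrr h.one) χ i = (χ : X → ℂ) (h.rp i) := by
    intro χ hχ i hi
    rw [f, classInner_def]
    simp only [lamIrr, one, MonoidHom.one_apply, Units.val_one, map_one, mul_one,
      hblk χ hχ i hi _ (SetLike.coe_mem _), Finset.sum_const, Finset.card_univ, nsmul_eq_mul,
      ← Nat.card_eq_fintype_card]
    rw [← mul_assoc, inv_mul_cancel₀ natCard_ne_zero, one_mul]
  set a : Z → ℂ := fun x => 1 - psi D (-x) with ha
  have hP : ∀ χ ∈ Cfsg.principalBlock M X, ∀ val : Z → ℂ,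
      (∀ i : Z, i ≠ 0 → (χ : X → ℂ) (h.rp i) = val i) →
      (h.P (h.lamIrr h.one) χ : ℂ) = ((q : ℕ) : ℂ)⁻¹ * ∑ x : Z, a x * val x := by
    intro χ hχ val hval
    rw [P, h.dif_cast]
    congr 1
    refine Finset.sum_congr rfl fun x _ => ?_
    by_cases hx : x = 0
    · simp [hx, ha, AddChar.map_zero_eq_one]
    · rw [hf χ hχ x hx, hval x hx, one_mul]
  have hsa : ∑ x : Z, a x = ((q : ℕ) : ℂ) := by
    have e : ∀ x : Z, psi D (-x) = psi D (x * -1) := fun x => by rw [mul_neg_one]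
    simp only [ha, Finset.sum_sub_distrib, e, psi_sum, if_neg (neg_ne_zero.2 h.one_ne_zero'),
      Finset.sum_const, Finset.card_univ, ZMod.card, nsmul_eq_mul, mul_one, sub_zero]
  have hqne := h.q_ne
  have h1blk : h.onec ∈ Cfsg.principalBlock M X := (S.block_eq _).2 (Or.inl rfl)
  have hcblk : χ₁ ∈ Cfsg.principalBlock M X := (S.block_eq _).2 (Or.inr (Or.inl rfl))
  have hlblk : χl ∈ Cfsg.principalBlock M X :=
    (S.block_eq _).2 (Or.inr (Or.inr (Or.inr (Or.inr ⟨1, h1mem, rfl⟩))))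
  have hP0 : h.P (h.lamIrr h.one) h.onec = 1 := by
    apply Int.cast_injective (α := ℂ)
    rw [hP _ h1blk (fun _ => 1) fun i _ => rfl]
    simp only [mul_one, hsa]
    rw [inv_mul_cancel₀ hqne, Int.cast_one]
  have hP1 : h.P (h.lamIrr h.one) χ₁ = δ₁ := by
    apply Int.cast_injective (α := ℂ)
    rw [hP _ hcblk (fun _ => (δ₁ : ℂ)) fun i hi => S.val₁ i.val (hnd hi), ← Finset.sum_mul, hsa,
      ← mul_assoc, inv_mul_cancel₀ hqne, one_mul]
  have hvall : ∀ i : Z, i ≠ 0 →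
      (χl : X → ℂ) (h.rp i) = (δ₁ : ℂ) * (psi D i + psi D (-i)) := fun i hi => by
    have e : psi D i = Complex.exp (2 * Real.pi * Complex.I / ((2 * D.h : ℕ) : ℂ)) ^ i.val :=
      AddChar.zmodChar_apply _ i
    rw [AddChar.map_neg_eq_inv, e]
    have e2 := S.val' i.val (hnd hi) 1 h1mem
    simp only [one_mul] at e2
    exact e2
  have hPl : h.P (h.lamIrr h.one) χl = -δ₁ := by
    apply Int.cast_injective (α := ℂ)
    rw [hP _ hlblk _ hvall]
    have e : ∀ x : Z, a x * ((δ₁ : ℂ) * (psi D x + psi D (-x))) =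
        (δ₁ : ℂ) * (psi D (x * 1) + psi D (x * -1) - 1 - psi D (x * -(1 + 1))) := by
      intro x
      have e1 : psi D (-x) * psi D x = 1 := by
        rw [← AddChar.map_add_eq_mul, neg_add_cancel, AddChar.map_zero_eq_one]
      have e2 : psi D (x * -(1 + 1)) = psi D (-x) * psi D (-x) := by
        rw [← AddChar.map_add_eq_mul]; congr 1; ring
      simp only [ha, mul_one, mul_neg_one, e2]
      linear_combination (-(δ₁ : ℂ)) * e1
    have hs1 : ∑ x : Z, psi D x = 0 := by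
      have := psi_sum D (1 : Z)
      simpa [h.one_ne_zero'] using this
    simp only [e, ← Finset.mul_sum, Finset.sum_sub_distrib, Finset.sum_add_distrib, psi_sum, hs1,
      if_neg (neg_ne_zero.2 h.one_ne_zero'),
      if_neg (neg_ne_zero.2 fun e : (1 : Z) + 1 = 0 =>
        h.one_ne_neg_one (eq_neg_of_add_eq_zero_left e)),
      Finset.sum_const, Finset.card_univ, ZMod.card, nsmul_eq_mul, mul_one]
    rw [Int.cast_neg]
    field_simp
    ring
  have hδ : δ₁ ≠ 0 := by rcases S.sgn₁ with e | e <;> rw [e] <;> norm_num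
  have hne01 : h.onec ≠ χ₁ := fun e => S.ne_one₁ (by rw [← e]; rfl)
  have hne0l : h.onec ≠ χl := fun e => (S.leaf_ne 1 h1mem).2.2.2 (by rw [← hχl, ← e]; rfl)
  have hne1l : χ₁ ≠ χl := fun e => (S.leaf_ne 1 h1mem).1 e.symm
  have hsupp : h.supp h.one = {h.onec, χ₁, χl} := by
    refine (Finset.eq_of_subset_of_card_le ?_ ?_).symm
    · intro χ hχ
      simp only [Finset.mem_insert, Finset.mem_singleton] at hχ
      refine Finset.mem_filter.2 ⟨Finset.mem_univ _, ?_⟩
      rcases hχ with rfl | rfl | rfl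
      · rw [hP0]; norm_num
      · rw [hP1]; exact hδ
      · rw [hPl]; exact neg_ne_zero.2 hδ
    · rw [h.card_supp, Finset.card_insert_of_notMem (by simp [hne01, hne0l]), Finset.card_pair hne1l]
  have hmem : ∀ χ ∈ ({h.onec, χ₁, χl} : Finset (Cfsg.IrrCharacter X)), χ ∈ h.supp h.one :=
    fun χ hχ => hsupp.symm ▸ hχ
  have hf0 : h.fh (h.lamIrr h.one) h.onec = 1 := by
    apply Int.cast_injective (α := ℂ)
    rw [h.fh_value (hmem _ (by simp)), Int.cast_one]
    rfl
  have hf1 : h.fh (h.lamIrr h.one) χ₁ = δ₁ := by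
    apply Int.cast_injective (α := ℂ)
    rw [h.fh_value (hmem _ (by simp)), ← h.rp_half]
    exact S.val₁ _ (hnd h.half_ne_zero)
  have hfl : h.fh (h.lamIrr h.one) χl = -2 * δ₁ := by
    apply Int.cast_injective (α := ℂ)
    rw [h.fh_value (hmem _ (by simp)), ← h.rp_half, hvall _ h.half_ne_zero, h.half_neg, psi_half]
    push_cast
    ring
  have hd0 : h.deg h.onec = 1 := by
    have : (h.deg h.onec : ℂ) = 1 := h.deg_cast _
    exact_mod_cast this
  have hdl : (h.deg χl : ℚ) = (h.deg χ₁ : ℚ) + δ₁ := by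
    have e := (S.rel 1 (by rw [orderOf_one]; norm_num) 1 h1mem).2
    rw [← h.deg_cast, ← hχl, ← h.deg_cast] at e
    have e' : (1 : ℤ) + δ₁ * (h.deg χ₁ : ℤ) = δ₁ * (h.deg χl : ℤ) := by exact_mod_cast e
    have e'' : (h.deg χl : ℤ) = (h.deg χ₁ : ℤ) + δ₁ := by
      rcases S.sgn₁ with e2 | e2 <;> rw [e2] at e' ⊢ <;> linarith
    exact_mod_cast e''
  have hx : (24 : ℚ) ≤ h.deg χ₁ := by
    have := h.deg_ge' (fun i hi f hf => hblk χ₁ hcblk i hi f (h.hFK hf)) hne01.symm
    have := h.hh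
    exact_mod_cast (show 24 ≤ h.deg χ₁ by omega)
  rw [Rq, hsupp, Finset.sum_insert (by simp [hne01, hne0l]), Finset.sum_pair hne1l, hP0, hP1, hPl,
    hf0, hf1, hfl, hd0, hdl]
  set x : ℚ := (h.deg χ₁ : ℚ)
  have hx0 : (0 : ℚ) < x := by linarith
  rcases S.sgn₁ with e | e <;> rw [e] <;> push_cast
  · have : 4 / (x + 1) ≤ 4 / 25 := div_le_div_of_nonneg_left (by norm_num) (by norm_num) (by linarith)
    have : (0 : ℚ) ≤ 1 / x := by positivity
    have e1 : (1 : ℚ) * (1 * 1) / 1 + (1 * (1 * 1) / x + -1 * (-2 * 1 * (-2 * 1)) / (x + 1)) =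
        1 + 1 / x - 4 / (x + 1) := by ring
    linarith
  · have : 1 / x ≤ 1 / 24 := one_div_le_one_div_of_le (by norm_num) hx
    have : (0 : ℚ) ≤ 4 / (x - 1) := div_nonneg (by norm_num) (by linarith)
    have e1 : (1 : ℚ) * (1 * 1) / 1 + (-1 * (-1 * -1) / x + - -1 * (-2 * -1 * (-2 * -1)) / (x + -1)) =
        1 - 1 / x + 4 / (x - 1) := by ring
    linarith

theorem ulin_eq_one [IsSimpleGroup X] (l : h.ULin) : l.1 = 1 := by
  by_contra hl
  have h1 := h.Rq_le hl
  have h2 := h.Rq_one_ge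
  rw [h.Rq_const l] at h1
  linarith

end InvRot

/-- In a simple group, a linear character of `K` invariant under `u` is trivial. -/
theorem InvRot.eq_one {X : Type v} [Group X] [Finite X] [IsSimpleGroup X] {T : Sylow 2 X}
    {D : DihData (T : Subgroup X)} {u : X} {K F A : Subgroup X} (h : InvRot T D u K F A)
    (lam : K →* ℂˣ) (hlu : ∀ k k' : K, (k' : X) = u * k * u⁻¹ → lam k' = lam k) : lam = 1 := by
  have := Fintype.ofFinite X
  have := Fintype.ofFinite (Cfsg.IrrCharacter X)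
  exact h.ulin_eq_one ⟨lam, fun k => hlu k (h.uK k) rfl⟩

end CfsgLib.GW.Twist
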