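import Cfsg.Agent.Lib.GW.Twist.InvKleinCoord

/-!
# An involution centraliser with four-group Sylow subgroup: invariant characters are trivial

Nonprincipal constituents have degree at least 12; the involution count does not depend on the
character, is at least 3/4 at the principal one and at most 1/3 at the others.
-/

set_option autoImplicit false
set_option linter.unusedSectionVars false
set_option linter.unusedDecidableInType false

namespace CfsgLib.GW.Twist

open CfsgLib.Char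
open CfsgLib.Recog.NonCA (eq_one_of_sq_of_odd mem_of_sq_mem irr_degree_nat column_count cf
  cf_add_inner sum_conj_mul_hom conj_hom_apply hom_eq_one_of_sq)
open scoped ComplexConjugate

universe v w

namespace InvTwist

open scoped _root_.Classical

variable {X : Type v} [Group X] [Fintype X] [Fintype (Cfsg.IrrCharacter X)] {t u n : X}
  {K F A : Subgroup X} (h : InvTwist t u n K F A)
include h

/-- A constituent is constant on `tF`. -/
theorem chi_tF {l : K →* ℂˣ} (hgl : h.Good l) {χ : Cfsg.IrrCharacter X} (hl : h.cl l χ ≠ 0)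
    {f : X} (hf : f ∈ F) : (χ : X → ℂ) (t * f) = (χ : X → ℂ) t := by
  have e1 := h.chi_tK hgl hl ⟨f, h.hFK hf⟩
  have e2 := h.chi_tK hgl hl 1
  rw [hgl.inverted h (h.W_le_M h.u_mem_W) (k := ⟨f, h.hFK hf⟩) (h.hFu f hf)] at e1
  rw [OneMemClass.coe_one, mul_one, map_one] at e2
  exact e1.trans e2.symm

/-- The multiplicity of a nonprincipal character of `F` is even. -/
theorem mult_even {l : K →* ℂˣ} (hgl : h.Good l) {χ : Cfsg.IrrCharacter X} (hl : h.cl l χ ≠ 0) {p : F →* ℂˣ}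
    (hp : p ≠ 1) : ∃ k : ℤ,
      Cfsg.classInner (fun f : F => (χ : X → ℂ) f) (fun f => (p f : ℂ)) = ((2 * k : ℤ) : ℂ) := by
  obtain ⟨k, m, hk, hm⟩ := cf_add_inner h.ht (ι := F.subtype) (fun f => h.hFt f f.2) p χ
  have h0 : cf t F.subtype p (χ : X → ℂ) = 0 := by
    rw [cf]
    simp only [Subgroup.coe_subtype, h.chi_tF hgl hl (SetLike.coe_mem _), ← Finset.mul_sum]
    have e := sum_conj_mul_hom p 1
    simp only [MonoidHom.one_apply, Units.val_one, mul_one, if_neg (Ne.symm hp)] at e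
    rw [e, mul_zero, mul_zero]
  rw [h0] at hk
  refine ⟨k, hm.trans ?_⟩
  push_cast
  linear_combination hk

/-- Multiplicities are invariant under elements normalising `F`. -/
theorem mult_conj (χ : Cfsg.IrrCharacter X) {g : X} (hg : ∀ f ∈ F, g * f * g⁻¹ ∈ F)
    {p q : F →* ℂˣ} (hq : ∀ f : F, q f = p ⟨g * f * g⁻¹, hg f f.2⟩) :
    Cfsg.classInner (fun f : F => (χ : X → ℂ) f) (fun f => (q f : ℂ)) =
      Cfsg.classInner (fun f : F => (χ : X → ℂ) f) (fun f => (p f : ℂ)) := by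
  have hinj : Function.Injective fun f : F => (⟨g * f * g⁻¹, hg f f.2⟩ : F) := fun a b e =>
    Subtype.ext (by simpa using congrArg Subtype.val e)
  rw [classInner_def, classInner_def]
  congr 1
  refine Fintype.sum_bijective _ ⟨hinj, Finite.surjective_of_injective hinj⟩ _ _ fun f => ?_
  rw [hq f, irr_isClassFunction χ.2 (f : X) g]

/-- Conjugation by an element of `A` on `F`. -/
def cA (a : A) : F →* F := MonoidHom.mk' (fun f => ⟨a * f * (a : X)⁻¹, h.hAF a a.2 f f.2⟩)
  fun a b => Subtype.ext (by simp [mul_assoc])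

theorem cA_comp (a b : A) (p : F →* ℂˣ) : (p.comp (h.cA a)).comp (h.cA b) = p.comp (h.cA (a * b)) :=
  MonoidHom.ext fun f => congrArg p (Subtype.ext (by simp [cA, mul_assoc]))

theorem cA_one (p : F →* ℂˣ) : p.comp (h.cA 1) = p :=
  MonoidHom.ext fun f => congrArg p (Subtype.ext (by simp [cA]))

/-- The degree of a nonprincipal constituent is at least 12. -/
theorem deg_ge [IsSimpleGroup X] {l : K →* ℂˣ} (hgl : h.Good l) {χ : Cfsg.IrrCharacter X} (hl : h.cl l χ ≠ 0)
    (hne : (χ : X → ℂ) ≠ fun _ => 1) {d : ℕ} (hd : (χ : X → ℂ) 1 = d) : 12 ≤ d := by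
  have hFc := h.F_hom_comm
  have : Finite (F →* ℂˣ) := Nat.finite_of_card_ne_zero (by
    rw [natCard_linear]; exact Subgroup.index_ne_zero_of_finite)
  have := Fintype.ofFinite (F →* ℂˣ)
  have hnat : ∀ p : F →* ℂˣ, ∃ m : ℕ,
      Cfsg.classInner (fun f : F => (χ : X → ℂ) f) (fun f => (p f : ℂ)) = m := fun p =>
    classInner_isCharacter_nat (isCharacter_restrict (irr_isCharacter χ.2) F)
      (irr_isCharacter (isIrrCharacter_linear p))
  choose m hm using hnat
  have hinv : ∀ b : F, ∑ p : F →* ℂˣ, (m p : ℂ) * (p b : ℂ) = (χ : X → ℂ) b := fun b => by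
    simp only [← hm]
    exact linear_expand hFc _ b
  have hsum : ∑ p : F →* ℂˣ, m p = d := by
    have h1 := hinv 1
    simp only [map_one, Units.val_one, mul_one, OneMemClass.coe_one] at h1
    rw [hd] at h1
    exact_mod_cast h1
  have hconj : ∀ (a : A) (p : F →* ℂˣ), m (p.comp (h.cA a)) = m p := fun a p => by
    apply Nat.cast_injective (R := ℂ)
    rw [← hm, ← hm]
    exact h.mult_conj χ (g := a) (h.hAF a a.2) fun f => rfl
  have hinvm : ∀ p : F →* ℂˣ, m p⁻¹ = m p := fun p => by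
    apply Nat.cast_injective (R := ℂ)
    rw [← hm, ← hm]
    refine h.mult_conj χ (g := u) (fun f hf => by rw [h.hFu f hf]; exact inv_mem hf) fun f => ?_
    rw [MonoidHom.inv_apply, ← map_inv]
    exact congrArg p (Subtype.ext (h.hFu f f.2).symm)
  have heven : ∀ p : F →* ℂˣ, p ≠ 1 → 0 < m p → 2 ≤ m p := fun p hp hpos => by
    obtain ⟨k, hk⟩ := h.mult_even hgl hl hp
    rw [hm] at hk
    have : (m p : ℤ) = 2 * k := by exact_mod_cast hk
    omega
  obtain ⟨a0, ha0, f0, hf0, hne0⟩ := h.hmove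
  set a : A := ⟨a0, ha0⟩
  obtain ⟨p, hpm, hpa⟩ : ∃ p : F →* ℂˣ, 0 < m p ∧ p.comp (h.cA a) ≠ p := by
    by_contra hc
    push Not at hc
    set x : F := h.cA a ⟨f0, hf0⟩ * (⟨f0, hf0⟩ : F)⁻¹
    have hx : (χ : X → ℂ) x = (χ : X → ℂ) 1 := by
      rw [← hinv x, hd, ← hsum, Nat.cast_sum]
      refine Finset.sum_congr rfl fun p _ => ?_
      rcases Nat.eq_zero_or_pos (m p) with e | e
      · simp [e]
      · have e2 := DFunLike.congr_fun (hc p e) ⟨f0, hf0⟩
        rw [MonoidHom.comp_apply] at e2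
        rw [map_mul, map_inv, e2, mul_inv_cancel, Units.val_one, mul_one]
    have hx1 : a0 * f0 * a0⁻¹ * f0⁻¹ = 1 := faithful χ hne hx
    exact hne0 (by rwa [mul_inv_eq_one, mul_inv_eq_iff_eq_mul] at hx1)
  have hp1 : p ≠ 1 := fun e => hpa (by rw [e, MonoidHom.one_comp])
  let S : Subgroup A :=
    { carrier := {b | p.comp (h.cA b) = p}
      one_mem' := h.cA_one p
      mul_mem' := fun {b c} hb hc => by
        show p.comp (h.cA (b * c)) = p
        rw [← h.cA_comp, show p.comp (h.cA b) = p from hb, hc]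
      inv_mem' := fun {b} hb => by
        show p.comp (h.cA b⁻¹) = p
        conv_lhs => rw [← show p.comp (h.cA b) = p from hb]
        rw [h.cA_comp, mul_inv_cancel, h.cA_one] }
  have hsqS : ∀ b : A, b * b ∈ S → b ∈ S := fun b hb =>
    mem_of_sq_mem (H := (⊤ : Subgroup A)) (by rw [Subgroup.card_top]; exact h.hAodd)
      (Subgroup.mem_top b) hb
  have hneg : ∀ b : A, p.comp (h.cA b) ≠ p⁻¹ := fun b e => by
    have hb : b ∈ S := hsqS b (by
      show p.comp (h.cA (b * b)) = p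
      rw [← h.cA_comp, e, MonoidHom.inv_comp, e, inv_inv])
    rw [show p.comp (h.cA b) = p from hb] at e
    refine hp1 (hom_eq_one_of_sq h.hFodd fun f => ?_)
    nth_rewrite 1 [e]
    rw [MonoidHom.inv_apply, inv_mul_cancel]
  have hsame : ∀ b c : A, p.comp (h.cA b) = p.comp (h.cA c) → b * c⁻¹ ∈ S := fun b c e => by
    show p.comp (h.cA (b * c⁻¹)) = p
    rw [← h.cA_comp, e, h.cA_comp, mul_inv_cancel, h.cA_one]
  set q : A → (F →* ℂˣ) := fun b => p.comp (h.cA b) with hq
  have hqneg : ∀ b c : A, q b ≠ (q c)⁻¹ := fun b c e => hneg (b * c⁻¹) (by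
    rw [← h.cA_comp, show p.comp (h.cA b) = (p.comp (h.cA c))⁻¹ from e, MonoidHom.inv_comp,
      h.cA_comp, mul_inv_cancel, h.cA_one])
  set T : Finset (F →* ℂˣ) := {q 1, q a, q (a * a)} with hT
  have haS : a ∉ S := hpa
  have h01 : q 1 ≠ q a := fun e => haS (by simpa using inv_mem (hsame _ _ e))
  have h02 : q 1 ≠ q (a * a) := fun e => haS (hsqS a (by simpa using inv_mem (hsame _ _ e)))
  have h12 : q a ≠ q (a * a) := fun e => haS (by simpa using inv_mem (hsame _ _ e))
  have hTcard : T.card = 3 := by simp [hT, h01, h02, h12]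
  have hTq : ∀ r ∈ T, ∃ b, r = q b := fun r hr => by
    simp only [hT, Finset.mem_insert, Finset.mem_singleton] at hr
    rcases hr with e | e | e <;> exact ⟨_, e⟩
  have hdisj : Disjoint T (T.image fun r => r⁻¹) := by
    rw [Finset.disjoint_left]
    intro r hr hr'
    obtain ⟨r', hr'', e⟩ := Finset.mem_image.1 hr'
    obtain ⟨b, rfl⟩ := hTq r hr
    obtain ⟨c, rfl⟩ := hTq r' hr''
    exact hqneg b c e.symm
  have hmem : ∀ r ∈ T ∪ T.image fun r => r⁻¹, 2 ≤ m r := by
    intro r hr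
    have key : ∀ b, 2 ≤ m (q b) := fun b => by
      rw [hq, hconj]
      exact heven p hp1 hpm
    rcases Finset.mem_union.1 hr with hr | hr
    · obtain ⟨b, rfl⟩ := hTq r hr; exact key b
    · obtain ⟨r', hr', rfl⟩ := Finset.mem_image.1 hr
      obtain ⟨b, rfl⟩ := hTq r' hr'
      rw [hinvm]; exact key b
  rw [← hsum]
  refine le_trans ?_ (Finset.sum_le_sum_of_subset (Finset.subset_univ (T ∪ T.image fun r => r⁻¹)))
  refine le_trans ?_ (Finset.card_nsmul_le_sum _ _ _ hmem)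
  rw [Finset.card_union_of_disjoint hdisj,
    Finset.card_image_of_injective (f := fun r : F →* ℂˣ => r⁻¹) T (fun a b e => inv_injective e), hTcard]
  norm_num

/-- The principal character. -/
def onec (_h : InvTwist t u n K F A) : Cfsg.IrrCharacter X := ⟨fun _ => 1, isIrrCharacter_one⟩

theorem cl_onec (l : K →* ℂˣ) : h.cl l h.onec = if l = 1 then 1 else 0 := by
  apply Int.cast_injective (α := ℂ)
  apply mul_left_cancel₀ (natCard_ne_zero (G := K))
  rw [h.cl_eq]
  simp only [onec, one_mul]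
  have e := sum_conj_mul_hom l 1
  simp only [MonoidHom.one_apply, Units.val_one, mul_one] at e
  rw [e]
  by_cases hl : l = 1
  · rw [if_pos hl, if_pos hl.symm]
    push_cast
    ring
  · rw [if_neg hl, if_neg fun e' => hl e'.symm]
    push_cast
    ring

/-- The degree. -/
noncomputable def deg (_h : InvTwist t u n K F A) (χ : Cfsg.IrrCharacter X) : ℕ :=
  (irr_degree_nat χ).choose

theorem deg_pos (χ : Cfsg.IrrCharacter X) : 0 < h.deg χ := (irr_degree_nat χ).choose_spec.1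

theorem deg_cast (χ : Cfsg.IrrCharacter X) : (h.deg χ : ℂ) = (χ : X → ℂ) 1 :=
  (irr_degree_nat χ).choose_spec.2.symm

/-- The constituents. -/
noncomputable def supp (l : K →* ℂˣ) : Finset (Cfsg.IrrCharacter X) :=
  Finset.univ.filter fun χ => h.cl l χ ≠ 0

/-- The involution count attached to `l`. -/
noncomputable def Rq (l : K →* ℂˣ) : ℚ :=
  ∑ χ ∈ h.supp l, (h.cl l χ : ℚ) * ((h.cl l χ : ℚ) * h.cl l χ) / h.deg χ

theorem cl_value {l : K →* ℂˣ} (hgl : h.Good l) {χ : Cfsg.IrrCharacter X} (hl : χ ∈ h.supp l) :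
    (h.cl l χ : ℂ) = (χ : X → ℂ) t := by
  have e := h.chi_tK hgl (Finset.mem_filter.1 hl).2 1
  rw [OneMemClass.coe_one, mul_one, map_one, Units.val_one, mul_one] at e
  exact e.symm

/-- Two involutions have product in `tK` only at elements inverted in `C(t)`. -/
theorem no_pair {k : X} (hk : k ∈ K) (i j : X) (hi : i * i = 1) (hj : j * j = 1)
    (e : i * j = (t * k)⁻¹) : ∃ g ∈ h.M, g * k * g⁻¹ = k⁻¹ := by
  have hi' : i⁻¹ = i := inv_eq_of_mul_eq_one_right hi
  have hj' : j⁻¹ = j := inv_eq_of_mul_eq_one_right hj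
  have hc : ∀ {k : X}, k ∈ K → Commute t k := fun {k} hk =>
    (h.mem_M_iff.1 (h.K_le_M hk)).symm
  set y := t * k with hy
  have hinv : i * y * i⁻¹ = y⁻¹ := by
    have hyv : y = j * i := by
      rw [← inv_inv y, ← e, mul_inv_rev, hi', hj']
    rw [hyv, mul_inv_rev, hi', hj', mul_assoc, mul_assoc, hi, mul_one]
  have hy' : y⁻¹ = t * k⁻¹ := by
    rw [hy, mul_inv_rev, h.tinv]
    exact ((hc hk).inv_right).symm.eq
  obtain ⟨m, hm⟩ := h.hKodd
  have hpow : ∀ k ∈ K, (t * k) ^ (2 * m + 1) = t := by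
    intro k hk
    have e1 : k ^ (2 * m + 1) = 1 := orderOf_dvd_iff_pow_eq_one.1 (by
      rw [← hm, ← Subgroup.orderOf_mk k hk]; exact orderOf_dvd_natCard _)
    rw [(hc hk).mul_pow, e1, mul_one, pow_succ, pow_mul, pow_two, h.tt, one_pow, one_mul]
  have hit : i * t * i⁻¹ = t := by
    have e1 := congrArg (· ^ (2 * m + 1)) hinv
    simp only [conj_pow] at e1
    rw [hy, hpow _ hk, ← hy, hy', hpow _ (inv_mem hk)] at e1
    exact e1
  have hik : i * k * i⁻¹ = k⁻¹ := by
    refine mul_left_cancel (a := t) ?_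
    rw [← hy', ← hinv, hy]
    calc t * (i * k * i⁻¹) = (i * t * i⁻¹) * (i * k * i⁻¹) := by rw [hit]
      _ = i * (t * k) * i⁻¹ := by group
  exact ⟨i, h.mem_M_conj.2 hit, hik⟩

theorem Rq_cast {l : K →* ℂˣ} (hgl : h.Good l) : (Nat.card K : ℂ) * (h.Rq l : ℂ) =
    ∑ k : K, ∑ χ : Cfsg.IrrCharacter X,
      ((χ : X → ℂ) t * (χ : X → ℂ) t / (χ : X → ℂ) 1) * (χ : X → ℂ) (t * (k : X)) := by
  have h1 : (h.Rq l : ℂ) = ∑ χ : Cfsg.IrrCharacter X,
      (h.cl l χ : ℂ) * ((χ : X → ℂ) t * (χ : X → ℂ) t / (χ : X → ℂ) 1) := by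
    rw [Rq, supp, Rat.cast_sum, Finset.sum_filter]
    refine Finset.sum_congr rfl fun χ _ => ?_
    by_cases hc : h.cl l χ = 0
    · simp [hc]
    · rw [if_pos hc]
      push_cast
      rw [h.deg_cast, ← h.cl_value hgl (show χ ∈ h.supp l from Finset.mem_filter.2 ⟨Finset.mem_univ _, hc⟩)]
      ring
  set w : Cfsg.IrrCharacter X → ℂ := fun χ =>
    (χ : X → ℂ) t * (χ : X → ℂ) t / (χ : X → ℂ) 1 with hw
  set G : K → ℂ := fun k =>
    ∑ χ : Cfsg.IrrCharacter X, w χ * (χ : X → ℂ) (t * k) with hG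
  have h2 : (Nat.card K : ℂ) * (h.Rq l : ℂ) = ∑ k : K, conj (l k : ℂ) * G k := by
    rw [h1, Finset.mul_sum]
    simp only [← mul_assoc, h.cl_eq, Finset.sum_mul]
    rw [Finset.sum_comm]
    refine Finset.sum_congr rfl fun k _ => ?_
    rw [hG, Finset.mul_sum]
    exact Finset.sum_congr rfl fun χ _ => by simp only [hw]; ring
  have hzero : ∀ k : K, l k ≠ 1 → G k = 0 := by
    intro k hk
    apply mul_left_cancel₀ (natCard_ne_zero (G := X))
    rw [mul_zero, hG, Finset.mul_sum]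
    have hterm : ∀ χ : Cfsg.IrrCharacter X, (Nat.card X : ℂ) *
        (w χ * (χ : X → ℂ) (t * (k : X))) =
        ∑ g : X, (χ : X → ℂ) (t * (g * t * g⁻¹)) * conj ((χ : X → ℂ) (t * (k : X))⁻¹) := by
      intro χ
      rw [← Finset.sum_mul, CfsgLib.BlockB.sum_irr_mul_conj,
        char_inv (irr_isCharacter χ.2), Complex.conj_conj]
      simp only [hw]
      ring
    rw [Finset.sum_congr rfl fun χ _ => hterm χ, Finset.sum_comm]
    refine Finset.sum_eq_zero fun g _ => ?_
    rw [column_count]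
    refine Finset.sum_eq_zero fun a _ => if_neg fun e => hk ?_
    suffices hinv : ∃ g ∈ h.M, g * (k : X) * g⁻¹ = (k : X)⁻¹ by
      obtain ⟨c, hc, hce⟩ := hinv
      exact hgl.inverted h hc hce
    refine h.no_pair k.2 (a * t * a⁻¹) (a * (g * t * g⁻¹) * a⁻¹) ?_ ?_ ?_
    · calc a * t * a⁻¹ * (a * t * a⁻¹) = a * (t * t) * a⁻¹ := by group
        _ = 1 := by rw [h.tt]; group
    · calc a * (g * t * g⁻¹) * a⁻¹ * (a * (g * t * g⁻¹) * a⁻¹)
          = a * g * (t * t) * g⁻¹ * a⁻¹ := by group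
        _ = 1 := by rw [h.tt]; group
    · rw [← e]; group
  rw [h2]
  refine Finset.sum_congr rfl fun k _ => ?_
  by_cases e : l k = 1
  · rw [e, Units.val_one, map_one, one_mul]
  · rw [hzero k e, mul_zero]

theorem Rq_const {l : K →* ℂˣ} (hgl : h.Good l) : h.Rq l = h.Rq 1 := by
  apply Rat.cast_injective (α := ℂ)
  exact mul_left_cancel₀ (natCard_ne_zero (G := K))
    ((h.Rq_cast hgl).trans (h.Rq_cast h.good_one).symm)

theorem deg_ge' [IsSimpleGroup X] {l : K →* ℂˣ} (hgl : h.Good l) {χ : Cfsg.IrrCharacter X}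
    (hχ : χ ∈ h.supp l) (hne : χ ≠ h.onec) : (12 : ℚ) ≤ h.deg χ := by
  exact_mod_cast h.deg_ge hgl (Finset.mem_filter.1 hχ).2 (fun e => hne (Subtype.ext e))
    (h.deg_cast χ).symm

theorem term_bound [IsSimpleGroup X] {l : K →* ℂˣ} (hgl : h.Good l)
    {χ : Cfsg.IrrCharacter X} (hχ : χ ∈ h.supp l) (hne : χ ≠ h.onec) :
    |(h.cl l χ : ℚ) * ((h.cl l χ : ℚ) * h.cl l χ) / h.deg χ| ≤ 1 / 12 := by
  have hd := h.deg_ge' hgl hχ hne
  have e : |(h.cl l χ : ℚ) * ((h.cl l χ : ℚ) * h.cl l χ)| = 1 := by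
    rcases ((h.cl_cases hgl).1 χ).resolve_left (Finset.mem_filter.1 hχ).2 with e | e <;>
      rw [e] <;> norm_num
  rw [abs_div, e, abs_of_pos (by linarith : (0 : ℚ) < h.deg χ)]
  exact one_div_le_one_div_of_le (by norm_num) hd

theorem Rq_one_ge [IsSimpleGroup X] : (3 / 4 : ℚ) ≤ h.Rq 1 := by
  have h1mem : h.onec ∈ h.supp 1 := Finset.mem_filter.2 ⟨Finset.mem_univ _, by
    rw [h.cl_onec, if_pos rfl]; norm_num⟩
  have hdone : h.deg h.onec = 1 := by
    have : (h.deg h.onec : ℂ) = 1 := h.deg_cast _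
    exact_mod_cast this
  have hcard : ((h.supp 1).erase h.onec).card = 3 := by
    rw [Finset.card_erase_of_mem h1mem, show (h.supp 1).card = 4 from (h.cl_cases h.good_one).2]
  have hlow := Finset.card_nsmul_le_sum ((h.supp 1).erase h.onec)
    (fun χ => (h.cl 1 χ : ℚ) * ((h.cl 1 χ : ℚ) * h.cl 1 χ) / h.deg χ) (-1 / 12) fun χ hχ => by
      have := (abs_le.1 (h.term_bound h.good_one (Finset.mem_of_mem_erase hχ)
        (Finset.ne_of_mem_erase hχ))).1
      linarith
  rw [hcard] at hlow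
  rw [Rq, ← Finset.add_sum_erase _ _ h1mem, h.cl_onec, if_pos rfl, hdone]
  norm_num at hlow ⊢
  linarith

theorem good_eq_one [IsSimpleGroup X] {l : K →* ℂˣ} (hgl : h.Good l) : l = 1 := by
  by_contra hl
  have hmem : h.onec ∉ h.supp l := fun e =>
    (Finset.mem_filter.1 e).2 (by rw [h.cl_onec, if_neg hl])
  have hub := Finset.sum_le_card_nsmul (h.supp l)
    (fun χ => (h.cl l χ : ℚ) * ((h.cl l χ : ℚ) * h.cl l χ) / h.deg χ) (1 / 12) fun χ hχ =>
      (abs_le.1 (h.term_bound hgl hχ fun e => hmem (e ▸ hχ))).2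
  rw [show (h.supp l).card = 4 from (h.cl_cases hgl).2] at hub
  have hlb := h.Rq_one_ge
  rw [← h.Rq_const hgl, Rq] at hlb
  norm_num at hub
  linarith

end InvTwist

/-- In a simple group, a linear character of `K` invariant under `u` and, on `C_K(u)`, under `n`
is trivial. -/
theorem InvTwist.eq_one {X : Type v} [Group X] [Finite X] [IsSimpleGroup X] {t u n : X}
    {K F A : Subgroup X} (h : InvTwist t u n K F A) (lam : K →* ℂˣ)
    (hlu : ∀ k k' : K, (k' : X) = u * k * u⁻¹ → lam k' = lam k)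
    (hln : ∀ d d' : K, (d : X) ∈ A → (d' : X) = n * d * n⁻¹ → lam d' = lam d) : lam = 1 := by
  have := Fintype.ofFinite X
  have := Fintype.ofFinite (Cfsg.IrrCharacter X)
  exact h.good_eq_one
    ⟨fun k => hlu k (h.uK k) rfl, fun d => hln (h.incl d) (h.incl (h.sig d)) d.2 rfl⟩

end CfsgLib.GW.Twist
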