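import Mathlib

/-!
# Integer vectors on a cyclic group of even order: squared differences
-/

set_option autoImplicit false
set_option linter.unusedSectionVars false

namespace CfsgLib.GW.Twist.CyclicVec

variable {h : ℕ} [NeZero (2 * h)]

local notation "Z" => ZMod (2 * h)

/-- The character of order two. -/
def sg (ν : Z) : ℤ := (-1) ^ ν.val

theorem sg_zero : sg (0 : Z) = 1 := by simp [sg]

theorem sg_add (ν μ : Z) : sg (ν + μ) = sg ν * sg μ := by
  simp only [sg]
  rw [← pow_add, neg_one_pow_eq_pow_mod_two, neg_one_pow_eq_pow_mod_two (n := ν.val + μ.val),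
    ZMod.val_add, Nat.mod_mod_of_dvd _ (dvd_mul_right 2 h)]

theorem sg_sq (ν : Z) : sg ν = 1 ∨ sg ν = -1 := neg_one_pow_eq_or ℤ ν.val

theorem sg_mul_self (ν : Z) : sg ν * sg ν = 1 := by rcases sg_sq ν with e | e <;> rw [e] <;> rfl

theorem sg_neg (ν : Z) : sg (-ν) = sg ν := by
  have e : sg (-ν) * sg ν = 1 := by rw [← sg_add, neg_add_cancel, sg_zero]
  calc sg (-ν) = sg (-ν) * (sg ν * sg ν) := by rw [sg_mul_self, mul_one]
    _ = sg (-ν) * sg ν * sg ν := (mul_assoc _ _ _).symm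
    _ = sg ν := by rw [e, one_mul]

theorem one_lt : 1 < 2 * h := by
  have := NeZero.ne (2 * h)
  omega

theorem sg_one : sg (1 : Z) = -1 := by
  have : Fact (1 < 2 * h) := ⟨one_lt⟩
  simp [sg, ZMod.val_one]

theorem sum_sg : ∑ ν : Z, sg ν = 0 := by
  have e : ∑ ν : Z, sg ν = -∑ ν : Z, sg ν := by
    rw [← Finset.sum_neg_distrib]
    refine Fintype.sum_equiv (Equiv.addRight (1 : Z)) _ _ fun ν => ?_
    rw [Equiv.coe_addRight, sg_add, sg_one]
    ring
  omega

theorem card_odd : (Finset.univ.filter fun ν : Z => sg ν = -1).card = h := by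
  have e := sum_sg (h := h)
  rw [← Finset.sum_filter_add_sum_filter_not Finset.univ (fun ν : Z => sg ν = -1),
    Finset.sum_congr rfl (g := fun _ => (-1 : ℤ)) (fun ν hν => (Finset.mem_filter.1 hν).2),
    Finset.sum_congr rfl (s₂ := Finset.univ.filter fun ν : Z => ¬ sg ν = -1) (g := fun _ => (1 : ℤ))
      (fun ν hν => (sg_sq ν).resolve_right (Finset.mem_filter.1 hν).2),
    Finset.sum_const, Finset.sum_const] at e
  have hc := Finset.card_filter_add_card_filter_not (s := (Finset.univ : Finset Z))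
    (fun ν : Z => sg ν = -1)
  rw [Finset.card_univ, ZMod.card] at hc
  simp only [nsmul_eq_mul, mul_one, mul_neg] at e
  omega

/-- The sum of squared differences. -/
def D2 (m : Z → ℤ) : ℤ := ∑ ν : Z, ∑ μ : Z, (m ν - m μ) * (m ν - m μ)

theorem D2_nonneg (m : Z → ℤ) : 0 ≤ D2 m :=
  Finset.sum_nonneg fun _ _ => Finset.sum_nonneg fun _ _ => mul_self_nonneg _

theorem D2_eq (m : Z → ℤ) :
    D2 m = 2 * ((2 * h : ℕ) * ∑ ν : Z, m ν * m ν - (∑ ν : Z, m ν) * ∑ ν : Z, m ν) := by
  simp only [D2, sub_mul, mul_sub, Finset.sum_sub_distrib, Finset.sum_const, Finset.card_univ,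
    ZMod.card, nsmul_eq_mul, ← Finset.mul_sum, ← Finset.sum_mul]
  ring

theorem D2_eq_zero {m : Z → ℤ} (e : D2 m = 0) (ν μ : Z) : m ν = m μ := by
  have h1 := (Finset.sum_eq_zero_iff_of_nonneg
    (fun a _ => Finset.sum_nonneg fun _ _ => mul_self_nonneg _)).1 e ν (Finset.mem_univ _)
  have h2 := (Finset.sum_eq_zero_iff_of_nonneg (fun b _ => mul_self_nonneg _)).1 h1 μ
    (Finset.mem_univ _)
  exact sub_eq_zero.1 (mul_self_eq_zero.1 h2)

theorem D2_ge_level (m : Z → ℤ) (c : ℤ) :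
    let k := ((Finset.univ.filter fun ν : Z => m ν = c).card : ℤ)
    2 * k * ((2 * h : ℕ) - k) ≤ D2 m := by
  intro k
  set S := Finset.univ.filter fun ν : Z => m ν = c with hS
  have hkS : k = (S.card : ℤ) := rfl
  rw [hkS]
  have hone : ∀ x : ℤ, x ≠ 0 → 1 ≤ x * x := fun x hx => by nlinarith [mul_self_pos.2 hx]
  have hrow : ∀ ν : Z, (if m ν = c then ((2 * h : ℕ) : ℤ) - S.card else (S.card : ℤ)) ≤
      ∑ μ : Z, (m ν - m μ) * (m ν - m μ) := by
    intro ν
    have hc := Finset.card_filter_add_card_filter_not (s := (Finset.univ : Finset Z))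
      (fun μ : Z => m μ = c)
    rw [Finset.card_univ, ZMod.card, ← hS] at hc
    split_ifs with e
    · refine le_trans ?_ (Finset.sum_le_sum_of_subset_of_nonneg
        (Finset.filter_subset (fun μ => ¬ m μ = c) Finset.univ) fun _ _ _ => mul_self_nonneg _)
      refine le_trans ?_ (Finset.card_nsmul_le_sum _ _ 1 fun μ hμ => hone _ fun e0 =>
        (Finset.mem_filter.1 hμ).2 ((sub_eq_zero.1 e0).symm.trans e))
      rw [nsmul_eq_mul, mul_one]
      omega
    · refine le_trans ?_ (Finset.sum_le_sum_of_subset_of_nonneg (Finset.subset_univ S)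
        fun _ _ _ => mul_self_nonneg _)
      refine le_trans ?_ (Finset.card_nsmul_le_sum _ _ 1 fun μ hμ => hone _ fun e0 =>
        e ((sub_eq_zero.1 e0).trans (Finset.mem_filter.1 hμ).2))
      rw [nsmul_eq_mul, mul_one]
  refine le_trans ?_ (Finset.sum_le_sum fun ν _ => hrow ν)
  have hc := Finset.card_filter_add_card_filter_not (s := (Finset.univ : Finset Z))
    (fun μ : Z => m μ = c)
  rw [Finset.card_univ, ZMod.card, ← hS] at hc
  rw [Finset.sum_ite, Finset.sum_const, Finset.sum_const, nsmul_eq_mul, nsmul_eq_mul, ← hS]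
  have hc' : ((Finset.univ.filter fun μ : Z => ¬ m μ = c).card : ℤ) = ((2 * h : ℕ) : ℤ) - S.card := by
    omega
  rw [hc']
  ring_nf
  exact le_refl _

theorem D2_nonconst {m : Z → ℤ} {ν : Z} (hν : m ν ≠ m 0) : 2 * ((2 * h : ℕ) - 1 : ℤ) ≤ D2 m := by
  refine le_trans ?_ (D2_ge_level m (m 0))
  have h1 : 0 < (Finset.univ.filter fun μ : Z => m μ = m 0).card :=
    Finset.card_pos.2 ⟨0, by simp⟩
  have h2 : (Finset.univ.filter fun μ : Z => m μ = m 0).card < 2 * h := by
    have h3 := Finset.card_lt_card (show Finset.univ.filter (fun μ : Z => m μ = m 0) ⊂ Finset.univ from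
      Finset.filter_ssubset.2 ⟨ν, Finset.mem_univ _, hν⟩)
    rwa [Finset.card_univ, ZMod.card] at h3
  generalize (Finset.univ.filter fun μ : Z => m μ = m 0).card = k at h1 h2 ⊢
  have a : (1 : ℤ) ≤ k := by exact_mod_cast h1
  have b : (k : ℤ) + 1 ≤ (2 * h : ℕ) := by exact_mod_cast h2
  nlinarith [mul_nonneg (sub_nonneg.2 a) (sub_nonneg.2 b)]

theorem D2_balanced {m : Z → ℤ} (hsym : ∀ ν, m (-ν) = m ν) (hhalf : m (h : Z) = m 0) {ν : Z}
    (hν : m ν ≠ m 0) : 4 * ((2 * h : ℕ) - 2 : ℤ) ≤ D2 m := by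
  refine le_trans ?_ (D2_ge_level m (m 0))
  set S := Finset.univ.filter fun μ : Z => m μ = m 0 with hS
  have hh0 : (0 : Z) ≠ (h : Z) := fun e => by
    have e' := (ZMod.natCast_eq_zero_iff h _).1 e.symm
    have := NeZero.ne (2 * h)
    have := Nat.le_of_dvd (by omega) e'
    omega
  have h1 : 2 ≤ S.card := by
    refine (Finset.card_pair hh0).symm.le.trans ?_
    exact Finset.card_le_card fun μ hμ => by
      simp only [Finset.mem_insert, Finset.mem_singleton] at hμ
      rcases hμ with rfl | rfl <;> simp [hS, hhalf]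
  have hnn : ν ≠ -ν := fun e => by
    rcases (ZMod.neg_eq_self_iff ν).1 e.symm with e0 | e0
    · exact hν (by rw [e0])
    · refine hν ?_
      rw [← ZMod.natCast_zmod_val ν, show ν.val = h by omega, hhalf]
  have h2 : S.card + 2 ≤ 2 * h := by
    have hd : Disjoint S {ν, -ν} := by
      simp [Finset.disjoint_left, hS]
      intro μ hμ
      refine ⟨fun e => hν (e ▸ hμ), fun e => hν ?_⟩
      rw [← hsym ν, ← e, hμ]
    have h3 := Finset.card_le_card (Finset.subset_univ (S ∪ {ν, -ν}))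
    rwa [Finset.card_union_of_disjoint hd, Finset.card_pair hnn, Finset.card_univ, ZMod.card] at h3
  generalize S.card = k at h1 h2 ⊢
  have a : (2 : ℤ) ≤ k := by exact_mod_cast h1
  have b : (k : ℤ) + 2 ≤ (2 * h : ℕ) := by exact_mod_cast h2
  nlinarith [mul_nonneg (sub_nonneg.2 a) (sub_nonneg.2 b)]

theorem two_mul_sum_sg_le (m : Z → ℤ) : 2 * (h : ℤ) * |∑ ν : Z, sg ν * m ν| ≤ D2 m := by
  set O := Finset.univ.filter fun ν : Z => sg ν = -1 with hO
  have hshift : ∀ s ∈ O, 2 * |∑ ν : Z, sg ν * m ν| ≤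
      ∑ ν : Z, (m ν - m (ν + s)) * (m ν - m (ν + s)) := by
    intro s hs
    have hs' : sg s = -1 := (Finset.mem_filter.1 hs).2
    have e : ∑ ν : Z, sg ν * m (ν + s) = -∑ ν : Z, sg ν * m ν := by
      rw [← Finset.sum_neg_distrib]
      refine Fintype.sum_equiv (Equiv.addRight s) _ _ fun ν => ?_
      rw [Equiv.coe_addRight, sg_add, hs']
      ring
    have e2 : 2 * ∑ ν : Z, sg ν * m ν = ∑ ν : Z, sg ν * (m ν - m (ν + s)) := by
      simp only [mul_sub, Finset.sum_sub_distrib, e]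
      ring
    calc 2 * |∑ ν : Z, sg ν * m ν| = |∑ ν : Z, sg ν * (m ν - m (ν + s))| := by
          rw [← e2, abs_mul]; norm_num
      _ ≤ ∑ ν : Z, |sg ν * (m ν - m (ν + s))| := Finset.abs_sum_le_sum_abs _ _
      _ ≤ _ := Finset.sum_le_sum fun ν _ => by
        rw [abs_mul, abs_eq (by norm_num : (0 : ℤ) ≤ 1) |>.2 (sg_sq ν), one_mul]
        exact Int.natAbs_le_self_sq (m ν - m (ν + s)) |>.trans (le_of_eq (sq _))
          |> (le_of_eq_of_le (Int.abs_eq_natAbs _))
  have h1 := Finset.card_nsmul_le_sum O _ _ hshift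
  rw [hO, card_odd, nsmul_eq_mul, Finset.sum_comm] at h1
  refine le_trans (le_of_eq (by ring)) (h1.trans ?_)
  refine Finset.sum_le_sum fun ν _ => ?_
  refine le_trans (Finset.sum_le_sum_of_subset_of_nonneg (Finset.subset_univ _)
    fun _ _ _ => mul_self_nonneg _) (le_of_eq ?_)
  exact Fintype.sum_equiv (Equiv.addLeft ν) _ _ fun s => rfl

theorem even_sum_sg_sub {m : Z → ℤ} (hsym : ∀ ν, m (-ν) = m ν) :
    Even (∑ ν : Z, sg ν * m ν - (m 0 - m (h : Z))) := by
  rw [even_iff_two_dvd, show (2 : ℤ) = ((2 : ℕ) : ℤ) from rfl,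
    ← ZMod.intCast_zmod_eq_zero_iff_dvd]
  push_cast
  have hcast : ∀ ν : Z, ((sg ν : ℤ) : ZMod 2) = 1 := fun ν => by
    rcases sg_sq ν with e | e <;> rw [e] <;> decide
  simp only [hcast, one_mul]
  have hh0 : (0 : Z) ≠ (h : Z) := fun e => by
    have e' := (ZMod.natCast_eq_zero_iff h _).1 e.symm
    have := NeZero.ne (2 * h)
    have := Nat.le_of_dvd (by omega) e'
    omega
  rw [← Finset.sum_sdiff (Finset.subset_univ ({0, (h : Z)} : Finset Z)), Finset.sum_pair hh0]
  have hz : ∑ ν ∈ Finset.univ \ ({0, (h : Z)} : Finset Z), (m ν : ZMod 2) = 0 := by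
    refine Finset.sum_involution (fun ν _ => -ν) (fun ν _ => ?_) (fun ν hν _ => ?_) (fun ν hν => ?_)
      fun ν _ => neg_neg ν
    · rw [hsym]; exact CharTwo.add_self_eq_zero _
    · simp only [Finset.mem_sdiff, Finset.mem_univ, Finset.mem_insert, Finset.mem_singleton,
        true_and, not_or] at hν
      intro e
      rcases (ZMod.neg_eq_self_iff ν).1 e with e0 | e0
      · exact hν.1 e0
      · refine hν.2 ?_
        rw [← ZMod.natCast_zmod_val ν, show ν.val = h by omega]
    · simp only [Finset.mem_sdiff, Finset.mem_univ, Finset.mem_insert, Finset.mem_singleton,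
        true_and, not_or] at hν ⊢
      refine ⟨fun e => hν.1 (neg_eq_zero.1 e), fun e => hν.2 ?_⟩
      have e2 : -(h : Z) = (h : Z) := (ZMod.neg_eq_self_iff _).2 (Or.inr (by
        rw [ZMod.val_natCast, Nat.mod_eq_of_lt (by have := NeZero.ne (2 * h); omega)]))
      rw [← neg_neg ν, e, e2]
  rw [hz, zero_add, sub_eq_add_neg, sub_eq_add_neg, CharTwo.neg_eq, CharTwo.neg_eq]
  exact CharTwo.add_self_eq_zero _

end CfsgLib.GW.Twist.CyclicVec
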