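import Cfsg.Agent.Lib.GW.Twist.DihedralCoord

/-!
# The twist lemma for a dihedral Sylow 2-subgroup: congruence at the involution

An odd coefficient of a linear character of `A` makes the other fixed coefficients even.
-/

set_option autoImplicit false
set_option linter.unusedSectionVars false
set_option linter.unusedDecidableInType false
set_option maxHeartbeats 800000

namespace CfsgLib.GW.Twist

open CfsgLib.Char CfsgLib.Invol
open CfsgLib.Recog.NonCA (eq_one_of_sq_of_odd Two two_sum_invol cf cfZ cfZ_cast isIntegral_hom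
  conj_hom_apply class_sum isIntegral_intCast)
open scoped ComplexConjugate

universe v

namespace RotCent

open scoped _root_.Classical

variable {X : Type v} [Group X] [Fintype X] {T : Sylow 2 X} {D : DihData (T : Subgroup X)} {u : X}
  {F A : Subgroup X} (h : RotCent T D u F A)
include h

theorem exists_dpart (k : h.K) : ∃ d : A, ∃ f ∈ F, (k : X) = f * (d : X) := by
  obtain ⟨f, hf, d, hd, e⟩ := h.mem_K.1 k.2
  exact ⟨⟨d, hd⟩, f, hf, e⟩

/-- The `A`-part of an element of `K`. -/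
noncomputable def dpart (k : h.K) : A := (h.exists_dpart k).choose

theorem dpart_eq {k : h.K} {f : X} (hf : f ∈ F) {d : A} (e : (k : X) = f * (d : X)) :
    h.dpart k = d := by
  obtain ⟨f', hf', e'⟩ := (h.exists_dpart k).choose_spec
  exact Subtype.ext (h.FD_ext hf' hf (h.dpart k).2 d.2 (e'.symm.trans e)).2

/-- The projection `K → A`. -/
noncomputable def proj : h.K →* A := MonoidHom.mk' h.dpart fun a b => by
  obtain ⟨f, hf, e⟩ := (h.exists_dpart a).choose_spec
  obtain ⟨f', hf', e'⟩ := (h.exists_dpart b).choose_spec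
  have e2 : ((a * b : h.K) : X) =
      (f * ((h.dpart a : X) * f' * (h.dpart a : X)⁻¹)) * ((h.dpart a * h.dpart b : A) : X) := by
    rw [Subgroup.coe_mul, Subgroup.coe_mul]
    exact (congrArg₂ (· * ·) e e').trans h.mul_FD
  exact h.dpart_eq (mul_mem hf (h.hAF _ (h.dpart a).2 f' hf')) e2

/-- The inflation of a character of `A` to `K`. -/
noncomputable def lamK (l : A →* ℂˣ) : h.K →* ℂˣ := l.comp h.proj

theorem lamK_apply {l : A →* ℂˣ} {k : h.K} {f : X} (hf : f ∈ F) {d : A}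
    (e : (k : X) = f * (d : X)) : h.lamK l k = l d := by
  rw [lamK, MonoidHom.comp_apply]
  exact congrArg l (h.dpart_eq hf e)

/-- The linear character `l`, inflated, as an irreducible character. -/
noncomputable def lamIrr (l : A →* ℂˣ) : Cfsg.IrrCharacter h.K :=
  ⟨fun k => (h.lamK l k : ℂ), isIrrCharacter_linear (h.lamK l)⟩

theorem lamIrr_injective : Function.Injective h.lamIrr := fun l l' e => MonoidHom.ext fun d => by
  have hd : ((⟨d, h.A_le_K d.2⟩ : h.K) : X) = (1 : X) * (d : X) := (one_mul _).symm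
  have e' : h.lamK l ⟨d, h.A_le_K d.2⟩ = h.lamK l' ⟨d, h.A_le_K d.2⟩ :=
    Units.ext (congrFun (congrArg Subtype.val e) _)
  rwa [h.lamK_apply (one_mem _) hd, h.lamK_apply (one_mem _) hd] at e'

theorem lamK_uK (l : A →* ℂˣ) (k : h.K) : h.lamK l (h.uK k) = h.lamK l k := by
  obtain ⟨f, hf, d, hd, ek⟩ := h.mem_K.1 k.2
  rw [h.lamK_apply hf (d := ⟨d, hd⟩) ek, h.lamK_apply (inv_mem hf) (d := ⟨d, hd⟩)]
  rw [uK_coe, ek]
  exact h.u_conj_FD hf hd

theorem lamIrr_fix (l : A →* ℂˣ) : h.Fix (h.lamIrr l) := fun k => by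
  show ((h.lamK l (h.uK k) : ℂˣ) : ℂ) = _
  rw [h.lamK_uK]
  rfl

theorem uK_eq_self {k : h.K} : h.uK k = k ↔ (k : X) ∈ A := by
  constructor
  · intro e
    obtain ⟨f, hf, d, hd, ek⟩ := h.mem_K.1 k.2
    have e1 : u * (k : X) * u⁻¹ = k := congrArg Subtype.val e
    rw [ek, h.u_conj_FD hf hd, mul_left_inj] at e1
    have hf1 : f = 1 := eq_one_of_sq_of_odd h.hFodd hf (by
      nth_rewrite 2 [← e1]; exact mul_inv_cancel f)
    rw [ek, hf1, one_mul]; exact hd
  · intro hk
    refine Subtype.ext ?_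
    rw [uK_coe, h.hAu _ hk, mul_inv_cancel_right]

theorem dz_comm_A (d : A) : dz T D * A.subtype d = A.subtype d * dz T D :=
  h.dz_comm_K (h.A_le_K d.2)

theorem dz_comm_u : dz T D * u = u * dz T D := (dz_commute T D h.huT).eq

/-- The coefficient on `a A`. -/
noncomputable def cr (l : A →* ℂˣ) (χ : Cfsg.IrrCharacter X) : ℤ :=
  cfZ h.orderOf_dz h.dz_comm_A l χ

theorem cr_eq (l : A →* ℂˣ) (χ : Cfsg.IrrCharacter X) :
    (Nat.card A : ℂ) * h.cr l χ = ∑ d : A, (χ : X → ℂ) (dz T D * d) * conj (l d : ℂ) := by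
  rw [cr, cfZ_cast, cf, ← mul_assoc, mul_inv_cancel₀ natCard_ne_zero, one_mul]
  rfl

theorem co_eq (θ : Cfsg.IrrCharacter h.K) (χ : Cfsg.IrrCharacter X) :
    (Nat.card h.K : ℂ) * h.fh θ χ =
      ∑ k : h.K, (χ : X → ℂ) (dz T D * k) * conj ((θ : h.K → ℂ) k) := by
  rw [h.fh_cast, f, classInner_def, h.rp_half, ← mul_assoc, mul_inv_cancel₀ natCard_ne_zero,
    one_mul]

theorem chi_dz_uK (χ : Cfsg.IrrCharacter X) (k : h.K) :
    (χ : X → ℂ) (dz T D * h.uK k) = (χ : X → ℂ) (dz T D * k) := by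
  have e : dz T D * (h.uK k : X) = u * (dz T D * k) * u⁻¹ := by
    rw [uK_coe, ← mul_assoc, ← mul_assoc, ← mul_assoc, h.dz_comm_u]
  rw [e]
  exact irr_isClassFunction χ.2 _ u

/-- Sums over `K` of functions invariant under `u` are sums over `A` modulo two. -/
theorem two_sum_K_sub (φ : h.K → ℂ) (hinv : ∀ k, φ (h.uK k) = φ k)
    (hint : ∀ k, IsIntegral ℤ (φ k)) :
    Two (∑ k : h.K, φ k - ∑ d : A, φ ⟨d, h.A_le_K d.2⟩) := by
  have e : ∑ d : A, φ ⟨d, h.A_le_K d.2⟩ =
      ∑ k ∈ Finset.univ.filter (fun k : h.K => (k : X) ∈ A), φ k := by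
    refine Finset.sum_bij (fun d _ => (⟨d, h.A_le_K d.2⟩ : h.K))
      (fun d _ => Finset.mem_filter.2 ⟨Finset.mem_univ _, d.2⟩)
      (fun a _ b _ e => Subtype.ext (congrArg (fun k : h.K => (k : X)) e))
      (fun k hk => ⟨⟨k, (Finset.mem_filter.1 hk).2⟩, Finset.mem_univ _, rfl⟩) (fun d _ => rfl)
  rw [e, ← Finset.sum_filter_add_sum_filter_not Finset.univ (fun k : h.K => (k : X) ∈ A),
    add_sub_cancel_left]
  refine two_sum_invol _ h.uK ?_ (fun k _ => h.uK_uK k) ?_ (fun k _ => hinv k) (fun k _ => hint k)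
  · intro k hk
    simp only [Finset.mem_filter, Finset.mem_univ, true_and] at hk ⊢
    intro e
    refine hk ?_
    rw [← h.uK_uK k, show h.uK (h.uK k) = h.uK k from h.uK_eq_self.2 e]
    exact e
  · intro k hk e
    exact (Finset.mem_filter.1 hk).2 (h.uK_eq_self.1 e)

theorem cr_fh_even (l : A →* ℂˣ) (χ : Cfsg.IrrCharacter X) :
    Even (h.cr l χ - h.fh (h.lamIrr l) χ) := by
  have h1 := h.two_sum_K_sub (fun k => (χ : X → ℂ) (dz T D * k) * conj (h.lamK l k : ℂ))
    (fun k => by rw [h.chi_dz_uK, h.lamK_uK]) (fun k => (CfsgLib.BlockB.irr_isIntegral χ _).mul (by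
      rw [conj_hom_apply, ← map_inv]; exact isIntegral_hom _ _))
  have hco : ∑ k : h.K, (χ : X → ℂ) (dz T D * k) * conj (h.lamK l k : ℂ) =
      (Nat.card h.K : ℂ) * h.fh (h.lamIrr l) χ := (h.co_eq (h.lamIrr l) χ).symm
  rw [hco, Finset.sum_congr rfl fun (d : A) _ => show
      (χ : X → ℂ) (dz T D * ((⟨d, h.A_le_K d.2⟩ : h.K) : X)) *
        conj (h.lamK l ⟨d, h.A_le_K d.2⟩ : ℂ) = (χ : X → ℂ) (dz T D * d) * conj (l d : ℂ) by
    rw [h.lamK_apply (one_mem F) (d := d) (one_mul _).symm], ← h.cr_eq] at h1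
  have h2 : Even ((Nat.card h.K : ℤ) * h.fh (h.lamIrr l) χ - (Nat.card A : ℤ) * h.cr l χ) :=
    Two.even (by push_cast; exact h1)
  have hK : Odd (Nat.card h.K : ℤ) := (Int.odd_coe_nat _).2 h.odd_K
  have hD : Odd (Nat.card A : ℤ) := (Int.odd_coe_nat _).2 h.hAodd
  rw [Int.even_sub, Int.even_mul, Int.even_mul] at h2
  rw [Int.even_sub]
  have a := Int.not_even_iff_odd.2 hK
  have b := Int.not_even_iff_odd.2 hD
  tauto

theorem fusion_lam (l : A →* ℂˣ) {g : X} {d d' : A} (e : (d' : X) = g * d * g⁻¹) : l d' = l d := by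
  obtain ⟨c, rfl⟩ := h.fusion_A e
  rw [map_mul, map_mul, map_inv, mul_right_comm, mul_inv_cancel, one_mul]

/-- For a fixed character, the restriction to `tA` is congruent to its multiple. -/
theorem two_sub_fixed {l : A →* ℂˣ}
    {χ : Cfsg.IrrCharacter X} (hl : Odd (h.fh (h.lamIrr l) χ)) (y : A) :
    Two ((χ : X → ℂ) ((dz T D) * y) - (h.fh (h.lamIrr l) χ : ℂ) * (l y : ℂ)) := by
  set Q : A → Finset A := fun x => Finset.univ.filter (fun δ : A => IsConj (x : X) (δ : X)) with hQ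
  set ω : A → ℂ := fun x => Cfsg.centralChar (χ : X → ℂ) (x : X) with hω
  have hint := fun z : X => CfsgLib.BlockB.irr_isIntegral χ z
  have hconjl : ∀ a : A, IsIntegral ℤ (conj (l a : ℂ)) := fun a => by
    rw [conj_hom_apply, ← map_inv]; exact isIntegral_hom _ _
  have s1 : ∀ x y : A, Two ((χ : X → ℂ) ((dz T D) * y) * ω x -
      ∑ δ ∈ Q x, (χ : X → ℂ) ((dz T D) * y * δ)) := by
    intro x y
    simp only [hω]
    rw [← class_sum χ ((dz T D) * (y : X)) (x : X)]
    set Cx : Finset X := Finset.univ.filter (IsConj (x : X)) with hCx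
    have hA : Cx.filter (fun c => c ∈ A) = (Q x).image (fun δ : A => (δ : X)) := by
      ext c
      simp only [hCx, hQ, Finset.mem_filter, Finset.mem_univ, true_and, Finset.mem_image]
      exact ⟨fun hc => ⟨⟨c, hc.2⟩, hc.1, rfl⟩, fun ⟨δ, hδ, e⟩ => e ▸ ⟨hδ, δ.2⟩⟩
    rw [← Finset.sum_filter_add_sum_filter_not Cx (fun c => c ∈ A), hA,
      Finset.sum_image Subtype.val_injective.injOn, add_sub_cancel_left,
      ← Finset.sum_filter_add_sum_filter_not (Cx.filter fun c => c ∉ A) (fun c => c * (dz T D) = (dz T D) * c)]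
    refine Two.add ?_ ?_
    · refine two_sum_invol _ (fun c => u * c * u⁻¹) ?_ ?_ ?_ ?_ (fun c _ => hint _)
      · intro c hc
        simp only [hCx, Finset.mem_filter, Finset.mem_univ, true_and] at hc ⊢
        refine ⟨⟨hc.1.1.trans (isConj_iff.2 ⟨u, rfl⟩), fun e => hc.1.2 ?_⟩, ?_⟩
        · have e2 : c = u⁻¹ * (u * c * u⁻¹) * u := by group
          rw [e2, mul_assoc, ← h.hAu _ e, inv_mul_cancel_left]
          exact e
        · have hu : Commute u (dz T D) := h.dz_comm_u.symm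
          exact ((hu.mul_left (show Commute c (dz T D) from hc.2)).mul_left hu.inv_left).eq
      · intro c _
        simp only [h.uinv, ← mul_assoc, h.uu', one_mul]
        rw [mul_assoc, h.uu', mul_one]
      · intro c hc e
        simp only [hCx, Finset.mem_filter, Finset.mem_univ, true_and] at hc
        have hcK : c ∈ h.K := h.mem_K_of_conj (h.A_le_K x.2) hc.1.1 hc.2
        exact hc.1.2 (h.uK_eq_self.1 (show h.uK ⟨c, hcK⟩ = ⟨c, hcK⟩ from Subtype.ext e))
      · intro c _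
        rw [← irr_isClassFunction χ.2 ((dz T D) * (y : X) * c) u]
        refine congrArg (χ : X → ℂ) ?_
        calc (dz T D) * (y : X) * (u * c * u⁻¹) = (dz T D) * ((y : X) * u) * c * u⁻¹ := by group
          _ = u * ((dz T D) * (y : X) * c) * u⁻¹ := by
            rw [← h.hAu _ y.2, ← mul_assoc, h.dz_comm_u]; group
    · refine two_sum_invol _ (fun c => (dz T D) * c * (dz T D)⁻¹) ?_ ?_ ?_ ?_ (fun c _ => hint _)
      · intro c hc
        simp only [hCx, Finset.mem_filter, Finset.mem_univ, true_and] at hc ⊢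
        refine ⟨⟨hc.1.1.trans (isConj_iff.2 ⟨(dz T D), rfl⟩), fun e => hc.2 ?_⟩, fun e => hc.2 ?_⟩
        · have e2 : c = (dz T D)⁻¹ * ((dz T D) * c * (dz T D)⁻¹) * (dz T D) := by group
          have e3 : (dz T D)⁻¹ * ((dz T D) * c * (dz T D)⁻¹) * (dz T D) ∈ A := by
            rw [mul_assoc, ← h.dz_comm_K (h.A_le_K e), inv_mul_cancel_left]; exact e
          rw [← e2] at e3
          exact (h.dz_comm_K (h.A_le_K e3)).symm
        · calc c * (dz T D) = (dz T D)⁻¹ * ((dz T D) * c * (dz T D)⁻¹ * (dz T D)) * (dz T D) := by group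
            _ = (dz T D)⁻¹ * ((dz T D) * ((dz T D) * c * (dz T D)⁻¹)) * (dz T D) := by rw [e]
            _ = (dz T D) * c := by group
      · intro c _
        simp only [invol_inv h.orderOf_dz, ← mul_assoc, invol_mul_self h.orderOf_dz, one_mul]
        rw [mul_assoc, invol_mul_self h.orderOf_dz, mul_one]
      · intro c hc e
        exact (Finset.mem_filter.1 hc).2 (mul_inv_eq_iff_eq_mul.1 e).symm
      · intro c _
        rw [← irr_isClassFunction χ.2 ((dz T D) * (y : X) * c) (dz T D)]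
        refine congrArg (χ : X → ℂ) ?_
        calc (dz T D) * (y : X) * ((dz T D) * c * (dz T D)⁻¹) = (dz T D) * ((y : X) * (dz T D)) * c * (dz T D)⁻¹ := by group
          _ = (dz T D) * ((dz T D) * (y : X) * c) * (dz T D)⁻¹ := by rw [← h.dz_comm_K (h.A_le_K y.2)]; group
  have hcr : Odd ((Nat.card A : ℤ) * h.cr l χ) :=
    ((Int.odd_coe_nat _).2 h.hAodd).mul (by
      have := Int.even_iff.1 (h.cr_fh_even l χ)
      rw [Int.odd_iff] at hl ⊢
      omega)
  have hshift : ∀ (z : A), ∑ y : A, conj (l y : ℂ) * (χ : X → ℂ) ((dz T D) * y * z) =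
      (l z : ℂ) * ((Nat.card A : ℂ) * h.cr l χ) := by
    intro z
    rw [h.cr_eq, Finset.mul_sum]
    refine Fintype.sum_equiv (Equiv.mulRight z) _ _ fun y => ?_
    rw [Equiv.coe_mulRight, Subgroup.coe_mul, map_mul, Units.val_mul, map_mul,
      conj_hom_apply l z]
    rw [show ∀ a b c : ℂ, (l z : ℂ) * (a * (b * c)) = ((l z : ℂ) * c) * (b * a) from
      fun a b c => by ring, ← Units.val_mul, mul_inv_cancel, Units.val_one, one_mul, mul_assoc (dz T D)]
  have s2 : ∀ x : A, Two (ω x - ∑ δ ∈ Q x, (l δ : ℂ)) := by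
    intro x
    refine Two.cancel_odd hcr ((CfsgLib.BlockB.irr_centralChar_isIntegral χ _).sub
      (IsIntegral.sum _ fun δ _ => isIntegral_hom _ _)) ?_
    have h1 : Two (∑ y : A, conj (l y : ℂ) * ((χ : X → ℂ) ((dz T D) * y) * ω x -
        ∑ δ ∈ Q x, (χ : X → ℂ) ((dz T D) * y * δ))) :=
      Two.sum _ fun y _ => (s1 x y).mul_left (hconjl y)
    convert h1 using 1
    simp only [mul_sub, Finset.sum_sub_distrib, Finset.mul_sum]
    rw [Finset.sum_comm (s := Finset.univ), Finset.sum_congr rfl fun δ _ => hshift δ]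
    push_cast
    rw [h.cr_eq, Finset.sum_mul]
    refine congrArg₂ (· - ·) ?_ ?_
    · exact Finset.sum_congr rfl fun y _ => by ring
    · exact Finset.sum_congr rfl fun δ _ => by rw [← h.cr_eq]; ring
  set gy : ℂ := (χ : X → ℂ) ((dz T D) * y) with hgy
  have s3 : ∀ x : A, Two (∑ δ ∈ Q x, (gy - conj (l δ : ℂ) * (χ : X → ℂ) ((dz T D) * y * δ))) := by
    intro x
    have h1 : Two ((gy * ω x - ∑ δ ∈ Q x, (χ : X → ℂ) ((dz T D) * y * δ)) -
        gy * (ω x - ∑ δ ∈ Q x, (l δ : ℂ))) := (s1 x y).sub ((s2 x).mul_left (hint _))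
    have h2 := h1.mul_left (hconjl x)
    convert h2 using 1
    simp only [Finset.sum_sub_distrib, mul_sub, Finset.mul_sum]
    have hone : ∀ δ ∈ Q x, (l δ : ℂ) = (l x : ℂ) := fun δ hδ => by
      obtain ⟨g, hg⟩ := isConj_iff.1 (Finset.mem_filter.1 hδ).2
      rw [h.fusion_lam l hg.symm]
    have e1 : conj (l x : ℂ) * (l x : ℂ) = 1 := by
      rw [conj_hom_apply, ← Units.val_mul, inv_mul_cancel, Units.val_one]
    rw [Finset.sum_congr rfl fun δ hδ => show
        conj (l δ : ℂ) * (χ : X → ℂ) ((dz T D) * y * δ) = conj (l x : ℂ) * (χ : X → ℂ) ((dz T D) * y * δ) by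
      rw [hone δ hδ],
      Finset.sum_congr rfl (s₂ := Q x) (g := fun _ => gy)
        (f := fun δ => conj (l x : ℂ) * (gy * (l δ : ℂ))) fun δ hδ => by
      rw [hone δ hδ, mul_left_comm, e1, mul_one]]
    ring
  have htot : Two (∑ δ : A, (gy - conj (l δ : ℂ) * (χ : X → ℂ) ((dz T D) * y * δ))) := by
    rw [← Finset.sum_fiberwise Finset.univ (fun δ : A => ConjClasses.mk (δ : X))]
    refine Two.sum _ fun C _ => ?_
    rcases (Finset.univ.filter fun δ : A => ConjClasses.mk (δ : X) = C).eq_empty_or_nonempty with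
      e | ⟨x, hx⟩
    · rw [e, Finset.sum_empty]; exact Two.zero
    · have e : (Finset.univ.filter fun δ : A => ConjClasses.mk (δ : X) = C) = Q x := by
        rw [← (Finset.mem_filter.1 hx).2]
        simp only [hQ]
        exact Finset.filter_congr fun δ _ => by
          rw [ConjClasses.mk_eq_mk_iff_isConj]; exact ⟨IsConj.symm, IsConj.symm⟩
      rw [e]; exact s3 x
  have hsum : ∑ δ : A, (gy - conj (l δ : ℂ) * (χ : X → ℂ) ((dz T D) * y * δ)) =
      ((Nat.card A : ℤ) : ℂ) * (gy - (h.cr l χ : ℂ) * (l y : ℂ)) := by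
    rw [Finset.sum_sub_distrib, Finset.sum_const, Finset.card_univ, nsmul_eq_mul,
      ← Nat.card_eq_fintype_card, Int.cast_natCast, mul_sub, ← mul_assoc, h.cr_eq, Finset.sum_mul]
    congr 1
    refine Fintype.sum_equiv (Equiv.mulLeft y) _ _ fun δ => ?_
    rw [Equiv.coe_mulLeft, Subgroup.coe_mul, ← mul_assoc, map_mul, Units.val_mul, map_mul,
      conj_hom_apply l y]
    rw [show ∀ a b c : ℂ, a * (b * c) * (l y : ℂ) = (b * (l y : ℂ)) * (c * a) from
      fun a b c => by ring, ← Units.val_mul, inv_mul_cancel, Units.val_one, one_mul]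
  rw [hsum] at htot
  have h1 : Two (gy - (h.cr l χ : ℂ) * (l y : ℂ)) := Two.cancel_odd
    ((Int.odd_coe_nat _).2 h.hAodd) ((hint _).sub ((isIntegral_intCast _).mul (isIntegral_hom _ _)))
    htot
  obtain ⟨k, hk⟩ := h.cr_fh_even l χ
  have h2 : Two (((h.cr l χ - h.fh (h.lamIrr l) χ : ℤ) : ℂ) * (l y : ℂ)) :=
    ⟨(k : ℂ) * (l y : ℂ), (isIntegral_intCast k).mul (isIntegral_hom _ _), by
      rw [hk]; push_cast; ring⟩
  convert h1.add h2 using 1
  push_cast
  ring

/-- Coefficients at the other characters of `K` fixed by `u` are even. -/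
theorem fh_even_of_fixed {l : A →* ℂˣ} {χ : Cfsg.IrrCharacter X}
    (hl : Odd (h.fh (h.lamIrr l) χ)) (θ : Cfsg.IrrCharacter h.K) (hθ : h.Fix θ)
    (hne : θ ≠ h.lamIrr l) : Even (h.fh θ χ) := by
  set R : h.K → ℂ := fun k =>
    ((χ : X → ℂ) (dz T D * k) - (h.fh (h.lamIrr l) χ : ℂ) * (h.lamK l k : ℂ)) *
      conj ((θ : h.K → ℂ) k) with hR
  have hθint : ∀ k, IsIntegral ℤ (conj ((θ : h.K → ℂ) k)) := fun k => by
    rw [← char_inv (irr_isCharacter θ.2)]; exact CfsgLib.BlockB.irr_isIntegral θ _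
  have h1 := h.two_sum_K_sub R
    (fun k => by simp only [hR]; rw [h.chi_dz_uK, h.lamK_uK, hθ])
    (fun k => ((CfsgLib.BlockB.irr_isIntegral χ _).sub
      ((isIntegral_intCast _).mul (isIntegral_hom _ _))).mul (hθint k))
  have h2 : Two (∑ d : A, R ⟨d, h.A_le_K d.2⟩) := Two.sum _ fun d _ => by
    simp only [hR]
    rw [h.lamK_apply (one_mem F) (d := d) (one_mul _).symm, mul_comm]
    exact (h.two_sub_fixed hl d).mul_left (hθint _)
  have h3 := h1.add h2
  rw [sub_add_cancel] at h3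
  have e : ∑ k : h.K, R k = (((Nat.card h.K : ℤ) * h.fh θ χ : ℤ) : ℂ) := by
    push_cast
    rw [h.co_eq]
    simp only [hR, sub_mul, Finset.sum_sub_distrib, mul_assoc, ← Finset.mul_sum]
    have h0 := irr_classInner_ne (h.lamIrr l).2 θ.2 (fun e => hne (Subtype.ext e).symm)
    rw [classInner_def, mul_eq_zero, or_iff_right (inv_ne_zero natCard_ne_zero)] at h0
    rw [show ∑ k : h.K, (h.lamK l k : ℂ) * conj ((θ : h.K → ℂ) k) = 0 from h0, mul_zero, sub_zero]
  rw [e] at h3
  have := h3.even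
  rw [Int.even_mul] at this
  exact this.resolve_left (Int.not_even_iff_odd.2 ((Int.odd_coe_nat _).2 h.odd_K))

end RotCent

end CfsgLib.GW.Twist
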