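import Cfsg.Agent.Lib.GW.Twist.DihedralSetup
import Cfsg.Agent.Lib.GW.Twist.CyclicVec
import Cfsg.Agent.Lib.Recog.NonCA.KleinChar.Norms

/-!
# The twist lemma for a dihedral Sylow 2-subgroup: coefficients on the rotation sections
-/

set_option autoImplicit false
set_option linter.unusedSectionVars false
set_option linter.unusedDecidableInType false
set_option maxHeartbeats 800000

namespace CfsgLib.GW.Twist

open CfsgLib.Char CfsgLib.Invol CfsgLib.BlockA.DihedralBlock
open CfsgLib.Recog.NonCA (column_count)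
open CyclicVec (sg D2)
open scoped ComplexConjugate

universe v

section Psi

variable {S : Type*} [Group S] (D : DihData S)

local notation "Z" => ZMod (2 * D.h)

theorem isPrimitiveRoot_q :
    IsPrimitiveRoot (Complex.exp (2 * Real.pi * Complex.I / ((2 * D.h : ℕ) : ℂ))) (2 * D.h) :=
  Complex.isPrimitiveRoot_exp _ (NeZero.ne _)

/-- The standard additive character. -/
noncomputable def psi : AddChar Z ℂ :=
  AddChar.zmodChar (2 * D.h) (isPrimitiveRoot_q D).pow_eq_one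

theorem psi_sum (b : Z) : ∑ x : Z, psi D (x * b) = if b = 0 then ((2 * D.h : ℕ) : ℂ) else 0 := by
  rw [psi, AddChar.sum_mulShift b (AddChar.zmodChar_primitive_of_primitive_root _ (isPrimitiveRoot_q D))]
  split_ifs <;> simp [ZMod.card]

theorem conj_psi (x : Z) : conj (psi D x) = psi D (-x) := (AddChar.map_neg_eq_conj _ x).symm

theorem psi_half : psi D (D.h : Z) = -1 := by
  have hp : 0 < D.h := D.h_pos
  rw [psi, AddChar.zmodChar_apply']
  set ζ := Complex.exp (2 * Real.pi * Complex.I / ((2 * D.h : ℕ) : ℂ))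
  have h1 : ζ ^ D.h * ζ ^ D.h = 1 := by
    rw [← pow_add, ← two_mul, (isPrimitiveRoot_q D).pow_eq_one]
  rcases mul_self_eq_one_iff.1 h1 with e | e
  · have := Nat.le_of_dvd hp (((isPrimitiveRoot_q D).pow_eq_one_iff_dvd D.h).1 e)
    omega
  · exact e

theorem psi_mul_half (ν : Z) : psi D (ν * (D.h : Z)) = (sg ν : ℂ) := by
  conv_lhs => rw [← ZMod.natCast_zmod_val ν, ← nsmul_eq_mul, AddChar.map_nsmul_eq_pow, psi_half]
  simp [sg]

end Psi

namespace RotCent

open scoped _root_.Classical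

variable {X : Type v} [Group X] [Fintype X] {T : Sylow 2 X} {D : DihData (T : Subgroup X)} {u : X}
  {F A : Subgroup X} (h : RotCent T D u F A)
include h

local notation "q" => (2 * D.h)
local notation "Z" => ZMod (2 * D.h)

/-- The rotations, as a homomorphism. -/
def rpHom : Multiplicative Z →* X where
  toFun x := h.rp x.toAdd
  map_one' := h.rp_zero
  map_mul' x y := h.rp_add x.toAdd y.toAdd

/-- The product of the rotations and `K`. -/
def secHom : Multiplicative Z × h.K →* X :=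
  h.rpHom.noncommCoprod h.K.subtype fun x k => h.rp_comm_K x.toAdd k.2

theorem secHom_apply (x : Multiplicative Z) (k : h.K) : h.secHom (x, k) = h.rp x.toAdd * (k : X) :=
  rfl

/-- The coefficient of `θ` on a section. -/
noncomputable def f (θ : Cfsg.IrrCharacter h.K) (χ : Cfsg.IrrCharacter X) (i : Z) : ℂ :=
  Cfsg.classInner (fun k : h.K => (χ : X → ℂ) (h.rp i * k)) (θ : h.K → ℂ)

theorem exists_mult (θ : Cfsg.IrrCharacter h.K) (χ : Cfsg.IrrCharacter X) (ν : Z) :
    ∃ m : ℕ, ((q : ℕ) : ℂ)⁻¹ * ∑ x : Z, psi D (-(ν * x)) * h.f θ χ x = m := by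
  let lin : Multiplicative Z × h.K →* ℂˣ :=
    (AddChar.toMonoidHom (AddChar.mulShift (psi D) ν)).toHomUnits.comp (MonoidHom.fst _ _)
  obtain ⟨m, hm⟩ := classInner_isCharacter_nat
    (isCharacter_comp (irr_isCharacter χ.2) h.secHom)
    (isCharacter_mul (irr_isCharacter (isIrrCharacter_linear lin))
      (isCharacter_comp (irr_isCharacter θ.2) (MonoidHom.snd (Multiplicative Z) h.K)))
  refine ⟨m, ?_⟩
  rw [← hm, classInner_def, Nat.card_prod, Fintype.sum_prod_type,
    Nat.card_congr Multiplicative.toAdd, Nat.card_zmod, Nat.cast_mul (2 * D.h), mul_inv, mul_assoc]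
  congr 1
  simp only [f, classInner_def, Finset.mul_sum]
  refine (Fintype.sum_equiv Multiplicative.toAdd _ _ fun x => ?_).symm
  refine Finset.sum_congr rfl fun k _ => ?_
  simp only [Function.comp_apply, secHom_apply, Pi.mul_apply, MonoidHom.coe_snd]
  change _ * ((χ : X → ℂ) _ * conj (psi D (ν * x.toAdd) * _)) = _
  rw [map_mul, conj_psi]
  ring

/-- The multiplicity of `ν ⊗ θ`. -/
noncomputable def mult (θ : Cfsg.IrrCharacter h.K) (χ : Cfsg.IrrCharacter X) (ν : Z) : ℤ :=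
  (h.exists_mult θ χ ν).choose

theorem mult_cast (θ : Cfsg.IrrCharacter h.K) (χ : Cfsg.IrrCharacter X) (ν : Z) :
    (h.mult θ χ ν : ℂ) = ((q : ℕ) : ℂ)⁻¹ * ∑ x : Z, psi D (-(ν * x)) * h.f θ χ x := by
  rw [mult, Int.cast_natCast, ← (h.exists_mult θ χ ν).choose_spec]

theorem q_ne : ((q : ℕ) : ℂ) ≠ 0 := Nat.cast_ne_zero.2 (NeZero.ne _)

theorem f_eq (θ : Cfsg.IrrCharacter h.K) (χ : Cfsg.IrrCharacter X) (i : Z) :
    h.f θ χ i = ∑ ν : Z, psi D (ν * i) * (h.mult θ χ ν : ℂ) := by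
  simp only [h.mult_cast, Finset.mul_sum]
  rw [Finset.sum_comm]
  have e : ∀ x : Z, ∑ ν : Z, psi D (ν * i) * (((q : ℕ) : ℂ)⁻¹ * (psi D (-(ν * x)) * h.f θ χ x)) =
      ((q : ℕ) : ℂ)⁻¹ * h.f θ χ x * if i - x = 0 then ((q : ℕ) : ℂ) else 0 := by
    intro x
    rw [← psi_sum, Finset.mul_sum]
    refine Finset.sum_congr rfl fun ν _ => ?_
    rw [mul_sub, sub_eq_add_neg, AddChar.map_add_eq_mul]
    ring
  simp only [e, sub_eq_zero]
  rw [Finset.sum_eq_single i, if_pos rfl]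
  · have := h.q_ne
    field_simp
  · intro x _ hx
    rw [if_neg (Ne.symm hx), mul_zero]
  · simp

theorem f_zero (θ : Cfsg.IrrCharacter h.K) (χ : Cfsg.IrrCharacter X) :
    h.f θ χ 0 = ((∑ ν : Z, h.mult θ χ ν : ℤ) : ℂ) := by
  rw [h.f_eq, Int.cast_sum]
  simp

/-- The coefficient at the involution. -/
noncomputable def fh (θ : Cfsg.IrrCharacter h.K) (χ : Cfsg.IrrCharacter X) : ℤ :=
  ∑ ν : Z, sg ν * h.mult θ χ ν

theorem fh_cast (θ : Cfsg.IrrCharacter h.K) (χ : Cfsg.IrrCharacter X) :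
    (h.fh θ χ : ℂ) = h.f θ χ (D.h : Z) := by
  rw [h.f_eq, fh]
  push_cast
  exact Finset.sum_congr rfl fun ν _ => by rw [psi_mul_half]

theorem parseval (θ : Cfsg.IrrCharacter h.K) (χ : Cfsg.IrrCharacter X) :
    ∑ x : Z, h.f θ χ x * conj (h.f θ χ x) =
      (((q : ℕ) * ∑ ν : Z, h.mult θ χ ν * h.mult θ χ ν : ℤ) : ℂ) := by
  simp only [h.f_eq, map_sum, map_mul, conj_psi, map_intCast, Finset.sum_mul, Finset.mul_sum]
  rw [Finset.sum_comm]
  push_cast
  refine Finset.sum_congr rfl fun ν _ => ?_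
  rw [Finset.sum_comm]
  have e : ∀ μ : Z, ∑ x : Z, psi D (μ * x) * (h.mult θ χ μ : ℂ) *
      (psi D (-(ν * x)) * (h.mult θ χ ν : ℂ)) =
      (h.mult θ χ ν : ℂ) * (h.mult θ χ μ : ℂ) * if μ - ν = 0 then ((q : ℕ) : ℂ) else 0 := by
    intro μ
    rw [← psi_sum, Finset.mul_sum]
    refine Finset.sum_congr rfl fun x _ => ?_
    rw [mul_sub, mul_comm x ν, mul_comm x μ, sub_eq_add_neg, AddChar.map_add_eq_mul]
    ring
  simp only [e, sub_eq_zero]
  rw [Finset.sum_eq_single ν, if_pos rfl]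
  · push_cast; ring
  · intro μ _ hμ
    rw [if_neg hμ, mul_zero]
  · simp

theorem D2_eq_norm (θ : Cfsg.IrrCharacter h.K) (χ : Cfsg.IrrCharacter X) :
    (D2 (h.mult θ χ) : ℝ) =
      2 * ∑ x ∈ Finset.univ.erase (0 : Z), Complex.normSq (h.f θ χ x) := by
  apply Complex.ofReal_injective
  have h1 := h.parseval θ χ
  rw [← Finset.add_sum_erase _ _ (Finset.mem_univ (0 : Z)), h.f_zero, map_intCast] at h1
  simp only [Complex.ofReal_mul, Complex.ofReal_ofNat, Complex.ofReal_sum, ← Complex.mul_conj,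
    Complex.ofReal_intCast, CyclicVec.D2_eq]
  push_cast at h1 ⊢
  linear_combination (-2 : ℂ) * h1

theorem chi_class (χ : Cfsg.IrrCharacter X) (i : Z) :
    Cfsg.IsClassFunction h.K (fun k : h.K => (χ : X → ℂ) (h.rp i * k)) := by
  intro a g
  show (χ : X → ℂ) (h.rp i * ((g * a * g⁻¹ : h.K) : X)) = (χ : X → ℂ) (h.rp i * a)
  have e : h.rp i * ((g * a * g⁻¹ : h.K) : X) = g * (h.rp i * a) * (g : X)⁻¹ := by
    simp only [Subgroup.coe_mul, Subgroup.coe_inv, ← mul_assoc, h.rp_comm_K i g.2]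
  rw [e]
  exact irr_isClassFunction χ.2 _ _

theorem expand [Fintype (Cfsg.IrrCharacter h.K)] (χ : Cfsg.IrrCharacter X) (i : Z) (k : h.K) :
    (χ : X → ℂ) (h.rp i * k) =
      ∑ θ : Cfsg.IrrCharacter h.K, h.f θ χ i * (θ : h.K → ℂ) k :=
  classFunction_apply_eq_sum (h.chi_class χ i) k

theorem card_M : (Finset.univ.filter fun g : X => g ∈ h.M).card = 2 * (q : ℕ) * Nat.card h.K := by
  rw [← Fintype.card_subtype, ← Nat.card_eq_fintype_card]
  show Nat.card h.M = _
  rw [show 2 * (q : ℕ) = Nat.card (T : Subgroup X) by rw [D.card_eq]; ring, ← Nat.card_prod]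
  refine (Nat.card_congr (Equiv.ofBijective
    (fun p : ↥(T : Subgroup X) × ↥h.K => (⟨(p.1 : X) * p.2, ⟨_, p.1.2, _, p.2.2, rfl⟩⟩ : h.M))
    ⟨?_, ?_⟩)).symm
  · rintro ⟨w, k⟩ ⟨w', k'⟩ e
    obtain ⟨e1, e2⟩ := h.decomp w.2 w'.2 k.2 k'.2 (congrArg Subtype.val e)
    exact Prod.ext (Subtype.ext e1) (Subtype.ext e2)
  · rintro ⟨x, w, hw, k, hk, rfl⟩
    exact ⟨(⟨w, hw⟩, ⟨k, hk⟩), rfl⟩

theorem rp_mul_ne_one {i : Z} (hi : i ≠ 0) (k : h.K) : h.rp i * (k : X) ≠ 1 := fun e =>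
  hi (h.decomp_rp k.2 (one_mem _) (e.trans (by rw [h.rp_zero, mul_one]))).1

/-- The sections carry less than the whole norm. -/
theorem weight_lt [Fintype (Cfsg.IrrCharacter h.K)] (χ : Cfsg.IrrCharacter X) :
    ∑ θ : Cfsg.IrrCharacter h.K, D2 (h.mult θ χ) < 4 * (q : ℕ) := by
  set nf : X → ℝ := fun y => Complex.normSq ((χ : X → ℂ) y) with hnf
  have hnn : ∀ y, 0 ≤ nf y := fun y => Complex.normSq_nonneg _
  set I : Finset (Z × h.K) := Finset.univ.erase (0 : Z) ×ˢ Finset.univ with hI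
  set π : X × Z × h.K → X := fun p => p.1 * (h.rp p.2.1 * p.2.2) * p.1⁻¹ with hπ
  set Ω : Finset (X × Z × h.K) := Finset.univ ×ˢ I with hΩ
  have hfib : ∀ y, ((Ω.filter fun p => π p = y).card : ℝ) ≤
      2 * ((q : ℕ) : ℝ) * (Nat.card h.K : ℝ) := by
    intro y
    rcases (Ω.filter fun p => π p = y).eq_empty_or_nonempty with e | ⟨p0, hp0⟩
    · rw [e, Finset.card_empty, Nat.cast_zero]; positivity
    have e0 : π p0 = y := (Finset.mem_filter.1 hp0).2
    have hcard : (Ω.filter fun p => π p = y).card ≤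
        (Finset.univ.filter fun g : X => g ∈ h.M).card := by
      refine Finset.card_le_card_of_injOn (fun p => p0.1⁻¹ * p.1) ?_ ?_
      · intro p hp
        obtain ⟨hp1, e1⟩ := Finset.mem_filter.1 hp
        simp only [hΩ, hI, Finset.mem_product, Finset.mem_erase] at hp1
        refine Finset.mem_filter.2 ⟨Finset.mem_univ _, ?_⟩
        refine h.sect (i := p.2.1) (j := p0.2.1) hp1.2.1.1 p.2.2.2 p0.2.2.2 ?_
        calc p0.1⁻¹ * p.1 * (h.rp p.2.1 * p.2.2) * (p0.1⁻¹ * p.1)⁻¹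
            = p0.1⁻¹ * π p * p0.1 := by rw [hπ]; group
          _ = p0.1⁻¹ * π p0 * p0.1 := by rw [e1, e0]
          _ = h.rp p0.2.1 * p0.2.2 := by rw [hπ]; group
      · intro p hp p' hp' e
        have e1 : π p = π p' := (Finset.mem_filter.1 hp).2.trans (Finset.mem_filter.1 hp').2.symm
        have e2 : p.1 = p'.1 := mul_left_cancel e
        rw [hπ] at e1
        simp only [e2, mul_left_inj, mul_right_inj] at e1
        obtain ⟨e3, e4⟩ := h.decomp_rp p.2.2.2 p'.2.2.2 e1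
        exact Prod.ext e2 (Prod.ext e3 (Subtype.ext e4))
    rw [h.card_M] at hcard
    exact_mod_cast hcard
  set S : ℝ := ∑ x ∈ Finset.univ.erase (0 : Z), ∑ k : h.K, nf (h.rp x * k) with hS
  have hpair : ∑ p ∈ Ω, nf (π p) = (Nat.card X : ℝ) * S := by
    rw [hΩ, Finset.sum_product, Nat.card_eq_fintype_card, ← nsmul_eq_mul, ← Finset.card_univ,
      ← Finset.sum_const]
    refine Finset.sum_congr rfl fun g _ => ?_
    rw [hI, Finset.sum_product, hS]
    refine Finset.sum_congr rfl fun x _ => Finset.sum_congr rfl fun k _ => ?_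
    simp only [hnf, hπ, irr_isClassFunction χ.2 (h.rp x * (k : X)) g]
  have htot : ∑ y : X, nf y = (Nat.card X : ℝ) := by
    have h1 := irr_classInner_self χ.2
    rw [classInner_def, inv_mul_eq_iff_eq_mul₀ natCard_ne_zero, mul_one] at h1
    apply Complex.ofReal_injective
    push_cast
    rw [← h1]
    exact Finset.sum_congr rfl fun y _ => (Complex.mul_conj _).symm
  have h1mem : (1 : X) ∉ Ω.image π := by
    intro e
    obtain ⟨⟨g, x, k⟩, hp, e⟩ := Finset.mem_image.1 e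
    simp only [hΩ, hI, Finset.mem_product, Finset.mem_erase] at hp
    exact h.rp_mul_ne_one hp.2.1.1 k (conj_eq_one_iff.1 e)
  have hpos : 0 < nf 1 := Complex.normSq_pos.2 (irr_apply_one_ne_zero χ.2)
  have himg : ∑ y ∈ Ω.image π, nf y < (Nat.card X : ℝ) := by
    rw [← htot]
    exact Finset.sum_lt_sum_of_subset (Finset.subset_univ _) (Finset.mem_univ (1 : X)) h1mem hpos
      fun y _ _ => hnn y
  have hle : ∑ p ∈ Ω, nf (π p) ≤
      2 * ((q : ℕ) : ℝ) * (Nat.card h.K : ℝ) * ∑ y ∈ Ω.image π, nf y := by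
    rw [Finset.sum_comp, Finset.mul_sum]
    refine Finset.sum_le_sum fun y _ => ?_
    rw [nsmul_eq_mul]
    exact mul_le_mul_of_nonneg_right (hfib y) (hnn y)
  have hXpos : (0 : ℝ) < Nat.card X := by exact_mod_cast Nat.card_pos
  have hKpos : (0 : ℝ) < Nat.card h.K := by exact_mod_cast Nat.card_pos
  have hqpos : (0 : ℝ) < ((q : ℕ) : ℝ) := Nat.cast_pos.2 (Nat.pos_of_ne_zero (NeZero.ne _))
  rw [hpair] at hle
  have hSlt : S < 2 * ((q : ℕ) : ℝ) * (Nat.card h.K : ℝ) :=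
    lt_of_mul_lt_mul_left (lt_of_le_of_lt hle (by nlinarith [mul_pos hqpos hKpos])) hXpos.le
  have hexp : ∀ x : Z, ∑ k : h.K, nf (h.rp x * k) =
      (Nat.card h.K : ℝ) * ∑ θ : Cfsg.IrrCharacter h.K, Complex.normSq (h.f θ χ x) := by
    intro x
    have h1 := classInner_eq_sum_mul (h.chi_class χ x) (fun k : h.K => (χ : X → ℂ) (h.rp x * k))
    rw [classInner_def, inv_mul_eq_iff_eq_mul₀ natCard_ne_zero] at h1
    apply Complex.ofReal_injective
    push_cast
    simp only [hnf, ← Complex.mul_conj]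
    exact h1
  have h3 : (((∑ θ : Cfsg.IrrCharacter h.K, D2 (h.mult θ χ) : ℤ)) : ℝ) * (Nat.card h.K : ℝ) =
      2 * S := by
    push_cast
    simp only [hS, hexp, h.D2_eq_norm, Finset.mul_sum, Finset.sum_mul]
    rw [Finset.sum_comm]
    exact Finset.sum_congr rfl fun x _ => Finset.sum_congr rfl fun θ _ => by ring
  have h4 : (((∑ θ : Cfsg.IrrCharacter h.K, D2 (h.mult θ χ) : ℤ)) : ℝ) < 4 * ((q : ℕ) : ℝ) :=
    lt_of_mul_lt_mul_right (by rw [h3]; linarith) hKpos.le
  exact_mod_cast h4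

/-- Conjugation by `u` on `K`. -/
def uK : h.K → h.K := fun k => ⟨u * k * u⁻¹, h.u_K k.2⟩

theorem uK_coe (k : h.K) : (h.uK k : X) = u * k * u⁻¹ := rfl

theorem uK_mul (a b : h.K) : h.uK (a * b) = h.uK a * h.uK b := Subtype.ext (by
  simp only [uK_coe, Subgroup.coe_mul]; group)

theorem uK_uK (k : h.K) : h.uK (h.uK k) = k := Subtype.ext (by
  simp only [uK_coe, h.uinv, ← mul_assoc, h.uu', one_mul]
  rw [mul_assoc, h.uu', mul_one])

/-- Conjugation by `u` on `K`, as an equivalence. -/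
def uEquiv : h.K ≃ h.K := ⟨h.uK, h.uK, h.uK_uK, h.uK_uK⟩

theorem chi_uK (χ : Cfsg.IrrCharacter X) (i : Z) (k : h.K) :
    (χ : X → ℂ) (h.rp i * h.uK k) = (χ : X → ℂ) (h.rp (-i) * k) := by
  rw [← irr_isClassFunction χ.2 (h.rp (-i) * (k : X)) u]
  refine congrArg (χ : X → ℂ) ?_
  rw [uK_coe]
  calc h.rp i * (u * (k : X) * u⁻¹) = (u * h.rp (-i) * u⁻¹) * (u * (k : X) * u⁻¹) := by
        rw [h.u_rp, neg_neg]
    _ = u * (h.rp (-i) * (k : X)) * u⁻¹ := by group

/-- `θ` is fixed by `u`. -/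
def Fix (θ : Cfsg.IrrCharacter h.K) : Prop := ∀ k, (θ : h.K → ℂ) (h.uK k) = (θ : h.K → ℂ) k

/-- The conjugate under `u`. -/
noncomputable def conjU (θ : Cfsg.IrrCharacter h.K) : Cfsg.IrrCharacter h.K :=
  ⟨fun k => (θ : h.K → ℂ) (h.uK k), isIrrCharacter_comp_surjective θ.2
    (MonoidHom.mk' h.uK h.uK_mul) fun k => ⟨h.uK k, h.uK_uK k⟩⟩

theorem fix_iff (θ : Cfsg.IrrCharacter h.K) : h.Fix θ ↔ h.conjU θ = θ :=
  ⟨fun e => Subtype.ext (funext e), fun e k => congrFun (congrArg Subtype.val e) k⟩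

theorem f_conjU (θ : Cfsg.IrrCharacter h.K) (χ : Cfsg.IrrCharacter X) (i : Z) :
    h.f (h.conjU θ) χ i = h.f θ χ (-i) := by
  rw [f, f, classInner_def, classInner_def]
  congr 1
  refine Fintype.sum_equiv h.uEquiv _ _ fun k => ?_
  show _ * conj ((θ : h.K → ℂ) (h.uK k)) = (χ : X → ℂ) (h.rp (-i) * h.uK k) * _
  rw [h.chi_uK, neg_neg]
  rfl

theorem mult_conjU (θ : Cfsg.IrrCharacter h.K) (χ : Cfsg.IrrCharacter X) (ν : Z) :
    h.mult (h.conjU θ) χ ν = h.mult θ χ (-ν) := by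
  apply Int.cast_injective (α := ℂ)
  rw [h.mult_cast, h.mult_cast]
  congr 1
  refine Fintype.sum_equiv (Equiv.neg Z) _ _ fun x => ?_
  rw [h.f_conjU, Equiv.neg_apply, neg_mul_neg]

theorem D2_conjU (θ : Cfsg.IrrCharacter h.K) (χ : Cfsg.IrrCharacter X) :
    D2 (h.mult (h.conjU θ) χ) = D2 (h.mult θ χ) := by
  simp only [D2, h.mult_conjU]
  exact Fintype.sum_equiv (Equiv.neg Z) _ _ fun ν =>
    Fintype.sum_equiv (Equiv.neg Z) _ _ fun μ => rfl

theorem mult_neg {θ : Cfsg.IrrCharacter h.K} (hθ : h.Fix θ) (χ : Cfsg.IrrCharacter X) (ν : Z) :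
    h.mult θ χ (-ν) = h.mult θ χ ν := by
  rw [← h.mult_conjU, (h.fix_iff θ).1 hθ]

theorem M_sum (G : X → ℂ) (hG : ∀ g, g ∉ h.M → G g = 0) :
    ∑ g : X, G g = ∑ l : Z, ∑ k : h.K, (G (h.rp l * k) + G (h.rp l * u * k)) := by
  set M1 := (Finset.univ : Finset (Z × h.K)).image fun p => h.rp p.1 * (p.2 : X) with hM1
  set M2 := (Finset.univ : Finset (Z × h.K)).image fun p => h.rp p.1 * u * (p.2 : X) with hM2
  have hu2 : ∀ l : Z, h.rp l * u ∈ (T : Subgroup X) := fun l => mul_mem (h.rp_mem l) h.huT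
  have hdisj : Disjoint M1 M2 := by
    rw [Finset.disjoint_left]
    intro g hg hg'
    obtain ⟨p, -, rfl⟩ := Finset.mem_image.1 hg
    obtain ⟨p', -, e⟩ := Finset.mem_image.1 hg'
    have e1 := (h.decomp (hu2 p'.1) (h.rp_mem p.1) p'.2.2 p.2.2 e).1
    exact h.u_ne_rp (-p'.1 + p.1) (by rw [h.rp_add, h.rp_neg, ← e1, inv_mul_cancel_left])
  rw [← Finset.sum_subset (Finset.subset_univ (M1 ∪ M2)) fun g _ hg => hG g fun hgM => hg (by
      obtain ⟨w, hw, k, hk, rfl⟩ := h.mem_M.1 hgM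
      obtain ⟨l, rfl | rfl⟩ := h.mem_T hw
      · exact Finset.mem_union_left _ (Finset.mem_image.2 ⟨(l, ⟨k, hk⟩), Finset.mem_univ _, rfl⟩)
      · exact Finset.mem_union_right _ (Finset.mem_image.2 ⟨(l, ⟨k, hk⟩), Finset.mem_univ _, rfl⟩)),
    Finset.sum_union hdisj, hM1, hM2, Finset.sum_image, Finset.sum_image, ← Finset.sum_add_distrib,
    Fintype.sum_prod_type]
  · intro p _ p' _ e
    obtain ⟨e1, e2⟩ := h.decomp (hu2 p.1) (hu2 p'.1) p.2.2 p'.2.2 e
    exact Prod.ext (h.rp_inj (mul_right_cancel e1)) (Subtype.ext e2)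
  · intro p _ p' _ e
    obtain ⟨e1, e2⟩ := h.decomp_rp p.2.2 p'.2.2 e
    exact Prod.ext e1 (Subtype.ext e2)

variable [Fintype (Cfsg.IrrCharacter X)]

/-- Orthogonality of the coefficients. -/
theorem f_orth (θ θ' : Cfsg.IrrCharacter h.K) (hθ' : h.Fix θ') {i j : Z} (hi : i ≠ 0) :
    ∑ χ : Cfsg.IrrCharacter X, h.f θ χ i * conj (h.f θ' χ j) =
      if θ = θ' then ((q : ℕ) : ℂ) * ((if i = j then 1 else 0) + if i = -j then 1 else 0) else 0 := by
  set Φ : h.K → X → ℂ := fun k g => conj ((θ : h.K → ℂ) k) *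
    ∑ k' : h.K, (θ' : h.K → ℂ) k' *
      (if g * (h.rp i * k) * g⁻¹ = h.rp j * k' then 1 else 0) with hΦ
  set c : ℂ := (Nat.card h.K : ℂ)⁻¹ with hc
  have hL : ∑ χ : Cfsg.IrrCharacter X, h.f θ χ i * conj (h.f θ' χ j) =
      c * c * ∑ k : h.K, ∑ g : X, Φ k g := by
    have hcc : conj c = c := by rw [hc, map_inv₀, map_natCast]
    have h1 : ∀ χ : Cfsg.IrrCharacter X, h.f θ χ i * conj (h.f θ' χ j) =
        c * c * ∑ k : h.K, ∑ k' : h.K, conj ((θ : h.K → ℂ) k) * ((θ' : h.K → ℂ) k' *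
          ((χ : X → ℂ) (h.rp i * k) * conj ((χ : X → ℂ) (h.rp j * k')))) := by
      intro χ
      simp only [f, classInner_def, map_mul, map_sum, Complex.conj_conj, ← hc, hcc]
      rw [show ∀ a b : ℂ, c * a * (c * b) = c * c * (a * b) from fun a b => by ring,
        Finset.sum_mul_sum]
      congr 1
      exact Finset.sum_congr rfl fun k _ => Finset.sum_congr rfl fun k' _ => by ring
    simp only [h1, ← Finset.mul_sum]
    congr 1
    rw [Finset.sum_comm]
    refine Finset.sum_congr rfl fun k _ => ?_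
    simp only [hΦ, ← Finset.mul_sum]
    congr 1
    rw [Finset.sum_comm]
    conv_rhs => rw [Finset.sum_comm]
    refine Finset.sum_congr rfl fun k' _ => ?_
    rw [← Finset.mul_sum, ← Finset.mul_sum, column_count]
  have hrow : ∀ k : h.K, ∑ g : X, Φ k g = (q : ℕ) * (Nat.card h.K : ℂ) *
      (((if i = j then 1 else 0) + if i = -j then 1 else 0) *
        (conj ((θ : h.K → ℂ) k) * (θ' : h.K → ℂ) k)) := by
    intro k
    rw [h.M_sum (Φ k) fun g hg => ?_]
    · have hterm : ∀ l : Z, ∀ k0 : h.K, Φ k (h.rp l * k0) + Φ k (h.rp l * u * k0) =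
          ((if i = j then 1 else 0) + if i = -j then 1 else 0) *
            (conj ((θ : h.K → ℂ) k) * (θ' : h.K → ℂ) k) := by
        intro l k0
        set k1 : h.K := k0 * k * k0⁻¹ with hk1
        have e0 : (k0 : X) * (h.rp i * k) * (k0 : X)⁻¹ = h.rp i * (k1 : X) := by
          rw [hk1, Subgroup.coe_mul, Subgroup.coe_mul, Subgroup.coe_inv]
          calc (k0 : X) * (h.rp i * k) * (k0 : X)⁻¹
              = ((k0 : X) * h.rp i) * k * (k0 : X)⁻¹ := by group
            _ = h.rp i * ((k0 : X) * k * (k0 : X)⁻¹) := by rw [← h.rp_comm_K i k0.2]; group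
        have erot : ∀ (i : Z) (k : h.K), h.rp l * (h.rp i * k) * (h.rp l)⁻¹ = h.rp i * k := by
          intro i k
          have e : Commute (h.rp l) (h.rp i * k) :=
            ((Commute.refl (rot T D)).pow_pow _ _).mul_right (h.rp_comm_K l k.2)
          rw [e.eq, mul_inv_cancel_right]
        have e1 : h.rp l * k0 * (h.rp i * k) * (h.rp l * k0)⁻¹ = h.rp i * (k1 : X) := by
          rw [← erot i k1, ← e0]; group
        have e2 : h.rp l * u * k0 * (h.rp i * k) * (h.rp l * u * k0)⁻¹ =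
            h.rp (-i) * (h.uK k1 : X) := by
          rw [← erot (-i) (h.uK k1), uK_coe, ← h.u_rp i]
          calc h.rp l * u * k0 * (h.rp i * k) * (h.rp l * u * k0)⁻¹
              = h.rp l * (u * ((k0 : X) * (h.rp i * k) * (k0 : X)⁻¹) * u⁻¹) * (h.rp l)⁻¹ := by group
            _ = h.rp l * (u * (h.rp i * (k1 : X)) * u⁻¹) * (h.rp l)⁻¹ := by rw [e0]
            _ = _ := by group
        have hcl : (θ' : h.K → ℂ) k1 = (θ' : h.K → ℂ) k := irr_isClassFunction θ'.2 k k0
        have hval : ∀ (i' : Z) (k2 : h.K), (θ' : h.K → ℂ) k2 = (θ' : h.K → ℂ) k →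
            ∑ k' : h.K, (θ' : h.K → ℂ) k' *
              (if h.rp i' * (k2 : X) = h.rp j * k' then (1 : ℂ) else 0) =
            (if i' = j then 1 else 0) * (θ' : h.K → ℂ) k := by
          intro i' k2 hk2
          by_cases e : i' = j
          · subst e
            rw [Finset.sum_eq_single k2, if_pos rfl, if_pos rfl, one_mul, mul_one, hk2]
            · intro k' _ hk'
              rw [if_neg fun e' => hk' (Subtype.ext (mul_left_cancel e').symm), mul_zero]
            · simp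
          · rw [if_neg e, zero_mul]
            exact Finset.sum_eq_zero fun k' _ => by
              rw [if_neg fun e' => e (h.decomp_rp k2.2 k'.2 e').1, mul_zero]
        simp only [hΦ, e1, e2, hval i k1 hcl, hval (-i) (h.uK k1) ((hθ' k1).trans hcl)]
        rw [show (if -i = j then (1 : ℂ) else 0) = if i = -j then 1 else 0 by
          simp only [neg_eq_iff_eq_neg]]
        ring
      simp only [hterm, Finset.sum_const, Finset.card_univ, nsmul_eq_mul, 
        ← Nat.card_eq_fintype_card, Nat.card_zmod]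
      ring
    · simp only [hΦ]
      rw [Finset.sum_eq_zero fun k' _ => ?_, mul_zero]
      rw [if_neg fun e => hg (h.sect hi k.2 k'.2 e), mul_zero]
  have hθθ : ∑ k : h.K, conj ((θ : h.K → ℂ) k) * (θ' : h.K → ℂ) k =
      (Nat.card h.K : ℂ) * if θ = θ' then 1 else 0 := by
    have h2 := irr_classInner θ'.2 θ.2
    rw [classInner_def, inv_mul_eq_iff_eq_mul₀ natCard_ne_zero] at h2
    refine Eq.trans (Finset.sum_congr rfl fun k _ => mul_comm _ _) (h2.trans ?_)
    by_cases e : θ = θ'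
    · rw [if_pos e, if_pos (by rw [e])]
    · rw [if_neg e, if_neg fun e' => e (Subtype.ext e'.symm)]
  rw [hL, Finset.sum_congr rfl fun k _ => hrow k, ← Finset.mul_sum, ← Finset.mul_sum, hθθ, hc]
  have : (Nat.card h.K : ℂ) ≠ 0 := natCard_ne_zero
  by_cases e : θ = θ'
  · rw [if_pos e, if_pos e]; field_simp
  · rw [if_neg e, if_neg e]; simp

/-- The coefficients are orthogonal to the degrees. -/
theorem f_degree (θ : Cfsg.IrrCharacter h.K) {i : Z} (hi : i ≠ 0) :
    ∑ χ : Cfsg.IrrCharacter X, (χ : X → ℂ) 1 * h.f θ χ i = 0 := by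
  have hreal : ∀ χ : Cfsg.IrrCharacter X, conj ((χ : X → ℂ) 1) = (χ : X → ℂ) 1 := fun χ => by
    obtain ⟨d, -, hd⟩ := CfsgLib.Recog.NonCA.irr_degree_nat χ
    rw [hd, map_natCast]
  simp only [f, classInner_def, Finset.mul_sum]
  rw [Finset.sum_comm]
  refine Finset.sum_eq_zero fun k _ => ?_
  calc ∑ χ : Cfsg.IrrCharacter X, (χ : X → ℂ) 1 *
        ((Nat.card h.K : ℂ)⁻¹ * ((χ : X → ℂ) (h.rp i * k) * conj ((θ : h.K → ℂ) k)))
      = (Nat.card h.K : ℂ)⁻¹ * conj ((θ : h.K → ℂ) k) *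
          ∑ χ : Cfsg.IrrCharacter X, (χ : X → ℂ) (h.rp i * k) * conj ((χ : X → ℂ) 1) := by
        rw [Finset.mul_sum]
        exact Finset.sum_congr rfl fun χ _ => by rw [hreal]; ring
    _ = 0 := by
      rw [column_count, Finset.sum_eq_zero fun g _ => if_neg fun e =>
        h.rp_mul_ne_one hi k (conj_eq_one_iff.1 e), mul_zero]

/-- The difference of multiplicities at `0` and at `ν`. -/
noncomputable def dif (θ : Cfsg.IrrCharacter h.K) (χ : Cfsg.IrrCharacter X) (ν : Z) : ℤ :=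
  h.mult θ χ 0 - h.mult θ χ ν

omit [Fintype (Cfsg.IrrCharacter X)] in
theorem dif_cast (θ : Cfsg.IrrCharacter h.K) (χ : Cfsg.IrrCharacter X) (ν : Z) :
    (h.dif θ χ ν : ℂ) = ((q : ℕ) : ℂ)⁻¹ * ∑ x : Z, (1 - psi D (-(ν * x))) * h.f θ χ x := by
  rw [dif, Int.cast_sub, h.mult_cast, h.mult_cast, ← mul_sub, ← Finset.sum_sub_distrib]
  congr 1
  refine Finset.sum_congr rfl fun x _ => ?_
  rw [zero_mul, neg_zero, AddChar.map_zero_eq_one]
  ring

theorem dif_norm (θ θ' : Cfsg.IrrCharacter h.K) (hθ' : h.Fix θ') {ν μ : Z} (hν : ν ≠ 0)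
    (hμ : μ ≠ 0) : ∑ χ : Cfsg.IrrCharacter X, h.dif θ χ ν * h.dif θ' χ μ =
      if θ = θ' then 2 + (if ν = μ then 1 else 0) + (if ν = -μ then 1 else 0) else 0 := by
  apply Int.cast_injective (α := ℂ)
  rw [Int.cast_sum]
  set a : Z → Z → ℂ := fun ν x => 1 - psi D (-(ν * x)) with ha
  set c : ℂ := ((q : ℕ) : ℂ)⁻¹ with hc
  have h1 : ∀ χ : Cfsg.IrrCharacter X, ((h.dif θ χ ν * h.dif θ' χ μ : ℤ) : ℂ) =
      c * c * ∑ x : Z, ∑ y : Z, a ν x * conj (a μ y) * (h.f θ χ x * conj (h.f θ' χ y)) := by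
    intro χ
    rw [Int.cast_mul, ← map_intCast (starRingEnd ℂ) (h.dif θ' χ μ), h.dif_cast, h.dif_cast, ← hc,
      map_mul, hc, map_inv₀, map_natCast, ← hc, map_sum,
      show ∀ a b : ℂ, c * a * (c * b) = c * c * (a * b) from fun a b => by ring,
      Finset.sum_mul_sum]
    congr 1
    exact Finset.sum_congr rfl fun x _ => Finset.sum_congr rfl fun y _ => by
      simp only [ha, map_mul]; ring
  simp only [h1, ← Finset.mul_sum]
  rw [Finset.sum_comm, Finset.sum_congr rfl fun x _ => Finset.sum_comm]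
  simp only [← Finset.mul_sum]
  have h2 : ∀ x y : Z, a ν x * conj (a μ y) *
      ∑ χ : Cfsg.IrrCharacter X, h.f θ χ x * conj (h.f θ' χ y) =
      a ν x * conj (a μ y) * (if θ = θ' then
        ((q : ℕ) : ℂ) * ((if x = y then 1 else 0) + if x = -y then 1 else 0) else 0) := by
    intro x y
    by_cases hx : x = 0
    · rw [show a ν x = 0 by simp [ha, hx, AddChar.map_zero_eq_one]]; ring
    · rw [h.f_orth θ θ' hθ' hx]
  simp only [h2]
  by_cases e : θ = θ'
  · simp only [if_pos e]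
    have hy : ∀ x : Z, ∑ y : Z, a ν x * conj (a μ y) *
        (((q : ℕ) : ℂ) * ((if x = y then 1 else 0) + if x = -y then 1 else 0)) =
        ((q : ℕ) : ℂ) * (a ν x * (conj (a μ x) + conj (a μ (-x)))) := by
      intro x
      have e1 : ∀ y : Z, a ν x * conj (a μ y) *
          (((q : ℕ) : ℂ) * ((if x = y then 1 else 0) + if x = -y then 1 else 0)) =
          ((q : ℕ) : ℂ) * a ν x * ((if y = x then conj (a μ y) else 0) +
            if y = -x then conj (a μ y) else 0) := by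
        intro y
        simp only [eq_comm (a := y) (b := x), show (y = -x) = (x = -y) from
          propext ⟨fun e => by rw [e, neg_neg], fun e => by rw [e, neg_neg]⟩]
        split_ifs <;> ring
      simp only [e1, ← Finset.mul_sum, Finset.sum_add_distrib, Finset.sum_ite_eq',
        Finset.mem_univ, if_true]
      ring
    simp only [hy, ← Finset.mul_sum]
    have h3 : ∀ x : Z, a ν x * (conj (a μ x) + conj (a μ (-x))) =
        2 - psi D (x * μ) - psi D (x * -μ) - 2 * psi D (x * -ν) +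
          psi D (x * (μ - ν)) + psi D (x * (-μ - ν)) := by
      intro x
      simp only [ha, map_sub, map_one, conj_psi, neg_neg]
      rw [show μ * -x = x * -μ by ring, show μ * x = x * μ by ring, show -(ν * x) = x * -ν by ring,
        mul_sub, mul_sub, sub_eq_add_neg (x * μ), sub_eq_add_neg (x * -μ),
        AddChar.map_add_eq_mul, AddChar.map_add_eq_mul, ← mul_neg]
      ring
    simp only [h3, Finset.sum_add_distrib, Finset.sum_sub_distrib, ← Finset.mul_sum, psi_sum,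
      Finset.sum_const, Finset.card_univ, ZMod.card, neg_eq_zero, if_neg hν, if_neg hμ, nsmul_eq_mul]
    rw [if_congr (show μ - ν = 0 ↔ ν = μ from sub_eq_zero.trans eq_comm) rfl rfl,
      if_congr (show -μ - ν = 0 ↔ ν = -μ from sub_eq_zero.trans eq_comm) rfl rfl, hc]
    have hD : (D.h : ℂ) ≠ 0 := Nat.cast_ne_zero.2 D.h_pos.ne'
    push_cast
    split_ifs <;> field_simp <;> ring
  · simp [if_neg e]

theorem dif_degree (θ : Cfsg.IrrCharacter h.K) (ν : Z) :
    ∑ χ : Cfsg.IrrCharacter X, (χ : X → ℂ) 1 * (h.dif θ χ ν : ℂ) = 0 := by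
  simp only [h.dif_cast, Finset.mul_sum]
  rw [Finset.sum_comm]
  refine Finset.sum_eq_zero fun x _ => ?_
  by_cases hx : x = 0
  · simp [hx, AddChar.map_zero_eq_one]
  · simp only [show ∀ a b c d : ℂ, a * (b * (c * d)) = b * c * (a * d) from fun a b c d => by ring,
      ← Finset.mul_sum, h.f_degree θ hx, mul_zero]

end RotCent

end CfsgLib.GW.Twist
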