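import Cfsg.Agent.Lib.GW.Twist.KleinPurity

/-!
# The twist lemma for a four-group Sylow 2-subgroup: degrees

A nonprincipal constituent is faithful, its multiplicities on the nonprincipal characters of `F`
are even, and some such character has at least six images under `⟨u⟩ A`: its degree is at least 12.
-/

set_option autoImplicit false
set_option linter.unusedSectionVars false
set_option linter.unusedDecidableInType false

namespace CfsgLib.GW.Twist

open CfsgLib.Char
open CfsgLib.Recog.NonCA (irr_degree_nat mem_of_sq_mem cf cf_add_inner conj_hom_apply sum_all_hom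
  hom_eq_one_of_sq sum_conj_mul_hom)
open scoped ComplexConjugate

universe v w

/-- Fourier inversion on a finite abelian group. -/
theorem linear_expand {H : Type w} [Group H] [Fintype H] [Fintype (H →* ℂˣ)]
    (hc : ∀ a b : H, a * b = b * a) (g : H → ℂ) (b : H) :
    ∑ p : H →* ℂˣ, Cfsg.classInner g (fun a => (p a : ℂ)) * (p b : ℂ) = g b := by
  classical
  have hterm : ∀ a : H, ∑ p : H →* ℂˣ, g a * conj (p a : ℂ) * (p b : ℂ) =
      g a * if a * b⁻¹ = 1 then (Nat.card H : ℂ) else 0 := by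
    intro a
    rw [← sum_all_hom hc, Finset.mul_sum]
    refine Finset.sum_congr rfl fun p _ => ?_
    rw [map_mul, Units.val_mul, map_mul, mul_assoc, conj_hom_apply p b⁻¹, map_inv, inv_inv]
  simp only [classInner_def, mul_assoc, Finset.sum_mul, ← Finset.mul_sum]
  rw [Finset.sum_comm]
  simp only [← mul_assoc, hterm]
  rw [Finset.sum_eq_single b]
  · rw [mul_inv_cancel, if_pos rfl]
    have : (Nat.card H : ℂ) ≠ 0 := natCard_ne_zero
    field_simp
  · intro a _ ha
    rw [if_neg fun e => ha (mul_inv_eq_one.1 e), mul_zero]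
  · simp

/-- A nonprincipal irreducible character of a simple group is faithful. -/
theorem faithful {X : Type v} [Group X] [Fintype X] [IsSimpleGroup X] (χ : Cfsg.IrrCharacter X)
    (hχ : (χ : X → ℂ) ≠ fun _ => 1) {x : X} (hx : (χ : X → ℂ) x = (χ : X → ℂ) 1) : x = 1 := by
  obtain ⟨χf, k, ρ, hρ, hχf⟩ := χ
  subst hχf
  rcases IsSimpleGroup.eq_bot_or_eq_top_of_normal (MonoidHom.ker ρ : Subgroup X) inferInstance with
    e | e
  · exact Subgroup.mem_bot.1 (e ▸ (mem_ker_iff_char ρ x).2 hx)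
  refine absurd (funext fun g => ?_) hχ
  have hconst : ∀ g, ρ.character g = ρ.character 1 := fun g =>
    (mem_ker_iff_char ρ g).1 (e ▸ Subgroup.mem_top g)
  obtain ⟨d, -, hd⟩ := irr_degree_nat ⟨ρ.character, k, ρ, hρ, rfl⟩
  have hd' : ρ.character 1 = d := hd
  have h1 : Cfsg.classInner ρ.character ρ.character = 1 := irr_classInner_self ⟨k, ρ, hρ, rfl⟩
  rw [classInner_def, Finset.sum_congr rfl fun g _ => by rw [hconst g]] at h1
  rw [hd', map_natCast, Finset.sum_const, Finset.card_univ, nsmul_eq_mul,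
    ← Nat.card_eq_fintype_card, ← mul_assoc, inv_mul_cancel₀ natCard_ne_zero, one_mul] at h1
  have h2 : d = 1 := Nat.eq_one_of_mul_eq_one_left (show d * d = 1 by exact_mod_cast h1)
  show ρ.character g = 1
  rw [hconst, hd', h2, Nat.cast_one]

namespace TwistCent

open scoped _root_.Classical

variable {X : Type v} [Group X] [Fintype X] [Fintype (Cfsg.IrrCharacter X)] {t u n : X}
  {F A : Subgroup X} (h : TwistCent t u n F A)
include h

/-- A constituent is constant on `tF`. -/
theorem chi_tF {l : A →* ℂˣ} {χ : Cfsg.IrrCharacter X} (hl : h.cl l χ ≠ 0) {f : X} (hf : f ∈ F) :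
    (χ : X → ℂ) (t * f) = (χ : X → ℂ) t := by
  have e : ∀ f : X, ∀ hf : f ∈ F, (χ : X → ℂ) (t * f) = ∑ μ ∈ h.orbit l, (h.cl μ χ : ℂ) := by
    intro f hf
    rw [show t * f = t * ((⟨f, h.F_le_K hf⟩ : h.K) : X) from rfl, h.chi_tK hl]
    refine Finset.sum_congr rfl fun μ _ => ?_
    rw [h.lamK_apply hf (d := 1) (mul_one f).symm, map_one, Units.val_one, mul_one]
  rw [e f hf, ← e 1 (one_mem F), mul_one]

/-- The multiplicity of a nonprincipal character of `F` is even. -/
theorem mult_even {l : A →* ℂˣ} {χ : Cfsg.IrrCharacter X} (hl : h.cl l χ ≠ 0) {p : F →* ℂˣ}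
    (hp : p ≠ 1) : ∃ k : ℤ,
      Cfsg.classInner (fun f : F => (χ : X → ℂ) f) (fun f => (p f : ℂ)) = ((2 * k : ℤ) : ℂ) := by
  obtain ⟨k, m, hk, hm⟩ := cf_add_inner h.ht (ι := F.subtype) (fun f => h.hFt f f.2) p χ
  have h0 : cf t F.subtype p (χ : X → ℂ) = 0 := by
    rw [cf]
    simp only [Subgroup.coe_subtype, h.chi_tF hl (SetLike.coe_mem _), ← Finset.mul_sum]
    have e := sum_conj_mul_hom p 1
    simp only [MonoidHom.one_apply, Units.val_one, mul_one, if_neg (Ne.symm hp)] at e
    rw [e, mul_zero, mul_zero]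
  rw [h0] at hk
  refine ⟨k, hm.trans ?_⟩
  push_cast
  linear_combination hk

/-- Multiplicities are invariant under elements normalising `F`. -/
theorem mult_conj (χ : Cfsg.IrrCharacter X) {g : X} (hg : ∀ f ∈ F, g * f * g⁻¹ ∈ F)
    {p q : F →* ℂˣ} (hq : ∀ f : F, q f = p ⟨g * f * g⁻¹, hg f f.2⟩) :
    Cfsg.classInner (fun f : F => (χ : X → ℂ) f) (fun f => (q f : ℂ)) =
      Cfsg.classInner (fun f : F => (χ : X → ℂ) f) (fun f => (p f : ℂ)) := by
  have hinj : Function.Injective fun f : F => (⟨g * f * g⁻¹, hg f f.2⟩ : F) := fun a b e =>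
    Subtype.ext (by simpa using congrArg Subtype.val e)
  rw [classInner_def, classInner_def]
  congr 1
  refine Fintype.sum_bijective _ ⟨hinj, Finite.surjective_of_injective hinj⟩ _ _ fun f => ?_
  rw [hq f, irr_isClassFunction χ.2 (f : X) g]

/-- Conjugation by an element of `A` on `F`. -/
def cA (a : A) : F →* F := MonoidHom.mk' (fun f => ⟨a * f * (a : X)⁻¹, h.hAF a a.2 f f.2⟩)
  fun a b => Subtype.ext (by simp [mul_assoc])

theorem cA_comp (a b : A) (p : F →* ℂˣ) : (p.comp (h.cA a)).comp (h.cA b) = p.comp (h.cA (a * b)) :=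
  MonoidHom.ext fun f => congrArg p (Subtype.ext (by simp [cA, mul_assoc]))

theorem cA_one (p : F →* ℂˣ) : p.comp (h.cA 1) = p :=
  MonoidHom.ext fun f => congrArg p (Subtype.ext (by simp [cA]))

/-- The degree of a nonprincipal constituent is at least 12. -/
theorem deg_ge [IsSimpleGroup X] {l : A →* ℂˣ} {χ : Cfsg.IrrCharacter X} (hl : h.cl l χ ≠ 0)
    (hne : (χ : X → ℂ) ≠ fun _ => 1) {d : ℕ} (hd : (χ : X → ℂ) 1 = d) : 12 ≤ d := by
  have hFc := h.F_hom_comm
  have : Finite (F →* ℂˣ) := Nat.finite_of_card_ne_zero (by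
    rw [natCard_linear]; exact Subgroup.index_ne_zero_of_finite)
  have := Fintype.ofFinite (F →* ℂˣ)
  have hnat : ∀ p : F →* ℂˣ, ∃ m : ℕ,
      Cfsg.classInner (fun f : F => (χ : X → ℂ) f) (fun f => (p f : ℂ)) = m := fun p =>
    classInner_isCharacter_nat (isCharacter_restrict (irr_isCharacter χ.2) F)
      (irr_isCharacter (isIrrCharacter_linear p))
  choose m hm using hnat
  have hinv : ∀ b : F, ∑ p : F →* ℂˣ, (m p : ℂ) * (p b : ℂ) = (χ : X → ℂ) b := fun b => by
    simp only [← hm]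
    exact linear_expand hFc _ b
  have hsum : ∑ p : F →* ℂˣ, m p = d := by
    have h1 := hinv 1
    simp only [map_one, Units.val_one, mul_one, OneMemClass.coe_one] at h1
    rw [hd] at h1
    exact_mod_cast h1
  have hconj : ∀ (a : A) (p : F →* ℂˣ), m (p.comp (h.cA a)) = m p := fun a p => by
    apply Nat.cast_injective (R := ℂ)
    rw [← hm, ← hm]
    exact h.mult_conj χ (g := a) (h.hAF a a.2) fun f => rfl
  have hinvm : ∀ p : F →* ℂˣ, m p⁻¹ = m p := fun p => by
    apply Nat.cast_injective (R := ℂ)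
    rw [← hm, ← hm]
    refine h.mult_conj χ (g := u) (fun f hf => h.W_F_mem h.u_mem_W hf) fun f => ?_
    rw [MonoidHom.inv_apply, ← map_inv]
    exact congrArg p (Subtype.ext (h.hFu f f.2).symm)
  have heven : ∀ p : F →* ℂˣ, p ≠ 1 → 0 < m p → 2 ≤ m p := fun p hp hpos => by
    obtain ⟨k, hk⟩ := h.mult_even hl hp
    rw [hm] at hk
    have : (m p : ℤ) = 2 * k := by exact_mod_cast hk
    omega
  obtain ⟨a0, ha0, f0, hf0, hne0⟩ := h.hmove
  set a : A := ⟨a0, ha0⟩
  obtain ⟨p, hpm, hpa⟩ : ∃ p : F →* ℂˣ, 0 < m p ∧ p.comp (h.cA a) ≠ p := by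
    by_contra hc
    push Not at hc
    set x : F := h.cA a ⟨f0, hf0⟩ * (⟨f0, hf0⟩ : F)⁻¹
    have hx : (χ : X → ℂ) x = (χ : X → ℂ) 1 := by
      rw [← hinv x, hd, ← hsum, Nat.cast_sum]
      refine Finset.sum_congr rfl fun p _ => ?_
      rcases Nat.eq_zero_or_pos (m p) with e | e
      · simp [e]
      · have e2 := DFunLike.congr_fun (hc p e) ⟨f0, hf0⟩
        rw [MonoidHom.comp_apply] at e2
        rw [map_mul, map_inv, e2, mul_inv_cancel, Units.val_one, mul_one]
    have hx1 : a0 * f0 * a0⁻¹ * f0⁻¹ = 1 := faithful χ hne hx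
    exact hne0 (by rwa [mul_inv_eq_one, mul_inv_eq_iff_eq_mul] at hx1)
  have hp1 : p ≠ 1 := fun e => hpa (by rw [e, MonoidHom.one_comp])
  let S : Subgroup A :=
    { carrier := {b | p.comp (h.cA b) = p}
      one_mem' := h.cA_one p
      mul_mem' := fun {b c} hb hc => by
        show p.comp (h.cA (b * c)) = p
        rw [← h.cA_comp, show p.comp (h.cA b) = p from hb, hc]
      inv_mem' := fun {b} hb => by
        show p.comp (h.cA b⁻¹) = p
        conv_lhs => rw [← show p.comp (h.cA b) = p from hb]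
        rw [h.cA_comp, mul_inv_cancel, h.cA_one] }
  have hsqS : ∀ b : A, b * b ∈ S → b ∈ S := fun b hb =>
    mem_of_sq_mem (H := (⊤ : Subgroup A)) (by rw [Subgroup.card_top]; exact h.hAodd)
      (Subgroup.mem_top b) hb
  have hneg : ∀ b : A, p.comp (h.cA b) ≠ p⁻¹ := fun b e => by
    have hb : b ∈ S := hsqS b (by
      show p.comp (h.cA (b * b)) = p
      rw [← h.cA_comp, e, MonoidHom.inv_comp, e, inv_inv])
    rw [show p.comp (h.cA b) = p from hb] at e
    refine hp1 (hom_eq_one_of_sq h.hFodd fun f => ?_)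
    nth_rewrite 1 [e]
    rw [MonoidHom.inv_apply, inv_mul_cancel]
  have hsame : ∀ b c : A, p.comp (h.cA b) = p.comp (h.cA c) → b * c⁻¹ ∈ S := fun b c e => by
    show p.comp (h.cA (b * c⁻¹)) = p
    rw [← h.cA_comp, e, h.cA_comp, mul_inv_cancel, h.cA_one]
  set q : A → (F →* ℂˣ) := fun b => p.comp (h.cA b) with hq
  have hqneg : ∀ b c : A, q b ≠ (q c)⁻¹ := fun b c e => hneg (b * c⁻¹) (by
    rw [← h.cA_comp, show p.comp (h.cA b) = (p.comp (h.cA c))⁻¹ from e, MonoidHom.inv_comp,
      h.cA_comp, mul_inv_cancel, h.cA_one])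
  set T : Finset (F →* ℂˣ) := {q 1, q a, q (a * a)} with hT
  have haS : a ∉ S := hpa
  have h01 : q 1 ≠ q a := fun e => haS (by simpa using inv_mem (hsame _ _ e))
  have h02 : q 1 ≠ q (a * a) := fun e => haS (hsqS a (by simpa using inv_mem (hsame _ _ e)))
  have h12 : q a ≠ q (a * a) := fun e => haS (by simpa using inv_mem (hsame _ _ e))
  have hTcard : T.card = 3 := by simp [hT, h01, h02, h12]
  have hTq : ∀ r ∈ T, ∃ b, r = q b := fun r hr => by
    simp only [hT, Finset.mem_insert, Finset.mem_singleton] at hr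
    rcases hr with e | e | e <;> exact ⟨_, e⟩
  have hdisj : Disjoint T (T.image fun r => r⁻¹) := by
    rw [Finset.disjoint_left]
    intro r hr hr'
    obtain ⟨r', hr'', e⟩ := Finset.mem_image.1 hr'
    obtain ⟨b, rfl⟩ := hTq r hr
    obtain ⟨c, rfl⟩ := hTq r' hr''
    exact hqneg b c e.symm
  have hmem : ∀ r ∈ T ∪ T.image fun r => r⁻¹, 2 ≤ m r := by
    intro r hr
    have key : ∀ b, 2 ≤ m (q b) := fun b => by
      rw [hq, hconj]
      exact heven p hp1 hpm
    rcases Finset.mem_union.1 hr with hr | hr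
    · obtain ⟨b, rfl⟩ := hTq r hr; exact key b
    · obtain ⟨r', hr', rfl⟩ := Finset.mem_image.1 hr
      obtain ⟨b, rfl⟩ := hTq r' hr'
      rw [hinvm]; exact key b
  rw [← hsum]
  refine le_trans ?_ (Finset.sum_le_sum_of_subset (Finset.subset_univ (T ∪ T.image fun r => r⁻¹)))
  refine le_trans ?_ (Finset.card_nsmul_le_sum _ _ _ hmem)
  rw [Finset.card_union_of_disjoint hdisj,
    Finset.card_image_of_injective (f := fun r : F →* ℂˣ => r⁻¹) T (fun a b e => inv_injective e), hTcard]
  norm_num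

end TwistCent

end CfsgLib.GW.Twist
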