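import Cfsg.Agent.Lib.GW.Twist.DihedralUnique
import Cfsg.Agent.Lib.GW.Twist.KleinDegree

/-!
# The twist lemma for a dihedral Sylow 2-subgroup: degrees
-/

set_option autoImplicit false
set_option linter.unusedSectionVars false
set_option linter.unusedDecidableInType false

namespace CfsgLib.GW.Twist

open CfsgLib.Char CfsgLib.Invol
open CfsgLib.Recog.NonCA (mem_of_sq_mem conj_hom_apply hom_eq_one_of_sq sum_conj_mul_hom)
open scoped ComplexConjugate

universe v

namespace RotCent

open scoped _root_.Classical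

variable {X : Type v} [Group X] [Fintype X] {T : Sylow 2 X} {D : DihData (T : Subgroup X)} {u : X}
  {F A : Subgroup X} (h : RotCent T D u F A)
include h

/-- The multiplicity of a nonprincipal character of `F` is a multiple of `q`. -/
theorem mult_dvd {χ : Cfsg.IrrCharacter X}
    (hc : ∀ i : ZMod (2 * D.h), i ≠ 0 → ∀ f ∈ F, (χ : X → ℂ) (h.rp i * f) = (χ : X → ℂ) (h.rp i))
    {p : F →* ℂˣ} (hp : p ≠ 1) : ∃ k : ℕ,
      Cfsg.classInner (fun f : F => (χ : X → ℂ) f) (fun f => (p f : ℂ)) =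
        ((2 * D.h * k : ℕ) : ℂ) := by
  let j : Multiplicative (ZMod (2 * D.h)) × F →* X :=
    h.rpHom.noncommCoprod F.subtype fun x k => h.rp_comm_F x.toAdd k.2
  obtain ⟨k, hk⟩ := classInner_isCharacter_nat (isCharacter_comp (irr_isCharacter χ.2) j)
    (irr_isCharacter (isIrrCharacter_linear
      (p.comp (MonoidHom.snd (Multiplicative (ZMod (2 * D.h))) F))))
  refine ⟨k, ?_⟩
  rw [classInner_def, Nat.card_prod, Fintype.sum_prod_type,
    Nat.card_congr Multiplicative.toAdd, Nat.card_zmod,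
    Finset.sum_eq_single (1 : Multiplicative (ZMod (2 * D.h)))] at hk
  · rw [Nat.cast_mul (2 * D.h) k, ← hk, classInner_def, Nat.cast_mul (2 * D.h), mul_inv,
      ← mul_assoc, ← mul_assoc, mul_inv_cancel₀ (h.q_ne), one_mul]
    congr 1
    refine Finset.sum_congr rfl fun f _ => ?_
    simp only [Function.comp_apply, MonoidHom.coe_comp, MonoidHom.coe_snd]
    refine congrArg₂ (· * ·) (congrArg (χ : X → ℂ) ?_) rfl
    show (f : X) = h.rp 0 * f
    rw [h.rp_zero, one_mul]
  · intro x _ hx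
    have hx' : x.toAdd ≠ 0 := fun e => hx (Multiplicative.toAdd.injective e)
    have e := sum_conj_mul_hom p 1
    simp only [MonoidHom.one_apply, Units.val_one, mul_one, if_neg (Ne.symm hp)] at e
    calc ∑ f : F, ((χ : X → ℂ) ∘ j) (x, f) *
          conj ((p.comp (MonoidHom.snd (Multiplicative (ZMod (2 * D.h))) F) (x, f) : ℂˣ) : ℂ)
        = ∑ f : F, (χ : X → ℂ) (h.rp x.toAdd) * conj (p f : ℂ) :=
          Finset.sum_congr rfl fun f _ => congrArg₂ (· * ·) (hc _ hx' f f.2) rfl
      _ = 0 := by rw [← Finset.mul_sum, e, mul_zero]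
  · simp

/-- Multiplicities are invariant under elements normalising `F`. -/
theorem mult_conj (χ : Cfsg.IrrCharacter X) {g : X} (hg : ∀ f ∈ F, g * f * g⁻¹ ∈ F)
    {p q : F →* ℂˣ} (hq : ∀ f : F, q f = p ⟨g * f * g⁻¹, hg f f.2⟩) :
    Cfsg.classInner (fun f : F => (χ : X → ℂ) f) (fun f => (q f : ℂ)) =
      Cfsg.classInner (fun f : F => (χ : X → ℂ) f) (fun f => (p f : ℂ)) := by
  have hinj : Function.Injective fun f : F => (⟨g * f * g⁻¹, hg f f.2⟩ : F) := fun a b e =>
    Subtype.ext (by simpa using congrArg Subtype.val e)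
  rw [classInner_def, classInner_def]
  congr 1
  refine Fintype.sum_bijective _ ⟨hinj, Finite.surjective_of_injective hinj⟩ _ _ fun f => ?_
  rw [hq f, irr_isClassFunction χ.2 (f : X) g]

/-- Conjugation by an element of `A` on `F`. -/
def cA (a : A) : F →* F := MonoidHom.mk' (fun f => ⟨a * f * (a : X)⁻¹, h.hAF a a.2 f f.2⟩)
  fun a b => Subtype.ext (by simp [mul_assoc])

theorem cA_comp (a b : A) (p : F →* ℂˣ) : (p.comp (h.cA a)).comp (h.cA b) = p.comp (h.cA (a * b)) :=
  MonoidHom.ext fun f => congrArg p (Subtype.ext (by simp [cA, mul_assoc]))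

theorem cA_one (p : F →* ℂˣ) : p.comp (h.cA 1) = p :=
  MonoidHom.ext fun f => congrArg p (Subtype.ext (by simp [cA]))

/-- The degree of a nonprincipal character constant on the sections of `F` is at least `6q`. -/
theorem deg_ge [IsSimpleGroup X] {χ : Cfsg.IrrCharacter X}
    (hc : ∀ i : ZMod (2 * D.h), i ≠ 0 → ∀ f ∈ F, (χ : X → ℂ) (h.rp i * f) = (χ : X → ℂ) (h.rp i))
    (hne : (χ : X → ℂ) ≠ fun _ => 1) {d : ℕ} (hd : (χ : X → ℂ) 1 = d) :
    6 * (2 * D.h) ≤ d := by
  have hFc : ∀ a b : F, a * b = b * a := fun a b => Subtype.ext (h.hFcomm _ a.2 _ b.2)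
  have : Finite (F →* ℂˣ) := Nat.finite_of_card_ne_zero (by
    rw [natCard_linear]; exact Subgroup.index_ne_zero_of_finite)
  have := Fintype.ofFinite (F →* ℂˣ)
  have hnat : ∀ p : F →* ℂˣ, ∃ m : ℕ,
      Cfsg.classInner (fun f : F => (χ : X → ℂ) f) (fun f => (p f : ℂ)) = m := fun p =>
    classInner_isCharacter_nat (isCharacter_restrict (irr_isCharacter χ.2) F)
      (irr_isCharacter (isIrrCharacter_linear p))
  choose m hm using hnat
  have hinv : ∀ b : F, ∑ p : F →* ℂˣ, (m p : ℂ) * (p b : ℂ) = (χ : X → ℂ) b := fun b => by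
    simp only [← hm]
    exact linear_expand hFc _ b
  have hsum : ∑ p : F →* ℂˣ, m p = d := by
    have h1 := hinv 1
    simp only [map_one, Units.val_one, mul_one, OneMemClass.coe_one] at h1
    rw [hd] at h1
    exact_mod_cast h1
  have hconj : ∀ (a : A) (p : F →* ℂˣ), m (p.comp (h.cA a)) = m p := fun a p => by
    apply Nat.cast_injective (R := ℂ)
    rw [← hm, ← hm]
    exact h.mult_conj χ (g := a) (h.hAF a a.2) fun f => rfl
  have hinvm : ∀ p : F →* ℂˣ, m p⁻¹ = m p := fun p => by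
    apply Nat.cast_injective (R := ℂ)
    rw [← hm, ← hm]
    refine h.mult_conj χ (g := u) (fun f hf => h.T_F h.huT hf) fun f => ?_
    rw [MonoidHom.inv_apply, ← map_inv]
    exact congrArg p (Subtype.ext (h.hFu f f.2).symm)
  have heven : ∀ p : F →* ℂˣ, p ≠ 1 → 0 < m p → 2 * D.h ≤ m p := fun p hp hpos => by
    obtain ⟨k, hk⟩ := h.mult_dvd hc hp
    rw [hm] at hk
    have : m p = 2 * D.h * k := by exact_mod_cast hk
    rcases Nat.eq_zero_or_pos k with rfl | hk0
    · omega
    · rw [this]; exact Nat.le_mul_of_pos_right _ hk0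
  obtain ⟨a0, ha0, f0, hf0, hne0⟩ := h.hmove
  set a : A := ⟨a0, ha0⟩
  obtain ⟨p, hpm, hpa⟩ : ∃ p : F →* ℂˣ, 0 < m p ∧ p.comp (h.cA a) ≠ p := by
    by_contra hc
    push Not at hc
    set x : F := h.cA a ⟨f0, hf0⟩ * (⟨f0, hf0⟩ : F)⁻¹
    have hx : (χ : X → ℂ) x = (χ : X → ℂ) 1 := by
      rw [← hinv x, hd, ← hsum, Nat.cast_sum]
      refine Finset.sum_congr rfl fun p _ => ?_
      rcases Nat.eq_zero_or_pos (m p) with e | e
      · simp [e]
      · have e2 := DFunLike.congr_fun (hc p e) ⟨f0, hf0⟩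
        rw [MonoidHom.comp_apply] at e2
        rw [map_mul, map_inv, e2, mul_inv_cancel, Units.val_one, mul_one]
    have hx1 : a0 * f0 * a0⁻¹ * f0⁻¹ = 1 := faithful χ hne hx
    exact hne0 (by rwa [mul_inv_eq_one, mul_inv_eq_iff_eq_mul] at hx1)
  have hp1 : p ≠ 1 := fun e => hpa (by rw [e, MonoidHom.one_comp])
  let S : Subgroup A :=
    { carrier := {b | p.comp (h.cA b) = p}
      one_mem' := h.cA_one p
      mul_mem' := fun {b c} hb hc => by
        show p.comp (h.cA (b * c)) = p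
        rw [← h.cA_comp, show p.comp (h.cA b) = p from hb, hc]
      inv_mem' := fun {b} hb => by
        show p.comp (h.cA b⁻¹) = p
        conv_lhs => rw [← show p.comp (h.cA b) = p from hb]
        rw [h.cA_comp, mul_inv_cancel, h.cA_one] }
  have hsqS : ∀ b : A, b * b ∈ S → b ∈ S := fun b hb =>
    mem_of_sq_mem (H := (⊤ : Subgroup A)) (by rw [Subgroup.card_top]; exact h.hAodd)
      (Subgroup.mem_top b) hb
  have hneg : ∀ b : A, p.comp (h.cA b) ≠ p⁻¹ := fun b e => by
    have hb : b ∈ S := hsqS b (by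
      show p.comp (h.cA (b * b)) = p
      rw [← h.cA_comp, e, MonoidHom.inv_comp, e, inv_inv])
    rw [show p.comp (h.cA b) = p from hb] at e
    refine hp1 (hom_eq_one_of_sq h.hFodd fun f => ?_)
    nth_rewrite 1 [e]
    rw [MonoidHom.inv_apply, inv_mul_cancel]
  have hsame : ∀ b c : A, p.comp (h.cA b) = p.comp (h.cA c) → b * c⁻¹ ∈ S := fun b c e => by
    show p.comp (h.cA (b * c⁻¹)) = p
    rw [← h.cA_comp, e, h.cA_comp, mul_inv_cancel, h.cA_one]
  set q : A → (F →* ℂˣ) := fun b => p.comp (h.cA b) with hq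
  have hqneg : ∀ b c : A, q b ≠ (q c)⁻¹ := fun b c e => hneg (b * c⁻¹) (by
    rw [← h.cA_comp, show p.comp (h.cA b) = (p.comp (h.cA c))⁻¹ from e, MonoidHom.inv_comp,
      h.cA_comp, mul_inv_cancel, h.cA_one])
  set T : Finset (F →* ℂˣ) := {q 1, q a, q (a * a)} with hT
  have haS : a ∉ S := hpa
  have h01 : q 1 ≠ q a := fun e => haS (by simpa using inv_mem (hsame _ _ e))
  have h02 : q 1 ≠ q (a * a) := fun e => haS (hsqS a (by simpa using inv_mem (hsame _ _ e)))
  have h12 : q a ≠ q (a * a) := fun e => haS (by simpa using inv_mem (hsame _ _ e))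
  have hTcard : T.card = 3 := by simp [hT, h01, h02, h12]
  have hTq : ∀ r ∈ T, ∃ b, r = q b := fun r hr => by
    simp only [hT, Finset.mem_insert, Finset.mem_singleton] at hr
    rcases hr with e | e | e <;> exact ⟨_, e⟩
  have hdisj : Disjoint T (T.image fun r => r⁻¹) := by
    rw [Finset.disjoint_left]
    intro r hr hr'
    obtain ⟨r', hr'', e⟩ := Finset.mem_image.1 hr'
    obtain ⟨b, rfl⟩ := hTq r hr
    obtain ⟨c, rfl⟩ := hTq r' hr''
    exact hqneg b c e.symm
  have hmem : ∀ r ∈ T ∪ T.image fun r => r⁻¹, 2 * D.h ≤ m r := by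
    intro r hr
    have key : ∀ b, 2 * D.h ≤ m (q b) := fun b => by
      rw [hq, hconj]
      exact heven p hp1 hpm
    rcases Finset.mem_union.1 hr with hr | hr
    · obtain ⟨b, rfl⟩ := hTq r hr; exact key b
    · obtain ⟨r', hr', rfl⟩ := Finset.mem_image.1 hr
      obtain ⟨b, rfl⟩ := hTq r' hr'
      rw [hinvm]; exact key b
  rw [← hsum]
  refine le_trans ?_ (Finset.sum_le_sum_of_subset (Finset.subset_univ (T ∪ T.image fun r => r⁻¹)))
  refine le_trans ?_ (Finset.card_nsmul_le_sum _ _ _ hmem)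
  rw [Finset.card_union_of_disjoint hdisj,
    Finset.card_image_of_injective (f := fun r : F →* ℂˣ => r⁻¹) T (fun a b e => inv_injective e), hTcard]
  simp only [smul_eq_mul]
  omega

end RotCent

end CfsgLib.GW.Twist
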