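import Cfsg.Agent.Lib.GW.Assembly
import Cfsg.Agent.Lib.GW.Quadratic

/-!
# The rotations on `O(C(a))`: local lemmas

With all centralisers of involutions maximal, a prime part of `F(O(C(a)))` cannot be centralised by
one reflection and coincide with its images under the rotation; two reflections cannot each
centralise a part inverted by the other.
-/

set_option autoImplicit false
set_option linter.unusedSectionVars false
set_option linter.style.haveILetI false

namespace CfsgLib.GW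

open Subgroup CfsgLib.Invol

universe u

variable {G : Type u} [Group G] [Finite G]

/-- A `2`-element centralising `F(O(C(a)))` centralises `O(C(a))`. -/
theorem comm_coreC_of_comm_fitC {a x : G} (hxc : x ∈ cI a) (h2 : ∃ k, x ^ 2 ^ k = 1)
    (hx : ∀ f ∈ fitC a, x * f = f * x) : ∀ y ∈ coreC a, x * y = y * x := by
  intro y hy
  have hSc : Sc a x := fun p hp => Or.inl fun f hf => by
    haveI := Fact.mk hp
    rw [hx f (fitP_le_fitC a p hf), mul_inv_cancel_right]
  obtain ⟨k, hk⟩ := h2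
  obtain ⟨f, hf0⟩ : ∃ f, f = defect x y := ⟨_, rfl⟩
  have hf : f ∈ fitC a := hf0 ▸ (defect_facts hxc hSc hy).1
  have hpow : ∀ i : ℕ, x ^ i * y * (x ^ i)⁻¹ = y * f ^ i := fun i => by
    induction i with
    | zero => simp
    | succ i ih =>
      have hfi : Commute x (f ^ i) := Commute.pow_right (show Commute x f from hx f hf) i
      calc x ^ (i + 1) * y * (x ^ (i + 1))⁻¹ = x * (x ^ i * y * (x ^ i)⁻¹) * x⁻¹ := by
            rw [pow_succ']; group
        _ = x * y * x⁻¹ * (x * f ^ i * x⁻¹) := by rw [ih]; group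
        _ = y * f * f ^ i := by
          rw [hfi.eq, mul_inv_cancel_right, hf0]; simp only [defect]; group
        _ = y * f ^ (i + 1) := by rw [pow_succ', mul_assoc]
  have hf1 : f = 1 := by
    refine orderOf_eq_one_iff.1 (Nat.eq_one_of_dvd_coprimes (a := orderOf f) (b := 2 ^ k)
      ((Nat.coprime_two_right.2 (odd_orderOf_mem_coreC (fitC_le_coreC a hf))).pow_right k)
      dvd_rfl (orderOf_dvd_of_pow_eq_one ?_))
    have := hpow (2 ^ k)
    rw [hk, one_mul, inv_one, mul_one] at this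
    exact mul_eq_left.1 this.symm
  have := hpow 1
  rw [hf1, one_pow, mul_one, pow_one] at this
  exact mul_inv_eq_iff_eq_mul.1 this

/-- An element of `O(C(a))` centralised and inverted by an involution is trivial. -/
theorem eq_one_of_fixed_inverted {a c f : G} (hf : f ∈ coreC a) (h1 : c * f * c⁻¹ = f)
    (h2 : c * f * c⁻¹ = f⁻¹) : f = 1 := by
  refine orderOf_eq_one_iff.1 (Nat.eq_one_of_dvd_coprimes
    (Nat.coprime_two_right.2 (odd_orderOf_mem_coreC hf)) dvd_rfl (orderOf_dvd_of_pow_eq_one ?_))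
  rw [h1] at h2
  rw [pow_two]
  nth_rewrite 2 [h2]
  exact mul_inv_cancel f

/-- A prime-order element of `F(O(C(a)))` lies in the corresponding prime part. -/
theorem mem_fitP_of_pgroup {a f : G} {p : ℕ} [Fact p.Prime] (hf : f ∈ fitC a) {k : ℕ}
    (hk : orderOf f = p ^ k) : f ∈ fitP a p := by
  obtain ⟨v, hv, rfl⟩ := hf
  refine ⟨v, mem_pCore_of_mem_fitting hv (k := k) ?_, rfl⟩
  rw [← hk]; exact (Subgroup.orderOf_coe v).symm

theorem mem_fitP_of_pow {a f : G} {p : ℕ} [Fact p.Prime] {P : Subgroup G} (hP : IsPGroup p P)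
    (hfP : f ∈ P) (hf : f ∈ fitC a) : f ∈ fitP a p := by
  obtain ⟨k, hk⟩ := IsPGroup.iff_orderOf.1 hP ⟨f, hfP⟩
  exact mem_fitP_of_pgroup hf ((Subgroup.orderOf_mk f hfP).symm.trans hk)

/-- Different prime parts commute. -/
theorem fitP_commute {a : G} {p q : ℕ} [Fact p.Prime] [Fact q.Prime] (hpq : p ≠ q) {x y : G}
    (hx : x ∈ fitP a p) (hy : y ∈ fitP a q) : x * y = y * x := by
  have hd := IsPGroup.disjoint_of_ne p q hpq _ _ (isPGroup_fitP a p) (isPGroup_fitP a q)
  have h1 : x * y * x⁻¹ * y⁻¹ ∈ fitP a p := by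
    rw [show x * y * x⁻¹ * y⁻¹ = x * (y * x⁻¹ * y⁻¹) by group]
    exact mul_mem hx (conj_mem_fitP (fitP_le_cI a q hy) (inv_mem hx))
  have h2 : x * y * x⁻¹ * y⁻¹ ∈ fitP a q :=
    mul_mem (conj_mem_fitP (fitP_le_cI a p hx) hy) (inv_mem hy)
  exact mul_inv_eq_iff_eq_mul.1 (mul_inv_eq_one.1 (Subgroup.disjoint_def.1 hd h1 h2))

theorem fitP_image {a g a' : G} {p : ℕ} (h : g * a * g⁻¹ = a') {x : G} (hx : x ∈ fitP a p) :
    g * x * g⁻¹ ∈ fitP a' p := by
  rw [← h, ← fitP_conj]
  exact ⟨x, hx, rfl⟩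

theorem fitP_preimage {a g a' : G} {p : ℕ} (h : g * a * g⁻¹ = a') {x : G} (hx : x ∈ fitP a' p) :
    g⁻¹ * x * g ∈ fitP a p := by
  rw [← h, ← fitP_conj] at hx
  obtain ⟨y, hy, rfl⟩ := hx
  show g⁻¹ * (g * y * g⁻¹) * g ∈ fitP a p
  rwa [show g⁻¹ * (g * y * g⁻¹) * g = y by group]

/-- The centralisers of two involutions of a rotated four-group are different. -/
theorem Four.cI_ne (M : Min G) (hco : ∀ x : G, orderOf x = 2 → IsCoatom (cI x)) {a b g : G}
    (h : Four a b g) : cI a ≠ cI b := by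
  intro e
  have hne : cI a ≠ ⊥ := fun e0 => invol_ne_one h.ha (mem_bot.1 (e0 ▸ self_mem_cI a))
  have htop : cI a ≠ ⊤ := M.cI_ne_top (invol_ne_one h.ha)
  have hgN : g ∈ normalizer (cI a : Set G) := mem_normalizer_iff_of_finite fun x hx => by
    have hgx : g * x * g⁻¹ ∈ cI b := by rw [← h.ga, ← cI_conj]; exact ⟨x, hx, rfl⟩
    exact e.ge hgx
  have hga := conj_eq_self
    ((((hco a h.ha).le_iff.1 le_normalizer).resolve_left (M.normalizer_ne_top hne htop)).le hgN)
  exact h.hab (hga.symm.trans h.ga)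

/-- Two centralisers of involutions do not share a nontrivial prime part. -/
theorem fitP_eq_bot_of_eq (M : Min G) (hco : ∀ x : G, orderOf x = 2 → IsCoatom (cI x)) {a b : G}
    (ha : orderOf a = 2) (hb : orderOf b = 2) (hne : cI a ≠ cI b) {p : ℕ}
    (h : fitP a p = fitP b p) : fitP a p = ⊥ := by
  by_contra hP
  have htop : fitP a p ≠ ⊤ := fun e =>
    M.cI_ne_top (invol_ne_one ha) (top_le_iff.1 (e ▸ fitP_le_cI a p))
  have hN := M.normalizer_ne_top hP htop
  have h1 := ((hco a ha).le_iff.1 (cI_le_normalizer_fitP a p)).resolve_left hN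
  have h2 : cI b ≤ normalizer (fitP a p : Set G) := h ▸ cI_le_normalizer_fitP b p
  have h3 := ((hco b hb).le_iff.1 h2).resolve_left hN
  exact hne (h1.symm.trans h3)

/-- The normalizer of a nontrivial prime part. -/
theorem normalizer_fitP (M : Min G) (hco : ∀ x : G, orderOf x = 2 → IsCoatom (cI x)) {a : G}
    (ha : orderOf a = 2) {p : ℕ} (hP : fitP a p ≠ ⊥) :
    normalizer (fitP a p : Set G) = cI a :=
  ((hco a ha).le_iff.1 (cI_le_normalizer_fitP a p)).resolve_left
    (M.normalizer_ne_top hP fun e =>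
      M.cI_ne_top (invol_ne_one ha) (top_le_iff.1 (e ▸ fitP_le_cI a p)))

/-- An involution acting by scalars splits `O(C(a))`. -/
theorem coreC_split {a c : G} (hc : orderOf c = 2) (hca : c ∈ cI a) (hSc : Sc a c) {y : G}
    (hy : y ∈ coreC a) :
    ∃ z ∈ fitC a, (∀ f ∈ fitC a, z * f = f * z) ∧ c * z * c⁻¹ = z⁻¹ ∧ z ∈ zpowers (defect c y) ∧
      y * z ∈ coreC a ⊓ cI c := by
  obtain ⟨d, hd⟩ : ∃ d, d = defect c y := ⟨_, rfl⟩
  obtain ⟨hdF, hdc⟩ := defect_facts hca hSc hy
  rw [← hd] at hdF hdc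
  have hcd : c * d * c⁻¹ = d⁻¹ := by
    rw [hd]; simp only [defect]
    calc c * (y⁻¹ * (c * y * c⁻¹)) * c⁻¹ = c * y⁻¹ * c * y * (c⁻¹ * c⁻¹) := by group
      _ = (y⁻¹ * (c * y * c⁻¹))⁻¹ := by
        rw [invol_inv hc, invol_mul_self hc, mul_one, mul_inv_rev, mul_inv_rev, mul_inv_rev,
          invol_inv hc, inv_inv]
        group
  obtain ⟨m, hm⟩ := odd_orderOf_mem_coreC (fitC_le_coreC a hdF)
  have hz2 : d ^ (m + 1) * d ^ (m + 1) = d := by
    rw [← pow_add, show m + 1 + (m + 1) = orderOf d + 1 by omega, pow_succ, pow_orderOf_eq_one,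
      one_mul]
  have hzi : c * d ^ (m + 1) * c⁻¹ = (d ^ (m + 1))⁻¹ := by rw [← conj_pow, hcd, inv_pow]
  obtain ⟨z, hz⟩ : ∃ z, z = d ^ (m + 1) := ⟨_, rfl⟩
  rw [← hz] at hz2 hzi
  refine ⟨z, hz ▸ pow_mem hdF _, fun f hf => hz ▸ (Commute.pow_left (hdc f hf) _).eq, hzi,
    hz ▸ hd ▸ pow_mem (mem_zpowers _) _,
    mul_mem hy (hz ▸ pow_mem (fitC_le_coreC a hdF) _), ?_⟩
  refine mem_cI.2 (mul_inv_eq_iff_eq_mul.1 (?_ : c * (y * z) * c⁻¹ = y * z)).symm
  calc c * (y * z) * c⁻¹ = y * d * (c * z * c⁻¹) := by rw [hd]; simp only [defect]; group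
    _ = y * (z * z) * z⁻¹ := by rw [hzi, hz2]
    _ = y * z := by group

/-- A prime part centralised by `b` is trivial when an element centralising the common core of
`C(a)` and `C(b)` maps `b` to `a b`. -/
theorem Four.fitP_eq_bot_of_commuting (M : Min G)
    (hco : ∀ x : G, orderOf x = 2 → IsCoatom (cI x)) {a b g s : G} (h : Four a b g)
    (hsb : s * b * s⁻¹ = a * b) (hs : ∀ y ∈ coreC a, s * y = y * s) {p : ℕ}
    (hX : fitP a p ≤ cI b) : fitP a p = ⊥ := by
  have hW : ∀ y ∈ fitP b p, y ∈ coreC a := by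
    intro y hy
    have h0 : g⁻¹ * y * g ∈ coreC a ⊓ coreC b := by
      have h1 := fitP_preimage h.ga hy
      rw [← M.inf_cI_eq h.hb]
      exact ⟨fitP_le_coreC a p h1, hX h1⟩
    have h2 := h.rot_core M h0
    rw [show g * (g⁻¹ * y * g) * g⁻¹ = y by group] at h2
    exact h2.1
  have he : fitP b p = fitP (a * b) p := by
    rw [← hsb, ← fitP_conj]
    ext y
    constructor
    · exact fun hy => ⟨y, hy, show s * y * s⁻¹ = y by rw [hs y (hW y hy), mul_inv_cancel_right]⟩
    · rintro ⟨x, hx, rfl⟩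
      show s * x * s⁻¹ ∈ fitP b p
      rwa [hs x (hW x hx), mul_inv_cancel_right]
  have hb0 : fitP b p = ⊥ := fitP_eq_bot_of_eq M hco h.hb h.rot.hb (h.rot.cI_ne M hco) he
  refine (Subgroup.eq_bot_iff_forall _).2 fun x hx => ?_
  have h1 := fitP_image h.ga hx
  rw [hb0, mem_bot] at h1
  exact conj_eq_one_iff.1 h1

/-- Two reflections exchanging their rotation partners cannot each centralise a prime part
inverted by the other. -/
theorem Min.no_two_mixed (M : Min G) (hco : ∀ x : G, orderOf x = 2 → IsCoatom (cI x))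
    (T : Sylow 2 G) {a b c g₁ g₂ : G} (hT : (T : Subgroup G) ≤ cI a)
    (h₁ : Four a b g₁) (h₂ : Four a c g₂) (hbT : b ∈ (T : Subgroup G))
    (hcT : c ∈ (T : Subgroup G)) (hbcb : b * c * b⁻¹ = a * c)
    (hScT : ∀ x ∈ (T : Subgroup G), Sc a x) {p q : ℕ} [Fact p.Prime] [Fact q.Prime]
    (hXb : fitP a p ≤ cI b)
    (hYc : fitP a q ≤ cI c) (hYb : ∀ x ∈ fitP a q, b * x * b⁻¹ = x⁻¹)
    (hX : fitP a p ≠ ⊥) (hY : fitP a q ≠ ⊥) : False := by
  have hpq : p ≠ q := by
    rintro rfl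
    refine hX ((Subgroup.eq_bot_iff_forall _).2 fun x hx => ?_)
    exact eq_one_of_fixed_inverted (fitP_le_coreC a p hx)
      (by rw [(mem_cI.1 (hXb hx)).symm, mul_inv_cancel_right]) (hYb x hx)
  have hba : b ∈ cI a := hT hbT
  have hca : c ∈ cI a := hT hcT
  have hrot2 : ∀ y ∈ fitP c q, y ∈ coreC a ⊓ coreC c := by
    intro y hy
    have h0 : g₂⁻¹ * y * g₂ ∈ coreC a ⊓ coreC c := by
      have h1 := fitP_preimage h₂.ga hy
      rw [← M.inf_cI_eq h₂.hb]
      exact ⟨fitP_le_coreC a q h1, hYc h1⟩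
    have h2 := h₂.rot_core M h0
    rwa [show g₂ * (g₂⁻¹ * y * g₂) * g₂⁻¹ = y by group] at h2
  have hrot1 : ∀ y ∈ fitP b p, y ∈ coreC a ⊓ coreC b := by
    intro y hy
    have h0 : g₁⁻¹ * y * g₁ ∈ coreC a ⊓ coreC b := by
      have h1 := fitP_preimage h₁.ga hy
      rw [← M.inf_cI_eq h₁.hb]
      exact ⟨fitP_le_coreC a p h1, hXb h1⟩
    have h2 := h₁.rot_core M h0
    rwa [show g₁ * (g₁⁻¹ * y * g₁) * g₁⁻¹ = y by group] at h2
  have hbY' : ∀ y ∈ fitP c q, b * y * b⁻¹ ∈ fitP (a * c) q := fun y hy => fitP_image hbcb hy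
  -- `I = Y ∩ Y'` is trivial
  set I := fitP a q ⊓ fitP c q with hI
  have hI3 : ∀ z ∈ I, z ∈ fitP (a * c) q := by
    intro z hz
    have h := hbY' _ (inv_mem hz.2)
    rwa [hYb _ (inv_mem hz.1), inv_inv] at h
  have hIbot : I = ⊥ := by
    by_contra hne
    have hIT : (T : Subgroup G) ≤ normalizer (I : Set G) := fun x hx =>
      mem_normalizer_iff_of_finite fun z hz => by
        rcases hScT x hx q Fact.out with h | h
        · rw [h z hz.1]; exact hz
        · rw [h z hz.1]; exact inv_mem hz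
    have hIO : coreC a ≤ normalizer (I : Set G) := by
      intro y hy
      refine mem_normalizer_iff_of_finite fun v hv => ?_
      obtain ⟨z, hzF, hzc, -, -, hw⟩ := coreC_split h₂.hb hca (hScT c hcT) hy
      have hvF : v ∈ fitC a := fitP_le_fitC a q hv.1
      have e : y * v * y⁻¹ = y * z * v * (y * z)⁻¹ := by
        calc y * v * y⁻¹ = y * (v * z) * (y * z)⁻¹ := by group
          _ = y * (z * v) * (y * z)⁻¹ := by rw [hzc v hvF]
          _ = _ := by group
      rw [e]
      exact ⟨conj_mem_fitP (coreC_le_cI a hw.1) hv.1, conj_mem_fitP hw.2 hv.2⟩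
    have htop : I ≠ ⊤ := fun e => M.cI_ne_top (invol_ne_one h₁.ha)
      (top_le_iff.1 (e ▸ inf_le_left.trans (fitP_le_cI a q)))
    have hN := ((hco a h₁.ha).le_iff.1 ((M.cI_le_sup T h₁.ha hT).trans
      (sup_le hIO hIT))).resolve_left (M.normalizer_ne_top hne htop)
    have hgN : g₂ ∈ normalizer (I : Set G) := mem_normalizer_iff_of_finite fun v hv =>
      ⟨fitP_image h₂.gab (hI3 v hv), fitP_image h₂.ga hv.1⟩
    exact h₂.hab ((conj_eq_self (hN.le hgN)).symm.trans h₂.ga)
  -- `Y' = Y''`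
  have key : ∀ y ∈ fitP c q, b * y * b⁻¹ = y := by
    intro y hy
    have hyW := hrot2 y hy
    have hyac : y ∈ cI (a * c) := mem_cI.2 (Commute.mul_right
      (mem_cI.1 (coreC_le_cI a hyW.1)) (mem_cI.1 (coreC_le_cI c hyW.2)))
    have hY'N : fitP c q ≤ normalizer (fitP (a * c) q : Set G) := fun w hw => by
      have hwW := hrot2 w hw
      exact cI_le_normalizer_fitP (a * c) q (mem_cI.2 (Commute.mul_right
        (mem_cI.1 (coreC_le_cI a hwW.1)) (mem_cI.1 (coreC_le_cI c hwW.2))))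
    obtain ⟨f, hf⟩ : ∃ f, f = defect b y := ⟨_, rfl⟩
    have hfF : f ∈ fitC a := hf ▸ (defect_facts hba (hScT b hbT) hyW.1).1
    have hfY : f ∈ fitP a q :=
      mem_fitP_of_pow ((isPGroup_fitP c q).to_sup_of_normal_right' (isPGroup_fitP (a * c) q) hY'N)
        (hf ▸ mul_mem (inv_mem (mem_sup_left hy)) (mem_sup_right (hbY' y hy))) hfF
    obtain ⟨z, -, -, hzi, hzp, hw⟩ := coreC_split h₁.hb hba (hScT b hbT) hyW.1
    rw [← hf] at hzp
    have hzY : z ∈ fitP a q := zpowers_le.2 hfY hzp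
    -- every element of `X'` commutes with `f`
    have hfc : ∀ π₀ ∈ fitP b p, π₀ * f = f * π₀ := by
      intro π₀ hπ₀
      have hπW := hrot1 π₀ hπ₀
      obtain ⟨e, he⟩ : ∃ e, e = defect c π₀ := ⟨_, rfl⟩
      have heF : e ∈ fitC a := he ▸ (defect_facts hca (hScT c hcT) hπW.1).1
      have hcX' : c * π₀ * c⁻¹ ∈ fitP (a * b) p := by
        refine fitP_image ?_ hπ₀
        calc c * b * c⁻¹ = c * b * c := by rw [invol_inv h₂.hb]
          _ = a * b := by
            have h := hbcb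
            rw [invol_inv h₁.hb] at h
            calc c * b * c = b * (b * c * b) * c := by
                  rw [show b * (b * c * b) * c = (b * b) * c * b * c by group, invol_mul_self h₁.hb,
                    one_mul]
              _ = b * a * (c * c) := by rw [h]; group
              _ = a * b := by rw [invol_mul_self h₂.hb, mul_one, h₁.comm]
      have hX'N : fitP b p ≤ normalizer (fitP (a * b) p : Set G) := fun w hw => by
        have hwW := hrot1 w hw
        exact cI_le_normalizer_fitP (a * b) p (mem_cI.2 (Commute.mul_right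
          (mem_cI.1 (coreC_le_cI a hwW.1)) (mem_cI.1 (coreC_le_cI b hwW.2))))
      have heX : e ∈ fitP a p :=
        mem_fitP_of_pow ((isPGroup_fitP b p).to_sup_of_normal_right' (isPGroup_fitP (a * b) p) hX'N)
          (he ▸ mul_mem (inv_mem (mem_sup_left hπ₀)) (mem_sup_right hcX')) heF
      obtain ⟨x, -, -, -, hxp, hπ⟩ := coreC_split h₂.hb hca (hScT c hcT) hπW.1
      rw [← he] at hxp
      have hxX : x ∈ fitP a p := zpowers_le.2 heX hxp
      obtain ⟨π, hπdef⟩ : ∃ π, π = π₀ * x := ⟨_, rfl⟩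
      rw [← hπdef] at hπ
      have hπb : π ∈ cI b := hπdef ▸ mul_mem (coreC_le_cI b hπW.2) (hXb hxX)
      -- `π` commutes with the part `y z` fixed by `b`
      obtain ⟨k, hk⟩ : ∃ k, k = π * (y * z) * π⁻¹ * (y * z)⁻¹ := ⟨_, rfl⟩
      have hzc : z ∈ cI c := hYc hzY
      have hYN : fitP c q ≤ normalizer (fitP a q : Set G) := fun w hw =>
        cI_le_normalizer_fitP a q (coreC_le_cI a (hrot2 w hw).1)
      have hXN : fitP b p ≤ normalizer (fitP a p : Set G) := fun w hw =>
        cI_le_normalizer_fitP a p (coreC_le_cI a (hrot1 w hw).1)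
      have hk1 : k ∈ fitP c q ⊔ fitP a q := by
        rw [hk, show π * (y * z) * π⁻¹ * (y * z)⁻¹ =
          π * y * π⁻¹ * (π * z * π⁻¹) * (y * z)⁻¹ by group]
        exact mul_mem (mul_mem (mem_sup_left (conj_mem_fitP hπ.2 hy))
          (mem_sup_right (conj_mem_fitP (coreC_le_cI a hπ.1) hzY)))
          (inv_mem (mul_mem (mem_sup_left hy) (mem_sup_right hzY)))
      have hk2 : k ∈ fitP b p ⊔ fitP a p := by
        rw [hk, hπdef, show π₀ * x * (y * z) * (π₀ * x)⁻¹ * (y * z)⁻¹ =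
          π₀ * x * ((y * z) * x⁻¹ * (y * z)⁻¹) * ((y * z) * π₀⁻¹ * (y * z)⁻¹) by group]
        refine mul_mem (mul_mem (mul_mem (mem_sup_left hπ₀) (mem_sup_right hxX))
          (mem_sup_right (conj_mem_fitP (coreC_le_cI a hw.1) (inv_mem hxX))))
          (mem_sup_left (conj_mem_fitP hw.2 (inv_mem hπ₀)))
      have hk0 : k = 1 := Subgroup.disjoint_def.1
        (IsPGroup.disjoint_of_ne q p (Ne.symm hpq) _ _
          ((isPGroup_fitP c q).to_sup_of_normal_right' (isPGroup_fitP a q) hYN)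
          ((isPGroup_fitP b p).to_sup_of_normal_right' (isPGroup_fitP a p) hXN))
        hk1 hk2
      have hπyz : π * (y * z) * π⁻¹ = y * z := mul_inv_eq_one.1 (hk ▸ hk0)
      -- so `π` centralises `y`
      have hπy : π * y * π⁻¹ = y := by
        have h1 : y⁻¹ * (π * y * π⁻¹) ∈ fitP c q :=
          mul_mem (inv_mem hy) (conj_mem_fitP hπ.2 hy)
        have h2 : y⁻¹ * (π * y * π⁻¹) = z * (π * z⁻¹ * π⁻¹) := by
          calc y⁻¹ * (π * y * π⁻¹) = y⁻¹ * (π * (y * z) * π⁻¹) * (π * z⁻¹ * π⁻¹) := by group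
            _ = _ := by rw [hπyz]; group
        have h3 : y⁻¹ * (π * y * π⁻¹) ∈ I :=
          ⟨h2 ▸ mul_mem hzY (conj_mem_fitP (coreC_le_cI a hπ.1) (inv_mem hzY)), h1⟩
        rw [hIbot, mem_bot] at h3
        exact (inv_mul_eq_one.1 h3).symm
      have hπf : Commute π f := by
        have e1 : Commute π y := mul_inv_eq_iff_eq_mul.1 hπy
        have e2 : Commute π b := mem_cI.1 hπb
        rw [hf]
        exact e1.inv_right.mul_right ((e2.mul_right e1).mul_right e2.inv_right)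
      have hxf : Commute x f := fitP_commute hpq hxX hfY
      rw [show π₀ = π * x⁻¹ by rw [hπdef, mul_inv_cancel_right]]
      exact (hπf.mul_left hxf.inv_left).eq
    -- so `f` lies in `C(b)`
    have hX' : fitP b p ≠ ⊥ := fun e => hX ((Subgroup.eq_bot_iff_forall _).2 fun x hx => by
      have h1 := fitP_image h₁.ga hx
      rw [e, mem_bot] at h1
      exact conj_eq_one_iff.1 h1)
    have hfN : f ∈ normalizer (fitP b p : Set G) := mem_normalizer_iff_of_finite fun w hw => by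
      rwa [← hfc w hw, mul_inv_cancel_right]
    rw [normalizer_fitP M hco h₁.hb hX'] at hfN
    have hf1 : f = 1 := eq_one_of_fixed_inverted (fitP_le_coreC a q hfY)
      (by rw [(mem_cI.1 hfN).symm, mul_inv_cancel_right]) (hYb f hfY)
    rw [hf, defect, inv_mul_eq_one] at hf1
    exact hf1.symm
  -- conclusion
  have heq : fitP c q = fitP (a * c) q := by
    refine le_antisymm (fun y hy => key y hy ▸ hbY' y hy) fun y hy => ?_
    have h1 : b⁻¹ * y * b ∈ fitP c q := fitP_preimage hbcb hy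
    have h2 := key _ h1
    rw [show b * (b⁻¹ * y * b) * b⁻¹ = y by group] at h2
    rw [h2]; exact h1
  have hY0 : fitP c q = ⊥ :=
    fitP_eq_bot_of_eq M hco h₂.hb h₂.rot.hb (h₂.rot.cI_ne M hco) heq
  refine hY ((Subgroup.eq_bot_iff_forall _).2 fun x hx => ?_)
  have h1 := fitP_image h₂.ga hx
  rw [hY0, mem_bot] at h1
  exact conj_eq_one_iff.1 h1

end CfsgLib.GW
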