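import Cfsg.Agent.Lib.GW.Twist.DihedralCongr

/-!
# The twist lemma for a dihedral Sylow 2-subgroup: a constituent sees one character of `K`

The weight bound leaves at most two characters of `K` on the rotation sections of a constituent;
orthogonality and the congruence at the involution exclude the second.
-/

set_option autoImplicit false
set_option linter.unusedSectionVars false
set_option linter.unusedDecidableInType false

namespace CfsgLib.GW.Twist

open CfsgLib.Char CfsgLib.Invol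
open CyclicVec (sg D2)
open scoped ComplexConjugate

universe v

theorem abs_le_one_mul_le {a b : ℤ} (ha : |a| ≤ 1) (hb : |b| ≤ 1) : a * b ≤ a * a := by
  obtain ⟨a1, a2⟩ := abs_le.1 ha
  obtain ⟨b1, b2⟩ := abs_le.1 hb
  rcases (by omega : a = -1 ∨ a = 0 ∨ a = 1) with rfl | rfl | rfl <;> omega

/-- Two small vectors of norm three and inner product two. -/
theorem support_of_inner {ι : Type*} [Fintype ι] [DecidableEq ι] {v w : ι → ℤ}
    (hv1 : ∀ i, |v i| ≤ 1) (hw1 : ∀ i, |w i| ≤ 1) (hv : ∑ i, v i * v i = 3)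
    (hvw : ∑ i, v i * w i = 2) {a b : ι} (hva : v a ≠ 0) (hwa : w a = 0) (hab : b ≠ a)
    (hvb : v b ≠ 0) : w b ≠ 0 := by
  intro hwb
  have hone : ∀ i, v i ≠ 0 → v i * v i = 1 := fun i hi => by
    obtain ⟨h1, h2⟩ := abs_le.1 (hv1 i)
    rcases (by omega : v i = -1 ∨ v i = 1) with e | e <;> rw [e] <;> norm_num
  have hsub : ({a, b} : Finset ι) ⊆ Finset.univ := Finset.subset_univ _
  rw [← Finset.sum_sdiff hsub, Finset.sum_pair hab.symm] at hv hvw
  rw [hwa, hwb, mul_zero, mul_zero] at hvw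
  rw [hone a hva, hone b hvb] at hv
  have := Finset.sum_le_sum (s := Finset.univ \ ({a, b} : Finset ι))
    fun i _ => abs_le_one_mul_le (hv1 i) (hw1 i)
  linarith

namespace RotCent

open scoped _root_.Classical

variable {X : Type v} [Group X] [Fintype X] [Fintype (Cfsg.IrrCharacter X)] {T : Sylow 2 X}
  {D : DihData (T : Subgroup X)} {u : X} {F A : Subgroup X} (h : RotCent T D u F A)
include h

local notation "q" => (2 * D.h)
local notation "Z" => ZMod (2 * D.h)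

/-- The coefficient at the first exceptional column. -/
noncomputable def P (θ : Cfsg.IrrCharacter h.K) (χ : Cfsg.IrrCharacter X) : ℤ := h.dif θ χ 1

/-- The coefficient at the last column. -/
noncomputable def Q (θ : Cfsg.IrrCharacter h.K) (χ : Cfsg.IrrCharacter X) : ℤ :=
  h.dif θ χ (D.h : Z)

theorem one_ne_zero' : (1 : Z) ≠ 0 := by
  rw [Ne, ← Nat.cast_one, ZMod.natCast_eq_zero_iff]
  intro e
  have := Nat.le_of_dvd one_pos e
  have := h.hh
  omega

theorem one_ne_neg_one : (1 : Z) ≠ -1 := by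
  rw [Ne, eq_neg_iff_add_eq_zero, show (1 : Z) + 1 = ((2 : ℕ) : Z) by norm_num,
    ZMod.natCast_eq_zero_iff]
  intro e
  have := Nat.le_of_dvd two_pos e
  have := h.hh
  omega

theorem half_neg : -(D.h : Z) = (D.h : Z) := by
  rw [neg_eq_iff_add_eq_zero, ← Nat.cast_add, ZMod.natCast_eq_zero_iff]
  exact ⟨1, by ring⟩

theorem one_ne_half : (1 : Z) ≠ (D.h : Z) := fun e => by
  refine h.one_ne_neg_one ?_
  rw [e, h.half_neg]

theorem P_norm {θ : Cfsg.IrrCharacter h.K} (hθ : h.Fix θ) :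
    ∑ χ : Cfsg.IrrCharacter X, h.P θ χ * h.P θ χ = 3 := by
  simp only [P, h.dif_norm θ θ hθ h.one_ne_zero' h.one_ne_zero', if_neg h.one_ne_neg_one, if_pos]
  norm_num

theorem Q_norm {θ : Cfsg.IrrCharacter h.K} (hθ : h.Fix θ) :
    ∑ χ : Cfsg.IrrCharacter X, h.Q θ χ * h.Q θ χ = 4 := by
  simp only [Q, h.dif_norm θ θ hθ h.half_ne_zero h.half_ne_zero, h.half_neg, if_pos]
  norm_num

theorem PQ_inner {θ : Cfsg.IrrCharacter h.K} (hθ : h.Fix θ) :
    ∑ χ : Cfsg.IrrCharacter X, h.P θ χ * h.Q θ χ = 2 := by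
  simp only [P, Q, h.dif_norm θ θ hθ h.one_ne_zero' h.half_ne_zero, h.half_neg,
    if_neg h.one_ne_half, if_pos]
  norm_num

theorem PQ_cross {θ θ' : Cfsg.IrrCharacter h.K} (hθ' : h.Fix θ') (hne : θ ≠ θ') :
    ∑ χ : Cfsg.IrrCharacter X, h.P θ χ * h.Q θ' χ = 0 := by
  simp only [P, Q, h.dif_norm θ θ' hθ' h.one_ne_zero' h.half_ne_zero, if_neg hne]

theorem P_abs {θ : Cfsg.IrrCharacter h.K} (hθ : h.Fix θ) (χ : Cfsg.IrrCharacter X) :
    |h.P θ χ| ≤ 1 := by
  have h1 := h.P_norm hθ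
  have h2 := Finset.single_le_sum (fun χ _ => mul_self_nonneg (h.P θ χ)) (Finset.mem_univ χ)
  rw [h1] at h2
  rw [abs_le]
  constructor <;> nlinarith

theorem Q_abs {θ : Cfsg.IrrCharacter h.K} (hθ : h.Fix θ) (χ : Cfsg.IrrCharacter X) :
    |h.Q θ χ| ≤ 1 := by
  by_contra hc
  rw [not_le] at hc
  have h4 : 4 ≤ h.Q θ χ * h.Q θ χ := by
    rw [← abs_mul_abs_self]
    nlinarith
  have hzero : ∀ χ', χ' ≠ χ → h.Q θ χ' = 0 := by
    intro χ' hne
    have h1 := h.Q_norm hθ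
    have h2 := Finset.sum_le_sum_of_subset_of_nonneg (Finset.subset_univ ({χ, χ'} : Finset _))
      fun χ _ _ => mul_self_nonneg (h.Q θ χ)
    rw [h1, Finset.sum_pair hne.symm] at h2
    exact mul_self_eq_zero.1 (le_antisymm (by linarith) (mul_self_nonneg _))
  have h3 := h.dif_degree θ (D.h : Z)
  rw [Finset.sum_eq_single χ (fun χ' _ hne => by
    rw [show h.dif θ χ' (D.h : Z) = 0 from hzero χ' hne, Int.cast_zero, mul_zero]) (by simp)] at h3
  rcases mul_eq_zero.1 h3 with e | e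
  · exact irr_apply_one_ne_zero χ.2 e
  · have e' : h.Q θ χ = 0 := Int.cast_eq_zero.1 e
    rw [e'] at h4
    norm_num at h4

omit [Fintype (Cfsg.IrrCharacter X)] in
theorem fh_parity {θ : Cfsg.IrrCharacter h.K} (hθ : h.Fix θ) (χ : Cfsg.IrrCharacter X) :
    Even (h.fh θ χ - h.Q θ χ) :=
  CyclicVec.even_sum_sg_sub (h.mult_neg hθ χ)

omit [Fintype (Cfsg.IrrCharacter X)] in
theorem D2_of_ne {θ : Cfsg.IrrCharacter h.K} {χ : Cfsg.IrrCharacter X} {ν : Z}
    (hν : h.dif θ χ ν ≠ 0) : 2 * ((q : ℕ) - 1 : ℤ) ≤ D2 (h.mult θ χ) :=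
  CyclicVec.D2_nonconst (ν := ν) fun e => hν (by rw [dif, e, sub_self])

omit [Fintype (Cfsg.IrrCharacter X)] in
theorem D2_cases (θ : Cfsg.IrrCharacter h.K) (χ : Cfsg.IrrCharacter X) :
    D2 (h.mult θ χ) = 0 ∨ ∃ ν, h.dif θ χ ν ≠ 0 := by
  by_cases hc : ∃ ν, h.dif θ χ ν ≠ 0
  · exact Or.inr hc
  push Not at hc
  refine Or.inl (Finset.sum_eq_zero fun ν _ => Finset.sum_eq_zero fun μ _ => ?_)
  have h1 : h.mult θ χ ν = h.mult θ χ μ := by
    linarith [(show h.mult θ χ 0 - h.mult θ χ ν = 0 from hc ν),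
      (show h.mult θ χ 0 - h.mult θ χ μ = 0 from hc μ)]
  rw [h1, sub_self, mul_zero]

omit [Fintype (Cfsg.IrrCharacter X)] in
theorem D2_pair [Fintype (Cfsg.IrrCharacter h.K)] (χ : Cfsg.IrrCharacter X)
    {θ θ' : Cfsg.IrrCharacter h.K} (hne : θ ≠ θ') :
    D2 (h.mult θ χ) + D2 (h.mult θ' χ) < 4 * (q : ℕ) := by
  refine lt_of_le_of_lt ?_ (h.weight_lt χ)
  rw [← Finset.sum_pair (f := fun θ => D2 (h.mult θ χ)) hne]
  exact Finset.sum_le_sum_of_subset_of_nonneg (Finset.subset_univ _) fun _ _ _ => CyclicVec.D2_nonneg _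

/-- What two fixed characters on one constituent look like. -/
theorem shared {l : A →* ℂˣ} {θ : Cfsg.IrrCharacter h.K} (hθ : h.Fix θ) (hne : θ ≠ h.lamIrr l)
    {χ : Cfsg.IrrCharacter X} {ν : Z} (hl : h.dif (h.lamIrr l) χ ν ≠ 0) {μ : Z}
    (hθn : h.dif θ χ μ ≠ 0) :
    (h.Q (h.lamIrr l) χ ≠ 0 → h.Q θ χ = 0 ∧ h.P θ χ ≠ 0) ∧
      (h.Q (h.lamIrr l) χ = 0 → h.Q θ χ ≠ 0) := by
  have := Fintype.ofFinite (Cfsg.IrrCharacter h.K)
  have hq := h.four_le_q
  have hq' : (4 : ℤ) ≤ (q : ℕ) := by exact_mod_cast hq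
  have hfix := h.lamIrr_fix l
  have hpair := h.D2_pair χ (Ne.symm hne)
  have hbal : ∀ {θ : Cfsg.IrrCharacter h.K}, h.Fix θ → ∀ {ν : Z}, h.dif θ χ ν ≠ 0 →
      h.Q θ χ = 0 → 4 * ((q : ℕ) - 2 : ℤ) ≤ D2 (h.mult θ χ) := fun {θ} hθ {ν} hν h0 =>
    CyclicVec.D2_balanced (h.mult_neg hθ χ) (sub_eq_zero.1 h0).symm (ν := ν)
      fun e => hν (by rw [dif, e, sub_self])
  refine ⟨fun hQ => ?_, fun hQ hQ' => ?_⟩
  · have hodd : Odd (h.fh (h.lamIrr l) χ) := by
      have h1 := Int.even_iff.1 (h.fh_parity hfix χ)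
      obtain ⟨a, b⟩ := abs_le.1 (h.Q_abs hfix χ)
      rw [Int.odd_iff]
      omega
    have hQ' : h.Q θ χ = 0 := by
      have h1 := Int.even_iff.1 (h.fh_even_of_fixed hodd θ hθ hne)
      have h2 := Int.even_iff.1 (h.fh_parity hθ χ)
      obtain ⟨a, b⟩ := abs_le.1 (h.Q_abs hθ χ)
      omega
    refine ⟨hQ', fun hP => ?_⟩
    have h1 := h.D2_of_ne hl
    have h2 := hbal hθ hθn hQ'
    have hh2 : D.h = 2 := by
      have := h.hh
      by_contra hne2
      have : (6 : ℤ) ≤ (q : ℕ) := by exact_mod_cast (show 6 ≤ 2 * D.h by omega)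
      linarith
    refine hθn ?_
    have hcases : μ = 0 ∨ μ = 1 ∨ μ = (D.h : Z) ∨ μ = -1 := by
      have hv := ZMod.val_lt μ
      rw [← ZMod.natCast_zmod_val μ]
      rcases (by omega : μ.val = 0 ∨ μ.val = 1 ∨ μ.val = 2 ∨ μ.val = 3) with e | e | e | e <;> rw [e]
      · simp
      · simp
      · rw [hh2]; simp
      · refine Or.inr (Or.inr (Or.inr ?_))
        rw [eq_neg_iff_add_eq_zero, show ((3 : ℕ) : Z) + 1 = ((4 : ℕ) : Z) by norm_num,
          ZMod.natCast_eq_zero_iff, hh2]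
    rcases hcases with rfl | rfl | rfl | rfl
    · rw [dif, sub_self]
    · exact hP
    · exact hQ'
    · rw [dif, h.mult_neg hθ]; exact hP
  · have h1 := hbal hfix hl hQ
    have h2 := hbal hθ hθn hQ'
    linarith

/-- A constituent sees only `l`. -/
theorem unique {l : A →* ℂˣ} {χ : Cfsg.IrrCharacter X} (hP : h.P (h.lamIrr l) χ ≠ 0)
    {θ : Cfsg.IrrCharacter h.K} (hne : θ ≠ h.lamIrr l) : D2 (h.mult θ χ) = 0 := by
  refine (h.D2_cases θ χ).resolve_right ?_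
  rintro ⟨μ, hμ⟩
  have := Fintype.ofFinite (Cfsg.IrrCharacter h.K)
  have hq : (4 : ℤ) ≤ (q : ℕ) := by exact_mod_cast h.four_le_q
  have hfix := h.lamIrr_fix l
  by_cases hθ : h.Fix θ
  swap
  · have hne' : h.conjU θ ≠ θ := fun e => hθ ((h.fix_iff θ).2 e)
    have hne2 : h.conjU θ ≠ h.lamIrr l := fun e => hne (by
      have e2 : h.conjU (h.conjU θ) = θ := Subtype.ext (funext fun k => by
        show (θ : h.K → ℂ) (h.uK (h.uK k)) = _
        rw [h.uK_uK])
      rw [← e2, e]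
      exact (h.fix_iff _).1 hfix)
    have h3 := Finset.sum_le_sum_of_subset_of_nonneg
      (Finset.subset_univ ({θ, h.conjU θ, h.lamIrr l} : Finset (Cfsg.IrrCharacter h.K)))
      (f := fun θ => D2 (h.mult θ χ)) fun _ _ _ => CyclicVec.D2_nonneg _
    rw [Finset.sum_insert (by simp [Ne.symm hne', hne]), Finset.sum_pair hne2, h.D2_conjU] at h3
    have h4 := h.weight_lt χ
    have h5 := h.D2_of_ne hμ
    have h6 := h.D2_of_ne (ν := 1) hP
    linarith
  obtain ⟨hA, hB⟩ := h.shared hθ hne (ν := 1) hP hμ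
  have hsh : ∀ {χ' : Cfsg.IrrCharacter X}, h.Q (h.lamIrr l) χ' ≠ 0 → h.Q θ χ' = 0 := by
    intro χ' hQ
    by_contra hQ'
    exact hQ' ((h.shared hθ hne hQ hQ').1 hQ).1
  by_cases hQ : h.Q (h.lamIrr l) χ = 0
  · have hQ' := hB hQ
    have hsum := h.PQ_cross (θ := h.lamIrr l) hθ (Ne.symm hne)
    rw [Finset.sum_eq_single χ (fun χ' _ hχ' => ?_) (by simp)] at hsum
    · exact mul_ne_zero hP hQ' hsum
    · by_cases hP' : h.P (h.lamIrr l) χ' = 0
      · rw [hP', zero_mul]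
      · rw [hsh (support_of_inner (h.P_abs hfix) (h.Q_abs hfix) (h.P_norm hfix) (h.PQ_inner hfix)
          hP hQ hχ' hP'), mul_zero]
  · obtain ⟨hQ', hPθ⟩ := hA hQ
    have hsum := h.PQ_cross (θ := θ) hfix hne
    rw [Finset.sum_eq_single χ (fun χ' _ hχ' => ?_) (by simp)] at hsum
    · exact mul_ne_zero hPθ hQ hsum
    · by_cases hP' : h.P θ χ' = 0
      · rw [hP', zero_mul]
      · have hQ2 := support_of_inner (h.P_abs hθ) (h.Q_abs hθ) (h.P_norm hθ) (h.PQ_inner hθ)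
          hPθ hQ' hχ' hP'
        have hQ3 : h.Q (h.lamIrr l) χ' = 0 := by_contra fun e => hQ2 (hsh e)
        rw [hQ3, mul_zero]

/-- The values of a constituent on the sections. -/
theorem chi_sect {l : A →* ℂˣ} {χ : Cfsg.IrrCharacter X} (hP : h.P (h.lamIrr l) χ ≠ 0) {i : Z}
    (hi : i ≠ 0) (k : h.K) :
    (χ : X → ℂ) (h.rp i * k) = h.f (h.lamIrr l) χ i * (h.lamK l k : ℂ) := by
  have := Fintype.ofFinite (Cfsg.IrrCharacter h.K)
  rw [h.expand χ i k, Finset.sum_eq_single (h.lamIrr l)]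
  · rfl
  · intro θ _ hne
    have hconst := CyclicVec.D2_eq_zero (h.unique hP hne)
    rw [h.f_eq, Finset.sum_congr rfl fun ν _ => by rw [hconst ν 0], ← Finset.sum_mul]
    have e := psi_sum D i
    rw [if_neg hi] at e
    rw [e, zero_mul, zero_mul]
  · simp

end RotCent

end CfsgLib.GW.Twist
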