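import Cfsg.Agent.Lib.GW.Twist.InvKleinSetup

/-!
# An involution centraliser with four-group Sylow subgroup and a character: coefficients

A constituent of an invariant linear character restricts to `tK` as a signed multiple of it.
-/

set_option autoImplicit false
set_option linter.unusedSectionVars false
set_option linter.unusedDecidableInType false
set_option maxHeartbeats 800000

namespace CfsgLib.GW.Twist

open CfsgLib.Char
open CfsgLib.Recog.NonCA (eq_one_of_sq_of_odd mem_of_sq_mem Two two_sum_invol four_cases cf cfZ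
  cfZ_cast cf_add_inner cf_norm cf_degree irr_degree_nat isIntegral_hom conj_hom_apply
  sum_conj_mul_hom class_sum isIntegral_natCast isIntegral_intCast conj_mem_cen)
open scoped ComplexConjugate

universe v w

namespace InvTwist

variable {X : Type v} [Group X] {t u n : X} {K F A : Subgroup X}

section Basic

variable (h : InvTwist t u n K F A)
include h

theorem K_comm (k : K) : t * K.subtype k = K.subtype k * t := h.hKt k k.2

theorem D_comm (d : A) : t * A.subtype d = A.subtype d * t := h.hAt d d.2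

theorem F_hom_comm (a b : F) : a * b = b * a := Subtype.ext (h.hFcomm _ a.2 _ b.2)

/-- The inclusion of `A` in `K`. -/
def incl : A →* K := Subgroup.inclusion h.D_le_K

theorem incl_coe (d : A) : (h.incl d : X) = d := rfl

/-- Conjugation by `n` on `A`. -/
def sig : A →* A where
  toFun d := ⟨n * d * n⁻¹, h.hAn d d.2⟩
  map_one' := Subtype.ext (by simp)
  map_mul' a b := Subtype.ext (by simp [mul_assoc])

theorem sig_injective : Function.Injective h.sig := fun a b e => Subtype.ext (by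
  simpa [sig] using congrArg Subtype.val e)

/-- Conjugation by `u` on `K`. -/
def uK : K → K := fun k => ⟨u * k * u⁻¹, h.hKu k k.2⟩

theorem uK_coe (k : K) : (h.uK k : X) = u * k * u⁻¹ := rfl

theorem uK_mul (a b : K) : h.uK (a * b) = h.uK a * h.uK b := Subtype.ext (by
  simp only [uK_coe, Subgroup.coe_mul]; group)

theorem uK_inv (a : K) : h.uK a⁻¹ = (h.uK a)⁻¹ := Subtype.ext (by
  simp only [uK_coe, Subgroup.coe_inv]; group)

theorem uK_uK (k : K) : h.uK (h.uK k) = k := Subtype.ext (by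
  simp only [uK_coe, h.uinv, ← mul_assoc, h.uu', one_mul]
  rw [mul_assoc, h.uu', mul_one])

/-- Conjugation by `u` on `K`, as an equivalence. -/
def uEquiv : K ≃ K := ⟨h.uK, h.uK, h.uK_uK, h.uK_uK⟩

theorem uK_eq_self {k : K} : h.uK k = k ↔ (k : X) ∈ A := by
  rw [h.mem_A, Subtype.ext_iff, uK_coe, mul_inv_eq_iff_eq_mul]
  exact ⟨fun e => ⟨k.2, e⟩, fun e => e.2⟩

theorem t_comm_K (k : K) : t * (k : X) = (k : X) * t := h.K_comm k

/-- Linear characters of `K` invariant under `u` and, on `A`, under `n`. -/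
def Good (l : K →* ℂˣ) : Prop :=
  (∀ k, l (h.uK k) = l k) ∧ ∀ d, l (h.incl (h.sig d)) = l (h.incl d)

theorem good_one : h.Good 1 := ⟨fun _ => rfl, fun _ => rfl⟩

theorem Good.inv_u {l : K →* ℂˣ} (hl : h.Good l) :
    ∀ k k' : K, (k' : X) = u * k * u⁻¹ → l k' = l k := fun k k' e => by
  rw [show k' = h.uK k from Subtype.ext e, hl.1]

theorem fixed_fusion [Finite X] {l : K →* ℂˣ} (hl : h.Good l) {g : X} {d d' : A}
    (e : (d' : X) = g * d * g⁻¹) : l (h.incl d') = l (h.incl d) := by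
  refine h.fusion_hom (hl.inv_u h) (fun a a' ha ea => ?_) d.2 d'.2 e
  rw [show a' = h.incl (h.sig ⟨a, ha⟩) from Subtype.ext ea, hl.2]
  rfl

/-- An invariant character is trivial on elements inverted in `C(t)`. -/
theorem Good.inverted [Finite X] {l : K →* ℂˣ} (hl : h.Good l) {g : X} (hg : g ∈ h.M) {k : K}
    (e : g * k * g⁻¹ = (k : X)⁻¹) : l k = 1 := by
  have e1 : l k⁻¹ = l k := h.M_hom (hl.inv_u h) hg e.symm
  have e2 : l (k * k) = 1 := by rw [map_mul]; nth_rewrite 1 [← e1]; rw [← map_mul, inv_mul_cancel,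
    map_one]
  obtain ⟨m, hm⟩ := h.hKodd
  have e3 : k ^ (2 * m + 1) = 1 := by rw [← hm]; exact pow_card_eq_one'
  rw [← map_one l, ← e3, pow_succ, pow_mul, pow_two, map_mul, map_pow, e2, one_pow, one_mul]

end Basic

section Defs

variable [Fintype X] (h : InvTwist t u n K F A)

open scoped _root_.Classical in
/-- The coefficient of a linear character of `K`. -/
noncomputable def cl (l : K →* ℂˣ) (χ : Cfsg.IrrCharacter X) : ℤ :=
  cfZ h.ht h.K_comm l χ

open scoped _root_.Classical in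
/-- The coefficient on `t A`. -/
noncomputable def cr (l : K →* ℂˣ) (χ : Cfsg.IrrCharacter X) : ℤ :=
  cfZ h.ht h.D_comm (l.comp h.incl) χ

end Defs

section Sums

open scoped _root_.Classical

variable [Fintype X] (h : InvTwist t u n K F A)
include h

theorem cl_cast (l : K →* ℂˣ) (χ : Cfsg.IrrCharacter X) :
    (h.cl l χ : ℂ) = cf t K.subtype (l) (χ : X → ℂ) := cfZ_cast _ _ _ _

theorem cr_cast (l : K →* ℂˣ) (χ : Cfsg.IrrCharacter X) :
    (h.cr l χ : ℂ) = cf t A.subtype (l.comp h.incl) (χ : X → ℂ) := cfZ_cast _ _ _ _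

theorem cl_eq (l : K →* ℂˣ) (χ : Cfsg.IrrCharacter X) :
    (Nat.card K : ℂ) * h.cl l χ = ∑ k : K, (χ : X → ℂ) (t * k) * conj (l k : ℂ) := by
  rw [cl_cast, cf, ← mul_assoc, mul_inv_cancel₀ natCard_ne_zero, one_mul]
  rfl

theorem cr_eq (l : K →* ℂˣ) (χ : Cfsg.IrrCharacter X) :
    (Nat.card A : ℂ) * h.cr l χ = ∑ d : A, (χ : X → ℂ) (t * d) * conj (l (h.incl d) : ℂ) := by
  rw [cr_cast, cf, ← mul_assoc, mul_inv_cancel₀ natCard_ne_zero, one_mul]
  rfl

theorem card_prod_image {Γ : Type w} [Group Γ] [Fintype Γ] (S : Finset X) (hS : ∀ w ∈ S, w ∈ h.W)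
    (ι : Γ →* X) (hinj : Function.Injective ι) (hK : ∀ γ, ι γ ∈ K) :
    ((S ×ˢ (Finset.univ : Finset Γ)).image fun p => p.1 * ι p.2).card = S.card * Nat.card Γ := by
  rw [Finset.card_image_of_injOn, Finset.card_product, Finset.card_univ, Nat.card_eq_fintype_card]
  rintro ⟨w, γ⟩ hp ⟨w', γ'⟩ hp' e
  simp only [Finset.coe_product, Set.mem_prod, Finset.mem_coe] at hp hp'
  have e' : w * ι γ = w' * ι γ' := e
  have h1 : w'⁻¹ * w = ι γ' * (ι γ)⁻¹ := by
    calc w'⁻¹ * w = w'⁻¹ * (w * ι γ) * (ι γ)⁻¹ := by group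
      _ = w'⁻¹ * (w' * ι γ') * (ι γ)⁻¹ := by rw [e']
      _ = ι γ' * (ι γ)⁻¹ := by group
  have h2 : w'⁻¹ * w = 1 := h.W_inter_K
    (by rw [h.W_inv (hS _ hp'.1)]; exact h.W_mul (hS _ hp'.1) (hS _ hp.1))
    (h1 ▸ mul_mem (hK γ') (inv_mem (hK γ)))
  have h3 : w' = w := inv_mul_eq_one.1 h2
  rw [h3, mul_right_inj] at e'
  exact Prod.ext h3.symm (hinj e')

theorem M_filter :
    (Finset.univ.filter fun g : X => g * t * g⁻¹ = t) =
      ((({1, t, u, t * u} : Finset X)) ×ˢ (Finset.univ : Finset K)).image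
        fun p => p.1 * K.subtype p.2 := by
  ext g
  simp only [Finset.mem_filter, Finset.mem_univ, true_and, and_true, Finset.mem_image,
    Finset.mem_product, Finset.mem_insert, Finset.mem_singleton, Prod.exists]
  rw [← h.mem_M_conj, h.mem_M]
  constructor
  · rintro ⟨w, hw, k, hk, rfl⟩
    exact ⟨w, ⟨k, hk⟩, h.mem_W.1 hw, rfl⟩
  · rintro ⟨w, k, hw, rfl⟩
    exact ⟨w, h.mem_W.2 hw, k, k.2, rfl⟩

theorem card_W : ({1, t, u, t * u} : Finset X).card = 4 := by
  have h1 : (1 : X) ≠ t := Ne.symm h.t_ne_one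
  have h2 : (1 : X) ≠ u := Ne.symm h.u_ne_one
  have h3 : (1 : X) ≠ t * u := fun e => h.hne (by
    calc t = t * u * u := by rw [mul_assoc, h.uu', mul_one]
      _ = u := by rw [← e, one_mul])
  have h4 : t ≠ t * u := fun e => h.u_ne_one (mul_left_cancel ((mul_one t).trans e)).symm
  have h5 : u ≠ t * u := fun e => h.t_ne_one (mul_right_cancel ((one_mul u).trans e)).symm
  simp [h1, h2, h3, h4, h5, h.hne]

theorem card_M : (Finset.univ.filter fun g : X => g * t * g⁻¹ = t).card = 4 * Nat.card K := by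
  rw [h.M_filter, h.card_prod_image _ (fun w hw => ?_) _ K.subtype_injective (fun k => k.2),
    h.card_W]
  simpa [h.mem_W] using hw

variable [Fintype (Cfsg.IrrCharacter X)]

theorem cl_norm {l : K →* ℂˣ} (hl : h.Good l) :
    ∑ χ : Cfsg.IrrCharacter X, h.cl l χ * h.cl l χ = 4 := by
  have hn := cf_norm h.ht K.subtype_injective h.K_comm h.hKodd l l
    (fun g hg k => ⟨⟨g * k * g⁻¹, h.M_conj_K (h.mem_M_conj.2 hg) k.2⟩, rfl⟩)
  simp only [← h.cl_cast, map_intCast] at hn
  apply Int.cast_injective (α := ℂ)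
  push_cast
  rw [hn, Finset.filter_congr (q := fun g : X => g * t * g⁻¹ = t)
    (fun g _ => and_iff_left_of_imp fun hg γ γ' e => h.M_hom (hl.inv_u h) (h.mem_M_conj.2 hg) e),
    h.card_M]
  have : (Nat.card K : ℂ) ≠ 0 := natCard_ne_zero
  push_cast
  field_simp

theorem cl_degree (l : K →* ℂˣ) :
    ∑ χ : Cfsg.IrrCharacter X, (χ : X → ℂ) 1 * (h.cl l χ : ℂ) = 0 := by
  simp only [h.cl_cast]
  exact cf_degree h.ht K.subtype_injective h.K_comm h.hKodd _

theorem cl_cases {l : K →* ℂˣ} (hl : h.Good l) :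
    (∀ χ, h.cl l χ = 0 ∨ h.cl l χ = 1 ∨ h.cl l χ = -1) ∧
      (Finset.univ.filter fun χ => h.cl l χ ≠ 0).card = 4 := by
  choose d hd0 hd using fun χ : Cfsg.IrrCharacter X => irr_degree_nat χ
  refine four_cases (fun χ => h.cl l χ) (fun χ => (d χ : ℤ)) (fun χ => by exact_mod_cast hd0 χ)
    (h.cl_norm hl) ?_
  apply Int.cast_injective (α := ℂ)
  push_cast
  simp only [← hd]
  exact h.cl_degree l

omit [Fintype (Cfsg.IrrCharacter X)] in
/-- Sums over `K` of functions invariant under `u` are sums over `A` modulo two. -/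
theorem two_sum_K_sub (φ : K → ℂ) (hinv : ∀ k, φ (h.uK k) = φ k)
    (hint : ∀ k, IsIntegral ℤ (φ k)) :
    Two (∑ k : K, φ k - ∑ d : A, φ ⟨d, h.D_le_K d.2⟩) := by
  have e : ∑ d : A, φ ⟨d, h.D_le_K d.2⟩ =
      ∑ k ∈ Finset.univ.filter (fun k : K => (k : X) ∈ A), φ k := by
    refine Finset.sum_bij (fun d _ => (⟨d, h.D_le_K d.2⟩ : K))
      (fun d _ => Finset.mem_filter.2 ⟨Finset.mem_univ _, d.2⟩)
      (fun a _ b _ e => Subtype.ext (congrArg (fun k : K => (k : X)) e))
      (fun k hk => ⟨⟨k, (Finset.mem_filter.1 hk).2⟩, Finset.mem_univ _, rfl⟩) (fun d _ => rfl)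
  rw [e, ← Finset.sum_filter_add_sum_filter_not Finset.univ (fun k : K => (k : X) ∈ A),
    add_sub_cancel_left]
  refine two_sum_invol _ h.uK ?_ (fun k _ => h.uK_uK k) ?_ (fun k _ => hinv k) (fun k _ => hint k)
  · intro k hk
    simp only [Finset.mem_filter, Finset.mem_univ, true_and] at hk ⊢
    intro e
    refine hk ?_
    rw [← h.uK_uK k, show h.uK (h.uK k) = h.uK k from h.uK_eq_self.2 e]
    exact e
  · intro k hk e
    exact (Finset.mem_filter.1 hk).2 (h.uK_eq_self.1 e)

omit [Fintype (Cfsg.IrrCharacter X)] in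
theorem chi_t_uK (χ : Cfsg.IrrCharacter X) (k : K) :
    (χ : X → ℂ) (t * h.uK k) = (χ : X → ℂ) (t * k) := by
  have e : t * (h.uK k : X) = u * (t * k) * u⁻¹ := by
    rw [uK_coe, ← mul_assoc, ← mul_assoc, ← mul_assoc, h.htu]
  rw [e]
  exact irr_isClassFunction χ.2 _ u

omit [Fintype (Cfsg.IrrCharacter X)] in
theorem cr_cl_even {l : K →* ℂˣ} (hl : h.Good l) (χ : Cfsg.IrrCharacter X) : Even (h.cr l χ - h.cl l χ) := by
  have h1 := h.two_sum_K_sub (fun k => (χ : X → ℂ) (t * k) * conj (l k : ℂ))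
    (fun k => by rw [h.chi_t_uK, hl.1]) (fun k => (CfsgLib.BlockB.irr_isIntegral χ _).mul (by
      rw [conj_hom_apply, ← map_inv]; exact isIntegral_hom _ _))
  rw [← h.cl_eq, Finset.sum_congr rfl fun (d : A) _ => show
      (χ : X → ℂ) (t * ((⟨d, h.D_le_K d.2⟩ : K) : X)) *
        conj (l ⟨d, h.D_le_K d.2⟩ : ℂ) = (χ : X → ℂ) (t * d) * conj (l (h.incl d) : ℂ) from rfl,
    ← h.cr_eq] at h1
  have h2 : Even ((Nat.card K : ℤ) * h.cl l χ - (Nat.card A : ℤ) * h.cr l χ) :=
    Two.even (by push_cast; exact h1)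
  have hK : Odd (Nat.card K : ℤ) := (Int.odd_coe_nat _).2 h.hKodd
  have hD : Odd (Nat.card A : ℤ) := (Int.odd_coe_nat _).2 h.hAodd
  rw [Int.even_sub, Int.even_mul, Int.even_mul] at h2
  rw [Int.even_sub]
  have a := Int.not_even_iff_odd.2 hK
  have b := Int.not_even_iff_odd.2 hD
  tauto

theorem cr_odd {l : K →* ℂˣ} (hg : h.Good l) {χ : Cfsg.IrrCharacter X} (hl : h.cl l χ ≠ 0) :
    Odd (h.cr l χ) := by
  have := Int.even_iff.1 (h.cr_cl_even hg χ)
  rw [Int.odd_iff]
  rcases (h.cl_cases hg).1 χ with a | a | a <;> omega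

end Sums

open scoped _root_.Classical

variable [Fintype X] (h : InvTwist t u n K F A)
include h

theorem coord_int (θ : Cfsg.IrrCharacter K) (χ : Cfsg.IrrCharacter X) :
    ∃ m : ℤ, Cfsg.classInner (fun k : K => (χ : X → ℂ) (t * k)) (θ : K → ℂ) = m := by
  obtain ⟨k, m, hk, -⟩ := coord_add_inner h.ht h.K_comm θ χ
  exact ⟨2 * k - m, by push_cast; exact hk⟩

/-- The coefficient of `θ` in `k ↦ χ (t k)`. -/
noncomputable def co (θ : Cfsg.IrrCharacter K) (χ : Cfsg.IrrCharacter X) : ℤ :=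
  (h.coord_int θ χ).choose

theorem co_cast (θ : Cfsg.IrrCharacter K) (χ : Cfsg.IrrCharacter X) :
    (h.co θ χ : ℂ) = Cfsg.classInner (fun k : K => (χ : X → ℂ) (t * k)) (θ : K → ℂ) :=
  (h.coord_int θ χ).choose_spec.symm

theorem chi_tK_class (χ : Cfsg.IrrCharacter X) :
    Cfsg.IsClassFunction K (fun k : K => (χ : X → ℂ) (t * k)) := by
  intro a g
  show (χ : X → ℂ) (t * ((g * a * g⁻¹ : K) : X)) = (χ : X → ℂ) (t * a)
  have e : t * ((g * a * g⁻¹ : K) : X) = g * (t * a) * (g : X)⁻¹ := by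
    simp only [Subgroup.coe_mul, Subgroup.coe_inv, ← mul_assoc, h.t_comm_K g]
  rw [e]
  exact irr_isClassFunction χ.2 _ _

theorem expand [Fintype (Cfsg.IrrCharacter K)] (χ : Cfsg.IrrCharacter X) (k : K) :
    (χ : X → ℂ) (t * k) = ∑ θ : Cfsg.IrrCharacter K, (h.co θ χ : ℂ) * (θ : K → ℂ) k := by
  simp only [h.co_cast]
  exact classFunction_apply_eq_sum (h.chi_tK_class χ) k

/-- The linear character `l` as an irreducible character. -/
noncomputable def lamIrr (_h : InvTwist t u n K F A) (l : K →* ℂˣ) : Cfsg.IrrCharacter K :=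
  ⟨fun k => (l k : ℂ), isIrrCharacter_linear l⟩

theorem co_lam (l : K →* ℂˣ) (χ : Cfsg.IrrCharacter X) : h.co (h.lamIrr l) χ = h.cl l χ := by
  apply Int.cast_injective (α := ℂ)
  rw [h.co_cast, h.cl_cast, classInner_def, cf]
  rfl

theorem normSq_sum_lt (χ : Cfsg.IrrCharacter X) :
    ∑ k : K, Complex.normSq ((χ : X → ℂ) (t * k)) < 4 * (Nat.card K : ℝ) := by
  set nf : X → ℝ := fun y => Complex.normSq ((χ : X → ℂ) y) with hnf
  have hnn : ∀ y, 0 ≤ nf y := fun y => Complex.normSq_nonneg _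
  set π : X × K → X := fun p => p.1 * (t * p.2) * p.1⁻¹ with hπ
  have hfib : ∀ y, ((Finset.univ.filter fun p : X × K => π p = y).card : ℝ) ≤
      4 * (Nat.card K : ℝ) := by
    intro y
    rcases (Finset.univ.filter fun p : X × K => π p = y).eq_empty_or_nonempty with e | ⟨p0, hp0⟩
    · rw [e, Finset.card_empty, Nat.cast_zero]; positivity
    have e0 : π p0 = y := (Finset.mem_filter.1 hp0).2
    have hcard : (Finset.univ.filter fun p : X × K => π p = y).card ≤
        (Finset.univ.filter fun g : X => g * t * g⁻¹ = t).card := by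
      refine Finset.card_le_card_of_injOn (fun p => p0.1⁻¹ * p.1) ?_ ?_
      · intro p hp
        have e1 : π p = y := (Finset.mem_filter.1 hp).2
        refine Finset.mem_filter.2 ⟨Finset.mem_univ _, ?_⟩
        refine conj_mem_cen h.ht K.subtype_injective h.K_comm h.hKodd
          (γ := p.2) (γ' := p0.2) ?_
        calc p0.1⁻¹ * p.1 * (t * (p.2 : X)) * (p0.1⁻¹ * p.1)⁻¹
            = p0.1⁻¹ * π p * p0.1 := by rw [hπ]; group
          _ = p0.1⁻¹ * π p0 * p0.1 := by rw [e1, e0]
          _ = t * (p0.2 : X) := by rw [hπ]; group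
      · intro p hp q hq e
        have e1 : π p = π q := (Finset.mem_filter.1 hp).2.trans (Finset.mem_filter.1 hq).2.symm
        have e2 : p.1 = q.1 := mul_left_cancel e
        refine Prod.ext e2 (Subtype.ext ?_)
        rw [hπ] at e1
        simp only [e2, mul_left_inj, mul_right_inj] at e1
        exact e1
    rw [h.card_M] at hcard
    exact_mod_cast hcard
  have hpair : ∑ p : X × K, nf (π p) =
      (Nat.card X : ℝ) * ∑ k : K, nf (t * k) := by
    rw [Fintype.sum_prod_type, Nat.card_eq_fintype_card, ← nsmul_eq_mul, ← Finset.card_univ,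
      ← Finset.sum_const]
    refine Finset.sum_congr rfl fun g _ => Finset.sum_congr rfl fun k _ => ?_
    simp only [hnf, hπ, irr_isClassFunction χ.2 (t * (k : X)) g]
  have htot : ∑ y : X, nf y = (Nat.card X : ℝ) := by
    have h1 := irr_classInner_self χ.2
    rw [classInner_def, inv_mul_eq_iff_eq_mul₀ natCard_ne_zero, mul_one] at h1
    apply Complex.ofReal_injective
    push_cast
    rw [← h1]
    exact Finset.sum_congr rfl fun y _ => (Complex.mul_conj _).symm
  have h1mem : (1 : X) ∉ Finset.univ.image π := by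
    intro e
    obtain ⟨⟨g, k⟩, -, e⟩ := Finset.mem_image.1 e
    have e' : t * (k : X) = 1 := conj_eq_one_iff.1 e
    have htk : t ∈ K := by
      exact (congrArg (· ∈ K) (eq_inv_of_mul_eq_one_left e')).mpr (inv_mem k.2)
    exact h.t_ne_one (h.W_inter_K (h.mem_W.2 (Or.inr (Or.inl rfl))) htk)
  have hpos : 0 < nf 1 := Complex.normSq_pos.2 (irr_apply_one_ne_zero χ.2)
  have himg : ∑ y ∈ Finset.univ.image π, nf y < (Nat.card X : ℝ) := by
    rw [← htot]
    exact Finset.sum_lt_sum_of_subset (Finset.subset_univ _) (Finset.mem_univ (1 : X)) h1mem hpos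
      fun y _ _ => hnn y
  have hle : ∑ p : X × K, nf (π p) ≤
      4 * (Nat.card K : ℝ) * ∑ y ∈ Finset.univ.image π, nf y := by
    rw [Finset.sum_comp, Finset.mul_sum]
    refine Finset.sum_le_sum fun y _ => ?_
    rw [nsmul_eq_mul]
    exact mul_le_mul_of_nonneg_right (hfib y) (hnn y)
  have hXpos : (0 : ℝ) < Nat.card X := by exact_mod_cast Nat.card_pos
  have hKpos : (0 : ℝ) < Nat.card K := by exact_mod_cast Nat.card_pos
  rw [hpair] at hle
  exact lt_of_mul_lt_mul_left (lt_of_le_of_lt hle (by nlinarith)) hXpos.le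

theorem co_sq_lt [Fintype (Cfsg.IrrCharacter K)] (χ : Cfsg.IrrCharacter X) :
    ∑ θ : Cfsg.IrrCharacter K, h.co θ χ * h.co θ χ < 4 := by
  have h1 := classInner_eq_sum_mul (h.chi_tK_class χ) (fun k : K => (χ : X → ℂ) (t * k))
  simp only [← h.co_cast, map_intCast] at h1
  rw [classInner_def, inv_mul_eq_iff_eq_mul₀ natCard_ne_zero] at h1
  have h2 : ((∑ k : K, Complex.normSq ((χ : X → ℂ) (t * k)) : ℝ) : ℂ) =
      (((Nat.card K : ℝ) * (∑ θ : Cfsg.IrrCharacter K, h.co θ χ * h.co θ χ : ℤ) : ℝ) : ℂ) := by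
    push_cast
    rw [← h1]
    exact Finset.sum_congr rfl fun y _ => (Complex.mul_conj _).symm
  have h3 := h.normSq_sum_lt χ
  rw [Complex.ofReal_injective h2, mul_comm (4 : ℝ)] at h3
  have h4 := lt_of_mul_lt_mul_left h3 (by positivity)
  exact_mod_cast h4

theorem four_dvd_card : 4 ∣ Nat.card X := by
  refine Dvd.dvd.trans ?_ (Subgroup.card_subgroup_dvd_card h.M)
  refine ⟨Nat.card K, ?_⟩
  rw [← h.card_M, Nat.card_eq_fintype_card]
  exact Fintype.card_of_subtype _ fun x => by simp [h.mem_M_conj]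

/-- The class multiplication sum modulo four is a sum over `M`. -/
theorem four_mod (χ : Cfsg.IrrCharacter X) {z x : X} (hz : z * t = t * z) (hx : x * t = t * x) :
    ∃ r : ℂ, IsIntegral ℤ r ∧ ∑ g : X, (χ : X → ℂ) (z * (g * x * g⁻¹)) =
      ∑ g ∈ Finset.univ.filter (fun g : X => g * t * g⁻¹ = t), (χ : X → ℂ) (z * (g * x * g⁻¹)) +
        4 * r := by
  set ff : X → ℂ := fun g => (χ : X → ℂ) (z * (g * x * g⁻¹)) with hff
  set S := Finset.univ.filter (fun g : X => ¬ g * t * g⁻¹ = t) with hS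
  set q : X → Finset X := fun g => {g, t * g, g * t, t * g * t} with hq
  have hR : ∀ g, ff (g * t) = ff g := by
    intro g
    simp only [hff]
    refine congrArg (χ : X → ℂ) (congrArg (z * ·) ?_)
    calc g * t * x * (g * t)⁻¹ = g * (t * x) * t⁻¹ * g⁻¹ := by group
      _ = g * x * g⁻¹ := by rw [← hx]; group
  have hL : ∀ g, ff (t * g) = ff g := by
    intro g
    simp only [hff]
    rw [← irr_isClassFunction χ.2 (z * (g * x * g⁻¹)) t]
    refine congrArg (χ : X → ℂ) ?_
    calc z * (t * g * x * (t * g)⁻¹) = (z * t) * (g * x * g⁻¹) * t⁻¹ := by group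
      _ = t * (z * (g * x * g⁻¹)) * t⁻¹ := by rw [hz]; group
  have htt := h.tt
  have hmemS : ∀ {g : X}, g ∈ S ↔ g * t ≠ t * g := by
    intro g
    simp [hS, mul_inv_eq_iff_eq_mul]
  have hinvL : ∀ g, q (t * g) = q g := by
    intro g
    ext a
    simp only [hq, Finset.mem_insert, Finset.mem_singleton, ← mul_assoc, htt, one_mul]
    tauto
  have hinvR : ∀ g, q (g * t) = q g := by
    intro g
    ext a
    simp only [hq, Finset.mem_insert, Finset.mem_singleton, ← mul_assoc, mul_assoc _ t t, htt,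
      mul_one]
    tauto
  have hclosed : ∀ g, ∀ a ∈ q g, q a = q g ∧ ff a = ff g := by
    intro g a ha
    simp only [hq, Finset.mem_insert, Finset.mem_singleton] at ha
    rcases ha with rfl | rfl | rfl | rfl
    · exact ⟨rfl, rfl⟩
    · exact ⟨hinvL _, hL _⟩
    · exact ⟨hinvR _, hR _⟩
    · exact ⟨(hinvR _).trans (hinvL _), (hR _).trans (hL _)⟩
  have hsubS : ∀ g ∈ S, ∀ a ∈ q g, a ∈ S := by
    intro g hg a ha
    rw [hmemS] at hg ⊢
    simp only [hq, Finset.mem_insert, Finset.mem_singleton] at ha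
    rcases ha with rfl | rfl | rfl | rfl <;> intro e <;> apply hg
    · exact e
    · rw [mul_assoc] at e; exact mul_left_cancel e
    · rw [← mul_assoc] at e; exact mul_right_cancel e
    · have e' : t * (g * t) * t = t * (t * g) * t := by
        simpa [mul_assoc] using e
      exact mul_left_cancel (mul_right_cancel e')
  have hcard : ∀ g ∈ S, (q g).card = 4 := by
    intro g hg
    rw [hmemS] at hg
    have h1 : t * g ≠ g := fun e => h.t_ne_one (mul_eq_right.1 e)
    have h2 : g * t ≠ g := fun e => h.t_ne_one (mul_eq_left.1 e)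
    have h3 : t * g * t ≠ g := fun e => hg (by
      conv_lhs => rw [← e]
      rw [mul_assoc (t * g) t t, htt, mul_one])
    have h4 : t * g * t ≠ t * g := fun e => h.t_ne_one (mul_eq_left.1 e)
    have h5 : t * g * t ≠ g * t := fun e => h1 (mul_right_cancel e)
    simp [hq, Ne.symm h1, Ne.symm h2, Ne.symm h3, Ne.symm h4, Ne.symm h5, Ne.symm hg]
  have hint : ∀ g, IsIntegral ℤ (ff g) := fun g => CfsgLib.BlockB.irr_isIntegral χ _
  have hfour : ∃ r : ℂ, IsIntegral ℤ r ∧ ∑ g ∈ S, ff g = 4 * r := by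
    have hterm : ∀ T ∈ S.image q, ∃ r : ℂ, IsIntegral ℤ r ∧
        ∑ g ∈ S.filter (fun g => q g = T), ff g = 4 * r := by
      intro T hT
      obtain ⟨g, hg, rfl⟩ := Finset.mem_image.1 hT
      refine ⟨ff g, hint g, ?_⟩
      have e : S.filter (fun a => q a = q g) = q g := by
        ext a
        simp only [Finset.mem_filter]
        refine ⟨fun ha => ha.2 ▸ by simp [hq], fun ha => ⟨hsubS g hg a ha, (hclosed g a ha).1⟩⟩
      rw [e, Finset.sum_congr rfl fun a ha => (hclosed g a ha).2, Finset.sum_const, hcard g hg,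
        nsmul_eq_mul, Nat.cast_ofNat]
    choose r hr hr' using hterm
    refine ⟨∑ T ∈ (S.image q).attach, r T.1 T.2, IsIntegral.sum _ fun T _ => hr _ _, ?_⟩
    rw [← Finset.sum_fiberwise_of_maps_to (t := S.image q) (g := q)
      (fun g hg => Finset.mem_image_of_mem q hg), ← Finset.sum_attach, Finset.mul_sum]
    exact Finset.sum_congr rfl fun T _ => hr' _ _
  obtain ⟨r, hr, hr'⟩ := hfour
  refine ⟨r, hr, ?_⟩
  rw [← hr', hS, Finset.sum_filter_add_sum_filter_not]

theorem deg_odd [Fintype (Cfsg.IrrCharacter X)] {l : K →* ℂˣ} (hgl : h.Good l) {χ : Cfsg.IrrCharacter X}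
    (hl : h.cl l χ ≠ 0) {d : ℕ} (hd : (χ : X → ℂ) 1 = d) : Odd d := by
  rw [← Nat.not_even_iff_odd]
  rintro ⟨m, rfl⟩
  have : Fact (Nat.Prime 2) := ⟨Nat.prime_two⟩
  obtain ⟨P, hP⟩ := h.hsyl
  have hval : ∀ a : A, Two ((χ : X → ℂ) (t * a)) := by
    intro a
    have hle : (P : Subgroup X) ≤ Subgroup.centralizer ({t * (a : X)} : Set X) := by
      rw [hP, sup_le_iff, Subgroup.zpowers_le, Subgroup.zpowers_le,
        Subgroup.mem_centralizer_singleton_iff, Subgroup.mem_centralizer_singleton_iff]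
      exact ⟨((Commute.refl t).mul_right (show Commute t a from h.hAt _ a.2)).eq,
        (((show Commute t u from h.htu).symm).mul_right (show Commute u a from h.hAu _ a.2)).eq⟩
    have hodd : Odd (Subgroup.centralizer ({t * (a : X)} : Set X)).index := by
      rw [← Nat.not_even_iff_odd, even_iff_two_dvd]
      exact fun e => P.not_dvd_index (e.trans (Subgroup.index_dvd_of_le hle))
    have hc := CfsgLib.BlockB.irr_centralChar_isIntegral χ (t * (a : X))
    refine Two.cancel_odd ((Int.odd_coe_nat _).2 hodd) (CfsgLib.BlockB.irr_isIntegral χ _)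
      ⟨(m : ℂ) * Cfsg.centralChar (χ : X → ℂ) (t * (a : X)), (isIntegral_natCast m).mul hc, ?_⟩
    have hne : (χ : X → ℂ) 1 ≠ 0 := irr_apply_one_ne_zero χ.2
    rw [Cfsg.centralChar, hd] at *
    push_cast at hne ⊢
    have hm : (m : ℂ) ≠ 0 := fun e => hne (by rw [e, add_zero])
    field_simp
    ring
  have hs : Two (∑ a : A, (χ : X → ℂ) (t * a) * conj (l (h.incl a) : ℂ)) :=
    Two.sum _ fun a _ => by
      rw [mul_comm]
      exact (hval a).mul_left (by rw [conj_hom_apply, ← map_inv]; exact isIntegral_hom _ _)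
  rw [← h.cr_eq] at hs
  have he : Even ((Nat.card A : ℤ) * h.cr l χ) := Two.even (by push_cast; exact hs)
  rw [Int.even_mul] at he
  have a := Int.not_even_iff_odd.2 ((Int.odd_coe_nat _).2 h.hAodd)
  have b := Int.not_even_iff_odd.2 (h.cr_odd hgl hl)
  tauto

/-- Coefficients at characters of `K` moved by `u` are even. -/
theorem co_even_of_moved [Fintype (Cfsg.IrrCharacter K)] {χ : Cfsg.IrrCharacter X} {d : ℕ}
    (hd : (χ : X → ℂ) 1 = d) (hodd : Odd d) (θ θ' : Cfsg.IrrCharacter K)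
    (hθ' : ∀ k, (θ' : K → ℂ) k = (θ : K → ℂ) (h.uK k)) (hne : θ' ≠ θ) :
    Even (h.co θ χ) := by
  set c := h.co θ χ with hc
  obtain ⟨e, he0, he⟩ := irr_degree_nat θ
  have he' : (θ' : K → ℂ) 1 = e := by
    rw [hθ', show h.uK 1 = 1 from h.uK_eq_self.2 (one_mem A), he]
  have hco : h.co θ' χ = c := by
    apply Int.cast_injective (α := ℂ)
    rw [hc, h.co_cast, h.co_cast, classInner_def, classInner_def]
    refine congrArg _ (Fintype.sum_equiv h.uEquiv _ _ fun k => ?_)
    show _ = (χ : X → ℂ) (t * (h.uK k : X)) * conj ((θ : K → ℂ) (h.uK k))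
    rw [h.chi_t_uK, hθ']
  obtain ⟨q, hq⟩ := CfsgLib.BlockB.irr_degree_dvd_card θ
  have hcd : (Cfsg.charDegree (θ : K → ℂ) : ℂ) = e :=
    (CfsgLib.BlockB.irr_degree_cast θ).trans he
  rw [show Cfsg.charDegree (θ : K → ℂ) = e from by exact_mod_cast hcd] at hq
  have hqodd : Odd q := (Nat.odd_mul.1 (hq ▸ h.hKodd)).2
  have hconv : ∀ (η : Cfsg.IrrCharacter K) (y : K),
      ∑ x : K, (η : K → ℂ) x⁻¹ * (χ : X → ℂ) (t * ((y * x : K) : X)) =
        (h.co η χ : ℂ) * ((Nat.card K : ℂ) / (η : K → ℂ) 1 * (η : K → ℂ) y) := by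
    intro η y
    simp only [h.expand χ, Finset.mul_sum]
    rw [Finset.sum_comm, Finset.sum_eq_single η]
    · simp only [mul_left_comm ((η : K → ℂ) _)]
      rw [← Finset.mul_sum, sum_irr_conv, irr_classInner_self η.2, mul_one]
    · intro η' _ hη
      simp only [mul_left_comm ((η : K → ℂ) _)]
      rw [← Finset.mul_sum, sum_irr_conv,
        irr_classInner_ne η.2 η'.2 (fun e' => hη (Subtype.ext e').symm), mul_zero, zero_div,
        zero_mul, mul_zero]
    · simp
  obtain ⟨m4, hm4⟩ := h.four_dvd_card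
  have hpt : ∀ y : K, Two ((c : ℂ) * ((θ : K → ℂ) y + (θ' : K → ℂ) y)) := by
    intro y
    choose r hr hr' using fun x : K => h.four_mod χ (z := t * (y : X)) (x := (x : X))
      (by rw [mul_assoc, ← h.t_comm_K y])
      (h.t_comm_K x).symm
    set Φ : X → ℂ := fun g => ∑ x : K, (θ : K → ℂ) x⁻¹ *
      (χ : X → ℂ) (t * (y : X) * (g * x * g⁻¹)) with hΦ
    have hL : ∑ g : X, Φ g = (Nat.card X : ℂ) * (χ : X → ℂ) (t * y) *
        (∑ x : K, (θ : K → ℂ) x⁻¹ * (χ : X → ℂ) x) / d := by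
      simp only [hΦ]
      rw [Finset.sum_comm, Finset.mul_sum, Finset.sum_div]
      refine Finset.sum_congr rfl fun x _ => ?_
      rw [← Finset.mul_sum, CfsgLib.BlockB.sum_irr_mul_conj, hd]
      ring
    have hR : ∑ g : X, Φ g = ∑ g ∈ Finset.univ.filter (fun g : X => g * t * g⁻¹ = t), Φ g +
        4 * ∑ x : K, (θ : K → ℂ) x⁻¹ * r x := by
      simp only [hΦ]
      rw [Finset.sum_comm, Finset.sum_comm (s := Finset.univ.filter _), Finset.mul_sum,
        ← Finset.sum_add_distrib]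
      refine Finset.sum_congr rfl fun x _ => ?_
      rw [← Finset.mul_sum, ← Finset.mul_sum, hr' x]
      ring
    have hW : ∀ w ∈ h.W, ∀ k : K, Φ (w * k) = Φ w := by
      intro w _ k
      simp only [hΦ]
      refine Fintype.sum_equiv (MulAut.conj k).toEquiv _ _ fun x => ?_
      simp only [MulEquiv.toEquiv_eq_coe, MulEquiv.coe_toEquiv, MulAut.conj_apply,
        Subgroup.coe_mul, Subgroup.coe_inv]
      rw [show (k * x * k⁻¹)⁻¹ = k * x⁻¹ * k⁻¹ by group, irr_isClassFunction θ.2]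
      congr 2
      group
    have hM : ∑ g ∈ Finset.univ.filter (fun g : X => g * t * g⁻¹ = t), Φ g =
        (Nat.card K : ℂ) * (Φ 1 + Φ t + Φ u + Φ (t * u)) := by
      have hinj := Finset.card_image_iff.1 (show (((({1, t, u, t * u} : Finset X)) ×ˢ
          (Finset.univ : Finset K)).image fun p => p.1 * K.subtype p.2).card =
          ((({1, t, u, t * u} : Finset X)) ×ˢ (Finset.univ : Finset K)).card by
        rw [← h.M_filter, h.card_M, Finset.card_product, h.card_W, Finset.card_univ,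
          ← Nat.card_eq_fintype_card])
      rw [h.M_filter, Finset.sum_image hinj, Finset.sum_product,
        Finset.sum_congr rfl fun w hw => show
          ∑ k : K, Φ (w * K.subtype k) = (Nat.card K : ℂ) * Φ w by
          simp only [Subgroup.coe_subtype]
          rw [Finset.sum_congr rfl fun k _ => hW w (by simpa [h.mem_W] using hw) k,
            Finset.sum_const, Finset.card_univ, nsmul_eq_mul, Nat.card_eq_fintype_card],
        ← Finset.mul_sum]
      congr 1
      have h1 : (1 : X) ≠ t := Ne.symm h.t_ne_one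
      have h2 : (1 : X) ≠ u := Ne.symm h.u_ne_one
      have h3 : (1 : X) ≠ t * u := fun e => h.hne (by
        calc t = t * u * u := by rw [mul_assoc, h.uu', mul_one]
          _ = u := by rw [← e, one_mul])
      have h4 : t ≠ t * u := fun e => h.u_ne_one (mul_eq_left.1 e.symm)
      have h5 : u ≠ t * u := fun e => h.t_ne_one (mul_eq_right.1 e.symm)
      rw [Finset.sum_insert (by simp [h1, h2, h3]), Finset.sum_insert (by simp [h.hne, h4]),
        Finset.sum_pair h5]
      ring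
    have h1 : Φ 1 = (c : ℂ) * ((Nat.card K : ℂ) / e * (θ : K → ℂ) y) := by
      simp only [hΦ]
      rw [← he, hc, ← hconv θ y]
      exact Finset.sum_congr rfl fun x _ => by simp [mul_assoc]
    have hu : Φ u = (c : ℂ) * ((Nat.card K : ℂ) / e * (θ' : K → ℂ) y) := by
      simp only [hΦ]
      rw [← he', ← hco, ← hconv θ' y]
      refine (Fintype.sum_equiv h.uEquiv _ _ fun z => ?_).symm
      show _ = (θ : K → ℂ) (h.uK z)⁻¹ * _
      rw [hθ', ← h.uK_inv]
      congr 2
      rw [Subgroup.coe_mul, mul_assoc, ← h.uK_coe]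
      exact congrArg (fun k : K => (χ : X → ℂ) (t * ((y : X) * (k : X)))) (h.uK_uK z).symm
    have htconj : ∀ z : K, t * (z : X) * t⁻¹ = z := fun z => by
      rw [h.t_comm_K z, mul_inv_cancel_right]
    have ht' : Φ t = Φ 1 := by
      simp only [hΦ, htconj]
      simp
    have htu : Φ (t * u) = Φ u := by
      simp only [hΦ]
      refine Finset.sum_congr rfl fun x _ => ?_
      rw [show t * u * (x : X) * (t * u)⁻¹ = t * (h.uK x : X) * t⁻¹ by rw [uK_coe]; group,
        htconj, uK_coe]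
    have hdc : (d : ℂ) ≠ 0 := by
      exact_mod_cast hodd.pos.ne'
    have hec : (e : ℂ) ≠ 0 := by exact_mod_cast he0.ne'
    have hKc : (Nat.card K : ℂ) = e * q := by exact_mod_cast hq
    set S := ∑ x : K, (θ : K → ℂ) x⁻¹ * (χ : X → ℂ) x with hS
    set R := ∑ x : K, (θ : K → ℂ) x⁻¹ * r x with hRdef
    have hX : (Nat.card X : ℂ) = 4 * m4 := by exact_mod_cast hm4
    have heq := hL.symm.trans hR
    rw [hM, h1, ht', h1, htu, hu, hX] at heq
    have key : ((Nat.card K * q * d : ℕ) : ℂ) * ((c : ℂ) * ((θ : K → ℂ) y + (θ' : K → ℂ) y))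
        = 2 * ((m4 : ℂ) * (χ : X → ℂ) (t * y) * S - d * R) := by
      rw [hKc] at heq
      push_cast
      rw [hKc]
      field_simp at heq
      linear_combination (-(1 / 2 : ℂ)) * heq
    refine Two.cancel_odd (m := ((Nat.card K * q * d : ℕ) : ℤ))
      ((Int.odd_coe_nat _).2 ((h.hKodd.mul hqodd).mul hodd))
      ((isIntegral_intCast c).mul ((CfsgLib.BlockB.irr_isIntegral θ y).add
        (CfsgLib.BlockB.irr_isIntegral θ' y)))
      ⟨(m4 : ℂ) * (χ : X → ℂ) (t * y) * S - d * R, ?_, by rw [Int.cast_natCast]; exact key⟩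
    exact (((isIntegral_natCast m4).mul (CfsgLib.BlockB.irr_isIntegral χ _)).mul
      (IsIntegral.sum _ fun x _ => (CfsgLib.BlockB.irr_isIntegral θ _).mul
        (CfsgLib.BlockB.irr_isIntegral χ _))).sub ((isIntegral_natCast d).mul
      (IsIntegral.sum _ fun x _ => (CfsgLib.BlockB.irr_isIntegral θ _).mul (hr x)))
  have hsum : Two (∑ y : K, (θ : K → ℂ) y⁻¹ *
      ((c : ℂ) * ((θ : K → ℂ) y + (θ' : K → ℂ) y))) :=
    Two.sum _ fun y _ => (hpt y).mul_left (CfsgLib.BlockB.irr_isIntegral θ _)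
  have horth : ∀ η : Cfsg.IrrCharacter K, ∑ y : K, (θ : K → ℂ) y⁻¹ * (η : K → ℂ) y =
      (Nat.card K : ℂ) * Cfsg.classInner (θ : K → ℂ) (η : K → ℂ) := fun η => by
    have := sum_irr_conv θ η 1
    simp only [one_mul] at this
    rw [this, div_mul_cancel₀ _ (irr_apply_one_ne_zero η.2)]
  have e1 : ∑ y : K, (θ : K → ℂ) y⁻¹ * ((c : ℂ) * ((θ : K → ℂ) y + (θ' : K → ℂ) y)) =
      ((c * (Nat.card K : ℤ) : ℤ) : ℂ) := by
    simp only [mul_left_comm ((θ : K → ℂ) _) (c : ℂ), mul_add, Finset.sum_add_distrib,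
      ← Finset.mul_sum, horth]
    rw [irr_classInner_self θ.2,
      irr_classInner_ne θ.2 θ'.2 (fun e' => hne (Subtype.ext e').symm)]
    push_cast
    ring
  rw [e1] at hsum
  have := hsum.even
  rw [Int.even_mul] at this
  exact this.resolve_right (Int.not_even_iff_odd.2 ((Int.odd_coe_nat _).2 h.hKodd))

/-- For a fixed character, the restriction to `tA` is congruent to its multiple. -/
theorem two_sub_fixed [Fintype (Cfsg.IrrCharacter X)] {l : K →* ℂˣ}
    (hfix : h.Good l) {χ : Cfsg.IrrCharacter X} (hl : h.cl l χ ≠ 0) (y : A) :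
    Two ((χ : X → ℂ) (t * y) - (h.cl l χ : ℂ) * (l (h.incl y) : ℂ)) := by
  set Q : A → Finset A := fun x => Finset.univ.filter (fun δ : A => IsConj (x : X) (δ : X)) with hQ
  set ω : A → ℂ := fun x => Cfsg.centralChar (χ : X → ℂ) (x : X) with hω
  have hint := fun z : X => CfsgLib.BlockB.irr_isIntegral χ z
  have hconjl : ∀ a : A, IsIntegral ℤ (conj (l (h.incl a) : ℂ)) := fun a => by
    rw [conj_hom_apply, ← map_inv]; exact isIntegral_hom _ _
  have s1 : ∀ x y : A, Two ((χ : X → ℂ) (t * y) * ω x -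
      ∑ δ ∈ Q x, (χ : X → ℂ) (t * y * δ)) := by
    intro x y
    simp only [hω]
    rw [← class_sum χ (t * (y : X)) (x : X)]
    set Cx : Finset X := Finset.univ.filter (IsConj (x : X)) with hCx
    have hA : Cx.filter (fun c => c ∈ A) = (Q x).image (fun δ : A => (δ : X)) := by
      ext c
      simp only [hCx, hQ, Finset.mem_filter, Finset.mem_univ, true_and, Finset.mem_image]
      exact ⟨fun hc => ⟨⟨c, hc.2⟩, hc.1, rfl⟩, fun ⟨δ, hδ, e⟩ => e ▸ ⟨hδ, δ.2⟩⟩
    rw [← Finset.sum_filter_add_sum_filter_not Cx (fun c => c ∈ A), hA,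
      Finset.sum_image Subtype.val_injective.injOn, add_sub_cancel_left,
      ← Finset.sum_filter_add_sum_filter_not (Cx.filter fun c => c ∉ A) (fun c => c * t = t * c)]
    refine Two.add ?_ ?_
    · refine two_sum_invol _ (fun c => u * c * u⁻¹) ?_ ?_ ?_ ?_ (fun c _ => hint _)
      · intro c hc
        simp only [hCx, Finset.mem_filter, Finset.mem_univ, true_and] at hc ⊢
        refine ⟨⟨hc.1.1.trans (isConj_iff.2 ⟨u, rfl⟩), fun e => hc.1.2 ?_⟩, ?_⟩
        · have e2 : c = u⁻¹ * (u * c * u⁻¹) * u := by group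
          rw [e2, mul_assoc, ← h.hAu _ e, inv_mul_cancel_left]
          exact e
        · have hu : Commute u t := h.htu.symm
          exact ((hu.mul_left (show Commute c t from hc.2)).mul_left hu.inv_left).eq
      · intro c _
        simp only [h.uinv, ← mul_assoc, h.uu', one_mul]
        rw [mul_assoc, h.uu', mul_one]
      · intro c hc e
        simp only [hCx, Finset.mem_filter, Finset.mem_univ, true_and] at hc
        have hcK : c ∈ K := h.mem_K_of_conj (h.D_le_K x.2) hc.1.1 hc.2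
        exact hc.1.2 (h.uK_eq_self.1 (show h.uK ⟨c, hcK⟩ = ⟨c, hcK⟩ from Subtype.ext e))
      · intro c _
        rw [← irr_isClassFunction χ.2 (t * (y : X) * c) u]
        refine congrArg (χ : X → ℂ) ?_
        calc t * (y : X) * (u * c * u⁻¹) = t * ((y : X) * u) * c * u⁻¹ := by group
          _ = u * (t * (y : X) * c) * u⁻¹ := by
            rw [← h.hAu _ y.2, ← mul_assoc, h.htu]; group
    · refine two_sum_invol _ (fun c => t * c * t⁻¹) ?_ ?_ ?_ ?_ (fun c _ => hint _)
      · intro c hc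
        simp only [hCx, Finset.mem_filter, Finset.mem_univ, true_and] at hc ⊢
        refine ⟨⟨hc.1.1.trans (isConj_iff.2 ⟨t, rfl⟩), fun e => hc.2 ?_⟩, fun e => hc.2 ?_⟩
        · have e2 : c = t⁻¹ * (t * c * t⁻¹) * t := by group
          have e3 : t⁻¹ * (t * c * t⁻¹) * t ∈ A := by
            rw [mul_assoc, ← h.hAt _ e, inv_mul_cancel_left]; exact e
          rw [← e2] at e3
          exact (h.hAt _ e3).symm
        · calc c * t = t⁻¹ * (t * c * t⁻¹ * t) * t := by group
            _ = t⁻¹ * (t * (t * c * t⁻¹)) * t := by rw [e]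
            _ = t * c := by group
      · intro c _
        simp only [h.tinv, ← mul_assoc, h.tt, one_mul]
        rw [mul_assoc, h.tt, mul_one]
      · intro c hc e
        exact (Finset.mem_filter.1 hc).2 (mul_inv_eq_iff_eq_mul.1 e).symm
      · intro c _
        rw [← irr_isClassFunction χ.2 (t * (y : X) * c) t]
        refine congrArg (χ : X → ℂ) ?_
        calc t * (y : X) * (t * c * t⁻¹) = t * ((y : X) * t) * c * t⁻¹ := by group
          _ = t * (t * (y : X) * c) * t⁻¹ := by rw [← h.hAt _ y.2]; group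
  have hcr : Odd ((Nat.card A : ℤ) * h.cr l χ) :=
    ((Int.odd_coe_nat _).2 h.hAodd).mul (h.cr_odd hfix hl)
  have hshift : ∀ (z : A), ∑ y : A, conj (l (h.incl y) : ℂ) * (χ : X → ℂ) (t * y * z) =
      (l (h.incl z) : ℂ) * ((Nat.card A : ℂ) * h.cr l χ) := by
    intro z
    rw [h.cr_eq, Finset.mul_sum]
    refine Fintype.sum_equiv (Equiv.mulRight z) _ _ fun y => ?_
    rw [Equiv.coe_mulRight, Subgroup.coe_mul, map_mul, map_mul, Units.val_mul, map_mul,
      conj_hom_apply l (h.incl z)]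
    rw [show ∀ a b c : ℂ, (l (h.incl z) : ℂ) * (a * (b * c)) = ((l (h.incl z) : ℂ) * c) * (b * a) from
      fun a b c => by ring, ← Units.val_mul, mul_inv_cancel, Units.val_one, one_mul, mul_assoc t]
  have s2 : ∀ x : A, Two (ω x - ∑ δ ∈ Q x, (l (h.incl δ) : ℂ)) := by
    intro x
    refine Two.cancel_odd hcr ((CfsgLib.BlockB.irr_centralChar_isIntegral χ _).sub
      (IsIntegral.sum _ fun δ _ => isIntegral_hom _ _)) ?_
    have h1 : Two (∑ y : A, conj (l (h.incl y) : ℂ) * ((χ : X → ℂ) (t * y) * ω x -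
        ∑ δ ∈ Q x, (χ : X → ℂ) (t * y * δ))) :=
      Two.sum _ fun y _ => (s1 x y).mul_left (hconjl y)
    convert h1 using 1
    simp only [mul_sub, Finset.sum_sub_distrib, Finset.mul_sum]
    rw [Finset.sum_comm (s := Finset.univ), Finset.sum_congr rfl fun δ _ => hshift δ]
    push_cast
    rw [h.cr_eq, Finset.sum_mul]
    refine congrArg₂ (· - ·) ?_ ?_
    · exact Finset.sum_congr rfl fun y _ => by ring
    · exact Finset.sum_congr rfl fun δ _ => by rw [← h.cr_eq]; ring
  set gy : ℂ := (χ : X → ℂ) (t * y) with hgy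
  have s3 : ∀ x : A, Two (∑ δ ∈ Q x, (gy - conj (l (h.incl δ) : ℂ) * (χ : X → ℂ) (t * y * δ))) := by
    intro x
    have h1 : Two ((gy * ω x - ∑ δ ∈ Q x, (χ : X → ℂ) (t * y * δ)) -
        gy * (ω x - ∑ δ ∈ Q x, (l (h.incl δ) : ℂ))) := (s1 x y).sub ((s2 x).mul_left (hint _))
    have h2 := h1.mul_left (hconjl x)
    convert h2 using 1
    simp only [Finset.sum_sub_distrib, mul_sub, Finset.mul_sum]
    have hone : ∀ δ ∈ Q x, (l (h.incl δ) : ℂ) = (l (h.incl x) : ℂ) := fun δ hδ => by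
      obtain ⟨g, hg⟩ := isConj_iff.1 (Finset.mem_filter.1 hδ).2
      rw [h.fixed_fusion hfix hg.symm]
    have e1 : conj (l (h.incl x) : ℂ) * (l (h.incl x) : ℂ) = 1 := by
      rw [conj_hom_apply, ← Units.val_mul, inv_mul_cancel, Units.val_one]
    rw [Finset.sum_congr rfl fun δ hδ => show
        conj (l (h.incl δ) : ℂ) * (χ : X → ℂ) (t * y * δ) = conj (l (h.incl x) : ℂ) * (χ : X → ℂ) (t * y * δ) by
      rw [hone δ hδ],
      Finset.sum_congr rfl (s₂ := Q x) (g := fun _ => gy)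
        (f := fun δ => conj (l (h.incl x) : ℂ) * (gy * (l (h.incl δ) : ℂ))) fun δ hδ => by
      rw [hone δ hδ, mul_left_comm, e1, mul_one]]
    ring
  have htot : Two (∑ δ : A, (gy - conj (l (h.incl δ) : ℂ) * (χ : X → ℂ) (t * y * δ))) := by
    rw [← Finset.sum_fiberwise Finset.univ (fun δ : A => ConjClasses.mk (δ : X))]
    refine Two.sum _ fun C _ => ?_
    rcases (Finset.univ.filter fun δ : A => ConjClasses.mk (δ : X) = C).eq_empty_or_nonempty with
      e | ⟨x, hx⟩
    · rw [e, Finset.sum_empty]; exact Two.zero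
    · have e : (Finset.univ.filter fun δ : A => ConjClasses.mk (δ : X) = C) = Q x := by
        rw [← (Finset.mem_filter.1 hx).2]
        simp only [hQ]
        exact Finset.filter_congr fun δ _ => by
          rw [ConjClasses.mk_eq_mk_iff_isConj]; exact ⟨IsConj.symm, IsConj.symm⟩
      rw [e]; exact s3 x
  have hsum : ∑ δ : A, (gy - conj (l (h.incl δ) : ℂ) * (χ : X → ℂ) (t * y * δ)) =
      ((Nat.card A : ℤ) : ℂ) * (gy - (h.cr l χ : ℂ) * (l (h.incl y) : ℂ)) := by
    rw [Finset.sum_sub_distrib, Finset.sum_const, Finset.card_univ, nsmul_eq_mul,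
      ← Nat.card_eq_fintype_card, Int.cast_natCast, mul_sub, ← mul_assoc, h.cr_eq, Finset.sum_mul]
    congr 1
    refine Fintype.sum_equiv (Equiv.mulLeft y) _ _ fun δ => ?_
    rw [Equiv.coe_mulLeft, Subgroup.coe_mul, ← mul_assoc, map_mul, map_mul, Units.val_mul, map_mul,
      conj_hom_apply l (h.incl y)]
    rw [show ∀ a b c : ℂ, a * (b * c) * (l (h.incl y) : ℂ) = (b * (l (h.incl y) : ℂ)) * (c * a) from
      fun a b c => by ring, ← Units.val_mul, inv_mul_cancel, Units.val_one, one_mul]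
  rw [hsum] at htot
  have h1 : Two (gy - (h.cr l χ : ℂ) * (l (h.incl y) : ℂ)) := Two.cancel_odd
    ((Int.odd_coe_nat _).2 h.hAodd) ((hint _).sub ((isIntegral_intCast _).mul (isIntegral_hom _ _)))
    htot
  obtain ⟨k, hk⟩ := h.cr_cl_even hfix χ
  have h2 : Two (((h.cr l χ - h.cl l χ : ℤ) : ℂ) * (l (h.incl y) : ℂ)) :=
    ⟨(k : ℂ) * (l (h.incl y) : ℂ), (isIntegral_intCast k).mul (isIntegral_hom _ _), by
      rw [hk]; push_cast; ring⟩
  convert h1.add h2 using 1
  push_cast
  ring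

/-- Coefficients at characters of `K` fixed by `u`, other than the given one, are even. -/
theorem co_even_of_fixed [Fintype (Cfsg.IrrCharacter X)] [Fintype (Cfsg.IrrCharacter K)]
    {l : K →* ℂˣ} (hfix : h.Good l) {χ : Cfsg.IrrCharacter X} (hl : h.cl l χ ≠ 0)
    (θ : Cfsg.IrrCharacter K) (hθ : ∀ k, (θ : K → ℂ) (h.uK k) = (θ : K → ℂ) k)
    (hne : θ ≠ h.lamIrr l) : Even (h.co θ χ) := by
  set R : K → ℂ := fun k =>
    ((χ : X → ℂ) (t * k) - (h.cl l χ : ℂ) * (l k : ℂ)) * conj ((θ : K → ℂ) k) with hR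
  have hθint : ∀ k, IsIntegral ℤ (conj ((θ : K → ℂ) k)) := fun k => by
    rw [← char_inv (irr_isCharacter θ.2)]; exact CfsgLib.BlockB.irr_isIntegral θ _
  have h1 := h.two_sum_K_sub R
    (fun k => by simp only [hR]; rw [h.chi_t_uK, hfix.1, hθ])
    (fun k => ((CfsgLib.BlockB.irr_isIntegral χ _).sub
      ((isIntegral_intCast _).mul (isIntegral_hom _ _))).mul (hθint k))
  have h2 : Two (∑ d : A, R ⟨d, h.D_le_K d.2⟩) := Two.sum _ fun d _ => by
    simp only [hR]
    rw [mul_comm]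
    exact (h.two_sub_fixed hfix hl d).mul_left (hθint _)
  have h3 := h1.add h2
  rw [sub_add_cancel] at h3
  have e : ∑ k : K, R k = ((h.co θ χ * (Nat.card K : ℤ) : ℤ) : ℂ) := by
    push_cast
    rw [h.co_cast, classInner_def, mul_comm, ← mul_assoc, mul_inv_cancel₀ natCard_ne_zero, one_mul]
    simp only [hR, sub_mul, Finset.sum_sub_distrib, mul_assoc, ← Finset.mul_sum]
    have h0 := irr_classInner_ne (h.lamIrr l).2 θ.2 (fun e => hne (Subtype.ext e).symm)
    rw [classInner_def, mul_eq_zero, or_iff_right (inv_ne_zero natCard_ne_zero)] at h0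
    rw [show ∑ k : K, (l k : ℂ) * conj ((θ : K → ℂ) k) = 0 from h0, mul_zero, sub_zero]
  rw [e] at h3
  have := h3.even
  rw [Int.even_mul] at this
  exact this.resolve_right (Int.not_even_iff_odd.2 ((Int.odd_coe_nat _).2 h.hKodd))

/-- On `tK` a constituent is a multiple of the character. -/
theorem chi_tK [Fintype (Cfsg.IrrCharacter X)] {l : K →* ℂˣ} (hgl : h.Good l)
    {χ : Cfsg.IrrCharacter X} (hl : h.cl l χ ≠ 0) (k : K) :
    (χ : X → ℂ) (t * k) = (h.cl l χ : ℂ) * (l k : ℂ) := by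
  have := Fintype.ofFinite (Cfsg.IrrCharacter K)
  have hzero : ∀ θ ≠ h.lamIrr l, h.co θ χ = 0 := by
    intro θ hθ
    by_contra hne
    have hsq : h.co θ χ * h.co θ χ + h.cl l χ * h.cl l χ < 4 := by
      rw [← h.co_lam, ← Finset.sum_pair (f := fun θ => h.co θ χ * h.co θ χ) hθ]
      exact lt_of_le_of_lt (Finset.sum_le_sum_of_subset_of_nonneg (Finset.subset_univ _)
        fun _ _ _ => mul_self_nonneg _) (h.co_sq_lt χ)
    obtain ⟨d, -, hd⟩ := irr_degree_nat χ
    have heven : Even (h.co θ χ) := by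
      let θ' : Cfsg.IrrCharacter K := ⟨fun k => (θ : K → ℂ) (h.uK k),
        isIrrCharacter_comp_surjective θ.2 (MonoidHom.mk' h.uK h.uK_mul)
          fun k => ⟨h.uK k, h.uK_uK k⟩⟩
      by_cases e : θ' = θ
      · exact h.co_even_of_fixed hgl hl θ (fun k => congrFun (congrArg Subtype.val e) k) hθ
      · exact h.co_even_of_moved hd (h.deg_odd hgl hl hd) θ θ' (fun _ => rfl) e
    obtain ⟨a, ha⟩ := heven
    rw [ha] at hne hsq
    have : 1 ≤ a * a := by
      have : a ≠ 0 := by rintro rfl; exact hne rfl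
      nlinarith [mul_self_pos.2 this]
    have : 1 ≤ h.cl l χ * h.cl l χ := by nlinarith [mul_self_pos.2 hl]
    nlinarith
  rw [h.expand χ k, Finset.sum_eq_single (h.lamIrr l)
    (fun θ _ hθ => by rw [hzero θ hθ, Int.cast_zero, zero_mul])
    (fun e => absurd (Finset.mem_univ _) e), h.co_lam]
  rfl

end InvTwist

end CfsgLib.GW.Twist
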