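import Cfsg.Agent.Lib.GW.Twist.KleinDegree

/-!
# An involution centraliser with four-group Sylow subgroup and a character: group theory

`C(t) = ⟨t,u⟩ K` with `K` of odd order centralised by `t`, `A = C_K(u)`, and `F ≤ K` abelian normal
inverted by `u` and moved by `A`. Linear characters of `K` invariant under `u` and, on `A`, under
the rotation `n` are trivial (`InvTwist.eq_one`, in the main file).
-/

set_option autoImplicit false
set_option linter.unusedSectionVars false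

namespace CfsgLib.GW.Twist

open CfsgLib.Recog.NonCA (eq_one_of_sq_of_odd mem_of_sq_mem)

universe v

/-- An involution centraliser `C(t) = ⟨t,u⟩ K` with four-group Sylow subgroup `⟨t,u⟩`, `F ≤ K`
abelian normal, inverted by `u` and not centralised by `A = C_K(u)`. -/
structure InvTwist {X : Type v} [Group X] (t u n : X) (K F A : Subgroup X) : Prop where
  ht : orderOf t = 2
  hu : orderOf u = 2
  htu : t * u = u * t
  hne : t ≠ u
  hsyl : ∃ P : Sylow 2 X, (P : Subgroup X) = Subgroup.zpowers t ⊔ Subgroup.zpowers u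
  hn : n * t * n⁻¹ = u ∧ n * u * n⁻¹ = t * u
  hA : A = K ⊓ Subgroup.centralizer ({u} : Set X)
  hKodd : Odd (Nat.card K)
  hKt : ∀ k ∈ K, t * k = k * t
  hKu : ∀ k ∈ K, u * k * u⁻¹ ∈ K
  hcent : Subgroup.centralizer ({t} : Set X) =
    Subgroup.zpowers t ⊔ Subgroup.zpowers u ⊔ K
  hAn : ∀ d ∈ A, n * d * n⁻¹ ∈ A
  hFK : F ≤ K
  hFcomm : ∀ a ∈ F, ∀ b ∈ F, a * b = b * a
  hKF : ∀ k ∈ K, ∀ a ∈ F, k * a * k⁻¹ ∈ F
  hFu : ∀ a ∈ F, u * a * u⁻¹ = a⁻¹
  hmove : ∃ d ∈ A, ∃ f ∈ F, d * f ≠ f * d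

namespace InvTwist

variable {X : Type v} [Group X] {t u n : X} {K F A : Subgroup X} (h : InvTwist t u n K F A)

local notation "cen(" x ")" => Subgroup.centralizer ({x} : Set X)
include h

theorem mem_A {d : X} : d ∈ A ↔ d ∈ K ∧ u * d = d * u := by
  rw [h.hA, Subgroup.mem_inf, Subgroup.mem_centralizer_singleton_iff, eq_comm (a := d * u)]

theorem D_le_K : A ≤ K := fun _ hd => (h.mem_A.1 hd).1

theorem hAu : ∀ d ∈ A, u * d = d * u := fun _ hd => (h.mem_A.1 hd).2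

theorem hAt : ∀ d ∈ A, t * d = d * t := fun d hd => h.hKt d (h.D_le_K hd)

theorem hAodd : Odd (Nat.card A) := h.hKodd.of_dvd_nat (Subgroup.card_dvd_of_le h.D_le_K)

theorem hFodd : Odd (Nat.card F) := h.hKodd.of_dvd_nat (Subgroup.card_dvd_of_le h.hFK)

theorem hAF : ∀ d ∈ A, ∀ a ∈ F, d * a * d⁻¹ ∈ F := fun d hd => h.hKF d (h.D_le_K hd)

theorem hFt : ∀ a ∈ F, t * a = a * t := fun a ha => h.hKt a (h.hFK ha)

theorem tt : t * t = 1 := by
  have := pow_orderOf_eq_one t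
  rwa [h.ht, pow_two] at this

theorem uu' : u * u = 1 := by
  have := pow_orderOf_eq_one u
  rwa [h.hu, pow_two] at this

theorem t_ne_one : t ≠ 1 := fun e => by simpa [e] using h.ht

theorem u_ne_one : u ≠ 1 := fun e => by simpa [e] using h.hu

theorem tinv : t⁻¹ = t := inv_eq_of_mul_eq_one_right h.tt

theorem uinv : u⁻¹ = u := inv_eq_of_mul_eq_one_right h.uu'

/-- The four-group. -/
def W (_h : InvTwist t u n K F A) : Set X := {1, t, u, t * u}

theorem mem_W {w : X} : w ∈ h.W ↔ w = 1 ∨ w = t ∨ w = u ∨ w = t * u := by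
  simp [W]

theorem one_mem_W : (1 : X) ∈ h.W := h.mem_W.2 (Or.inl rfl)

theorem W_mul {v w : X} (hv : v ∈ h.W) (hw : w ∈ h.W) : v * w ∈ h.W := by
  have e1 : u * t = t * u := h.htu.symm
  have e2 : t * (t * u) = u := by rw [← mul_assoc, h.tt, one_mul]
  have e3 : u * (t * u) = t := by rw [← mul_assoc, e1, mul_assoc, h.uu', mul_one]
  have e4 : t * u * t = u := by rw [mul_assoc, e1, e2]
  have e5 : t * u * u = t := by rw [mul_assoc, h.uu', mul_one]
  have e6 : t * u * (t * u) = 1 := by rw [mul_assoc, e3, h.tt]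
  rcases h.mem_W.1 hv with rfl | rfl | rfl | rfl <;> rcases h.mem_W.1 hw with rfl | rfl | rfl | rfl <;>
    simp [h.mem_W, e1, e2, e3, e4, e5, e6, h.tt, h.uu']

theorem W_sq {w : X} (hw : w ∈ h.W) : w * w = 1 := by
  rcases h.mem_W.1 hw with rfl | rfl | rfl | rfl
  · rw [one_mul]
  · exact h.tt
  · exact h.uu'
  · rw [mul_assoc, ← mul_assoc u t u, ← h.htu, mul_assoc t u u, h.uu', mul_one, h.tt]

theorem W_inv {w : X} (hw : w ∈ h.W) : w⁻¹ = w := inv_eq_of_mul_eq_one_right (h.W_sq hw)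

theorem W_comm_t {w : X} (hw : w ∈ h.W) : w * t = t * w := by
  rcases h.mem_W.1 hw with rfl | rfl | rfl | rfl
  · rw [one_mul, mul_one]
  · rfl
  · exact h.htu.symm
  · rw [mul_assoc, ← h.htu]

theorem W_comm_u {w : X} (hw : w ∈ h.W) : w * u = u * w := by
  rcases h.mem_W.1 hw with rfl | rfl | rfl | rfl
  · rw [one_mul, mul_one]
  · exact h.htu
  · rfl
  · rw [← mul_assoc, ← h.htu]

theorem W_comm_D {w d : X} (hw : w ∈ h.W) (hd : d ∈ A) : w * d = d * w := by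
  rcases h.mem_W.1 hw with rfl | rfl | rfl | rfl
  · rw [one_mul, mul_one]
  · exact h.hAt d hd
  · exact h.hAu d hd
  · rw [mul_assoc, h.hAu d hd, ← mul_assoc, h.hAt d hd, mul_assoc]

theorem W_K {w k : X} (hw : w ∈ h.W) (hk : k ∈ K) : w * k * w⁻¹ ∈ K := by
  rcases h.mem_W.1 hw with rfl | rfl | rfl | rfl
  · simpa using hk
  · rw [h.hKt k hk, mul_inv_cancel_right]; exact hk
  · exact h.hKu k hk
  · have e : t * u * k * (t * u)⁻¹ = t * (u * k * u⁻¹) * t⁻¹ := by group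
    rw [e, h.hKt _ (h.hKu k hk), mul_inv_cancel_right]; exact h.hKu k hk

theorem W_inter_K [Finite X] {w : X} (hw : w ∈ h.W) (hk : w ∈ K) : w = 1 :=
  eq_one_of_sq_of_odd h.hKodd hk (h.W_sq hw)

/-- The centraliser `M = C(t)`, as a set of products. -/
def M (_h : InvTwist t u n K F A) : Subgroup X where
  carrier := {x | ∃ w ∈ _h.W, ∃ k ∈ K, x = w * k}
  one_mem' := ⟨1, _h.one_mem_W, 1, one_mem _, (one_mul 1).symm⟩
  mul_mem' := by
    rintro _ _ ⟨w, hw, k, hk, rfl⟩ ⟨w', hw', k', hk', rfl⟩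
    refine ⟨w * w', _h.W_mul hw hw', (w'⁻¹ * k * w') * k', mul_mem ?_ hk', by group⟩
    have := _h.W_K hw' hk
    rwa [_h.W_inv hw'] at this ⊢
  inv_mem' := by
    rintro _ ⟨w, hw, k, hk, rfl⟩
    exact ⟨w, hw, w * k⁻¹ * w⁻¹, _h.W_K hw (inv_mem hk), by
      rw [mul_inv_rev, _h.W_inv hw, ← mul_assoc, ← mul_assoc, _h.W_sq hw, one_mul]⟩

theorem mem_M {x : X} : x ∈ h.M ↔ ∃ w ∈ h.W, ∃ k ∈ K, x = w * k := Iff.rfl

theorem K_le_M : K ≤ h.M := fun k hk => ⟨1, h.one_mem_W, k, hk, (one_mul k).symm⟩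

theorem W_le_M {w : X} (hw : w ∈ h.W) : w ∈ h.M := ⟨w, hw, 1, one_mem _, (mul_one w).symm⟩

theorem cen_t : cen(t) = h.M := by
  refine le_antisymm ?_ ?_
  · rw [h.hcent]
    refine sup_le (sup_le ?_ ?_) h.K_le_M
    · rw [Subgroup.zpowers_le]; exact h.W_le_M (h.mem_W.2 (Or.inr (Or.inl rfl)))
    · rw [Subgroup.zpowers_le]; exact h.W_le_M (h.mem_W.2 (Or.inr (Or.inr (Or.inl rfl))))
  · rintro _ ⟨w, hw, k, hk, rfl⟩
    rw [Subgroup.mem_centralizer_singleton_iff]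
    exact ((show Commute t w from (h.W_comm_t hw).symm).mul_right
      (show Commute t k from h.hKt k hk)).symm.eq

theorem mem_M_iff {x : X} : x ∈ h.M ↔ x * t = t * x := by
  rw [← h.cen_t, Subgroup.mem_centralizer_singleton_iff]

theorem mem_M_conj {x : X} : x ∈ h.M ↔ x * t * x⁻¹ = t := by
  rw [h.mem_M_iff, mul_inv_eq_iff_eq_mul]

theorem t_mem_M : t ∈ h.M := h.W_le_M (h.mem_W.2 (Or.inr (Or.inl rfl)))

theorem u_mem_W : u ∈ h.W := h.mem_W.2 (Or.inr (Or.inr (Or.inl rfl)))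

theorem M_conj_K {g k : X} (hg : g ∈ h.M) (hk : k ∈ K) : g * k * g⁻¹ ∈ K := by
  obtain ⟨w, hw, a, ha, rfl⟩ := h.mem_M.1 hg
  have e : w * a * k * (w * a)⁻¹ = w * (a * k * a⁻¹) * w⁻¹ := by group
  rw [e]
  exact h.W_K hw (mul_mem (mul_mem ha hk) (inv_mem ha))

/-- A linear character of `K` invariant under `u` is invariant under `C(t)`. -/
theorem M_hom {l : K →* ℂˣ} (hl : ∀ k k' : K, (k' : X) = u * k * u⁻¹ → l k' = l k) {g : X}
    (hg : g ∈ h.M) {k k' : K} (e : (k' : X) = g * k * g⁻¹) : l k' = l k := by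
  obtain ⟨w, hw, a, ha, rfl⟩ := h.mem_M.1 hg
  set k0 : K := ⟨a, ha⟩ * k * ⟨a, ha⟩⁻¹ with hk0
  have e0 : l k0 = l k := by
    rw [hk0, map_mul, map_mul, map_inv, mul_right_comm, mul_inv_cancel, one_mul]
  have e1 : (k' : X) = w * (k0 : X) * w⁻¹ := by
    rw [e, hk0]; simp only [Subgroup.coe_mul, Subgroup.coe_inv]; group
  rw [← e0]
  have ht' : ∀ x : K, t * (x : X) * t⁻¹ = x := fun x => by
    rw [h.hKt x x.2, mul_inv_cancel_right]
  rcases h.mem_W.1 hw with rfl | rfl | rfl | rfl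
  · rw [show k' = k0 from Subtype.ext (by simpa using e1)]
  · rw [ht'] at e1; rw [show k' = k0 from Subtype.ext e1]
  · exact hl k0 k' e1
  · refine hl k0 k' (e1.trans ?_)
    have e2 : t * u * (k0 : X) * (t * u)⁻¹ = t * (u * k0 * u⁻¹) * t⁻¹ := by group
    rw [e2, ht' ⟨_, h.hKu _ k0.2⟩]

/-- A linear character of `K` invariant under `u` and, on `A`, under `n` is invariant under
fusion in `A`. -/
theorem fusion_hom [Finite X] {l : K →* ℂˣ}
    (hlu : ∀ k k' : K, (k' : X) = u * k * u⁻¹ → l k' = l k)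
    (hl : ∀ d d' : K, (d : X) ∈ A → (d' : X) = n * d * n⁻¹ → l d' = l d) {g : X} {d d' : K}
    (hd : (d : X) ∈ A) (hd' : (d' : X) ∈ A) (e : (d' : X) = g * d * g⁻¹) : l d' = l d := by
  have hback : ∀ {x : X}, x ∈ A → n⁻¹ * x * n ∈ A := by
    intro x hx
    let φ : A → A := fun a => ⟨n * a * n⁻¹, h.hAn a a.2⟩
    have hφ : Function.Injective φ := fun a b e => Subtype.ext (by
      simpa [φ] using congrArg Subtype.val e)
    obtain ⟨a, ha⟩ := Finite.surjective_of_injective hφ ⟨x, hx⟩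
    have ha' : n * (a : X) * n⁻¹ = x := congrArg Subtype.val ha
    rw [← ha']
    simp [mul_assoc]
  have : Fact (Nat.Prime 2) := ⟨Nat.prime_two⟩
  obtain ⟨P, hP⟩ := h.hsyl
  have hPW : ∀ x ∈ (P : Subgroup X), x ∈ h.W := by
    intro x hx
    rw [hP, Subgroup.zpowers_eq_closure, Subgroup.zpowers_eq_closure, ← Subgroup.closure_union] at hx
    induction hx using Subgroup.closure_induction with
    | mem y hy =>
      rcases hy with hy | hy
      · rw [Set.mem_singleton_iff.1 hy]; exact h.mem_W.2 (Or.inr (Or.inl rfl))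
      · rw [Set.mem_singleton_iff.1 hy]; exact h.u_mem_W
    | one => exact h.one_mem_W
    | mul a b _ _ ha hb => exact h.W_mul ha hb
    | inv a _ ha => rw [h.W_inv ha]; exact ha
  have hc : ∀ y ∈ A, y ∈ Subgroup.centralizer ((P : Subgroup X) : Set X) := fun y hy =>
    Subgroup.mem_centralizer_iff.2 fun x hx => h.W_comm_D (hPW x hx) hy
  obtain ⟨m, hm, he⟩ := P.conj_eq_normalizer_conj_of_mem_centralizer (d : X) g⁻¹ (hc d hd)
    (hc _ (by rw [inv_inv, ← e]; exact hd'))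
  rw [inv_inv] at he
  rw [he] at e
  have htP : t ∈ (P : Subgroup X) := by
    rw [hP]; exact Subgroup.mem_sup_left (Subgroup.mem_zpowers t)
  have hm' : ∀ x ∈ (P : Subgroup X), m⁻¹ * x * m ∈ h.W := fun x hx =>
    hPW _ (by simpa using (Subgroup.mem_normalizer_iff.1 (inv_mem hm) x).1 hx)
  have hgt : m⁻¹ * t * m ∈ h.W := hm' t htP
  rcases h.mem_W.1 hgt with e' | e' | e' | e'
  · exact absurd (conj_eq_one_iff.1 (by rwa [inv_inv] : m⁻¹ * t * m⁻¹⁻¹ = 1)) h.t_ne_one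
  · exact h.M_hom hlu (g := m⁻¹) (h.mem_M_conj.2 (by rw [inv_inv]; exact e')) (by rwa [inv_inv])
  · have hm2 : n⁻¹ * m⁻¹ ∈ h.M := h.mem_M_conj.2 (by
      calc n⁻¹ * m⁻¹ * t * (n⁻¹ * m⁻¹)⁻¹ = n⁻¹ * (m⁻¹ * t * m) * n := by group
        _ = t := by rw [e', ← h.hn.1]; group)
    have hy : n⁻¹ * (d' : X) * n ∈ A := hback hd'
    rw [hl ⟨_, h.D_le_K hy⟩ d' hy (by simp [mul_assoc])]
    refine h.M_hom hlu hm2 ?_
    show n⁻¹ * (d' : X) * n = _
    rw [e]; group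
  · have hm2 : n⁻¹ * (n⁻¹ * m⁻¹) ∈ h.M := h.mem_M_conj.2 (by
      calc n⁻¹ * (n⁻¹ * m⁻¹) * t * (n⁻¹ * (n⁻¹ * m⁻¹))⁻¹
          = n⁻¹ * (n⁻¹ * (m⁻¹ * t * m) * n) * n := by simp [mul_assoc]
        _ = t := by rw [e', ← h.hn.2]; conv_lhs => rw [← h.hn.1]
                    group)
    have hy : n⁻¹ * (d' : X) * n ∈ A := hback hd'
    have hy2 : n⁻¹ * (n⁻¹ * (d' : X) * n) * n ∈ A := hback hy
    rw [hl ⟨_, h.D_le_K hy⟩ d' hy (by simp [mul_assoc]),
      hl ⟨_, h.D_le_K hy2⟩ ⟨_, h.D_le_K hy⟩ hy2 (by simp [mul_assoc])]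
    refine h.M_hom hlu hm2 ?_
    show n⁻¹ * (n⁻¹ * (d' : X) * n) * n = _
    rw [e]; simp [mul_assoc]

/-- Conjugates in `C(t)` of elements of `K` lie in `K`. -/
theorem mem_K_of_conj [Finite X] {x c : X} (hx : x ∈ K) (hc : IsConj x c)
    (hct : c * t = t * c) : c ∈ K := by
  obtain ⟨g, rfl⟩ := isConj_iff.1 hc
  have hodd : Odd (Nat.card (Subgroup.zpowers (g * x * g⁻¹))) := by
    rw [Nat.card_zpowers]
    refine h.hKodd.of_dvd_nat ?_
    rw [show orderOf (g * x * g⁻¹) = orderOf x from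
      (MulEquiv.orderOf_eq (MulAut.conj g) x), ← Subgroup.orderOf_mk x hx]
    exact orderOf_dvd_natCard _
  refine mem_of_sq_mem hodd (Subgroup.mem_zpowers _) ?_
  obtain ⟨w, hw, k, hk, e⟩ := h.mem_M.1 (h.mem_M_iff.2 hct)
  rw [e]
  have e2 : w * k * (w * k) = (w * k * w⁻¹) * k := by rw [h.W_inv hw]; group
  rw [e2]
  exact mul_mem (h.W_K hw hk) hk

end InvTwist

end CfsgLib.GW.Twist
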