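import Cfsg.Agent.Lib.GW.Twist.DihedralMain

/-!
# An involution centraliser with dihedral Sylow subgroup and a character: group theory

`C(a) = T K` with `K` of odd order centralised by the rotations, `A = C_K(u)` for a reflection `u`,
and `F ≤ K` abelian normal, inverted by `u` and moved by `A`.
-/

set_option autoImplicit false
set_option linter.unusedSectionVars false
set_option linter.unusedDecidableInType false

namespace CfsgLib.GW.Twist

open CfsgLib.Invol CfsgLib.BlockA.DihedralBlock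
open CfsgLib.Recog.NonCA (eq_one_of_sq_of_odd mem_of_sq_mem)

universe v

/-- An involution centraliser `C(a) = T K` with dihedral Sylow subgroup `T`, whose rotations
centralise `K`; `F ≤ K` is abelian, inverted by the reflection `u` and not centralised by
`A = C_K(u)`. -/
structure InvRot {X : Type v} [Group X] [Finite X] (T : Sylow 2 X) (D : DihData (T : Subgroup X))
    (u : X) (K F A : Subgroup X) : Prop where
  hh : 2 ≤ D.h
  huT : u ∈ (T : Subgroup X)
  hu : orderOf u = 2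
  hur : u * rot T D * u⁻¹ = (rot T D)⁻¹
  hA : A = K ⊓ Subgroup.centralizer ({u} : Set X)
  hKodd : Odd (Nat.card K)
  hKr : ∀ k ∈ K, rot T D * k = k * rot T D
  hKu : ∀ k ∈ K, u * k * u⁻¹ ∈ K
  hcent : Subgroup.centralizer ({dz T D} : Set X) = (T : Subgroup X) ⊔ K
  hFK : F ≤ K
  hFcomm : ∀ a ∈ F, ∀ b ∈ F, a * b = b * a
  hKF : ∀ k ∈ K, ∀ a ∈ F, k * a * k⁻¹ ∈ F
  hFu : ∀ a ∈ F, u * a * u⁻¹ = a⁻¹
  hmove : ∃ d ∈ A, ∃ f ∈ F, d * f ≠ f * d

namespace InvRot

variable {X : Type v} [Group X] [Finite X] {T : Sylow 2 X} {D : DihData (T : Subgroup X)} {u : X}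
  {K F A : Subgroup X} (h : InvRot T D u K F A)
include h

local notation "q" => (2 * D.h)

theorem mem_A {d : X} : d ∈ A ↔ d ∈ K ∧ u * d = d * u := by
  rw [h.hA, Subgroup.mem_inf, Subgroup.mem_centralizer_singleton_iff, eq_comm (a := d * u)]

theorem A_le_K : A ≤ K := fun _ hd => (h.mem_A.1 hd).1

theorem hAu : ∀ d ∈ A, u * d = d * u := fun _ hd => (h.mem_A.1 hd).2

theorem hAodd : Odd (Nat.card A) := h.hKodd.of_dvd_nat (Subgroup.card_dvd_of_le h.A_le_K)

theorem hFodd : Odd (Nat.card F) := h.hKodd.of_dvd_nat (Subgroup.card_dvd_of_le h.hFK)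

theorem hAF : ∀ d ∈ A, ∀ a ∈ F, d * a * d⁻¹ ∈ F := fun d hd => h.hKF d (h.A_le_K hd)

theorem hFr : ∀ a ∈ F, rot T D * a = a * rot T D := fun a ha => h.hKr a (h.hFK ha)

theorem four_le_q : 4 ≤ q := by have := h.hh; omega

/-- The rotation with the given index. -/
def rp (_h : InvRot T D u K F A) (i : ZMod q) : X := rot T D ^ i.val

theorem rp_mem (i : ZMod q) : h.rp i ∈ (T : Subgroup X) := pow_mem (rot_mem T D) _

theorem pow_eq_rp (l : ℕ) : rot T D ^ l = h.rp (l : ZMod q) := by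
  rw [rp, ZMod.val_natCast]
  conv_lhs => rw [← pow_mod_orderOf, orderOf_rot]

theorem rp_zero : h.rp 0 = 1 := by rw [rp, ZMod.val_zero, pow_zero]

theorem rp_add (i j : ZMod q) : h.rp (i + j) = h.rp i * h.rp j := by
  conv_rhs => rw [rp, rp, ← pow_add, h.pow_eq_rp, Nat.cast_add, ZMod.natCast_zmod_val,
    ZMod.natCast_zmod_val]

theorem rp_neg (i : ZMod q) : h.rp (-i) = (h.rp i)⁻¹ :=
  eq_inv_of_mul_eq_one_left (by rw [← h.rp_add, neg_add_cancel, h.rp_zero])

theorem rp_eq_one {i : ZMod q} : h.rp i = 1 ↔ i = 0 := by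
  refine ⟨fun e => ?_, fun e => e ▸ h.rp_zero⟩
  rw [rp, rot_pow_eq_one_iff] at e
  rw [← ZMod.natCast_zmod_val i, ZMod.natCast_eq_zero_iff]
  exact e

theorem rp_inj {i j : ZMod q} (e : h.rp i = h.rp j) : i = j := by
  refine sub_eq_zero.1 (h.rp_eq_one.1 ?_)
  rw [sub_eq_add_neg, h.rp_add, h.rp_neg, e, mul_inv_cancel]

theorem rp_half : h.rp (D.h : ZMod q) = dz T D := by rw [← h.pow_eq_rp, rot_pow_h]

theorem half_ne_zero : (D.h : ZMod q) ≠ 0 := fun e => by
  rw [ZMod.natCast_eq_zero_iff] at e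
  have := Nat.le_of_dvd D.h_pos e
  have := D.h_pos
  omega

theorem dz_ne_one : dz T D ≠ 1 := fun e => h.half_ne_zero (h.rp_eq_one.1 (h.rp_half.trans e))

theorem orderOf_dz : orderOf (dz T D) = 2 := (Subgroup.orderOf_coe _).trans D.orderOf_z

theorem uu' : u * u = 1 := invol_mul_self h.hu

theorem uinv : u⁻¹ = u := invol_inv h.hu

theorem u_rp (i : ZMod q) : u * h.rp i * u⁻¹ = h.rp (-i) := by
  rw [h.rp_neg, rp, ← conj_pow, h.hur, inv_pow]

theorem u_ne_rp (i : ZMod q) : u ≠ h.rp i := by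
  intro e
  have e1 : u * rot T D * u⁻¹ = rot T D := by
    rw [e, rp, ← pow_succ, pow_succ', mul_inv_cancel_right]
  rw [h.hur, inv_eq_iff_mul_eq_one, ← pow_two, rot_pow_eq_one_iff] at e1
  have := Nat.le_of_dvd two_pos e1
  have := h.hh
  omega

theorem mem_T {w : X} (hw : w ∈ (T : Subgroup X)) :
    ∃ i : ZMod q, w = h.rp i ∨ w = h.rp i * u := by
  have hz : ∀ i : ℤ, ((D.r ^ i : (T : Subgroup X)) : X) = h.rp (i : ZMod q) := by
    intro i
    obtain ⟨n, rfl | rfl⟩ := i.eq_nat_or_neg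
    · rw [Int.cast_natCast, zpow_natCast, SubmonoidClass.coe_pow]
      exact h.pow_eq_rp n
    · rw [Int.cast_neg, Int.cast_natCast, h.rp_neg, zpow_neg, zpow_natCast, Subgroup.coe_inv,
        SubmonoidClass.coe_pow]
      exact congrArg Inv.inv (h.pow_eq_rp n)
  obtain ⟨j, hj⟩ : ∃ j : ZMod q, (D.s : X) = h.rp j * u := by
    rcases D.cases ⟨u, h.huT⟩ with ⟨i, hi⟩ | ⟨i, hi⟩
    · exact absurd ((congrArg Subtype.val hi).trans (hz i)) (h.u_ne_rp _)
    · refine ⟨-(i : ZMod q), ?_⟩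
      have e := congrArg Subtype.val hi
      rw [Subgroup.coe_mul, hz] at e
      rw [h.rp_neg, eq_inv_mul_iff_mul_eq]
      exact e.symm
  rcases D.cases ⟨w, hw⟩ with ⟨i, hi⟩ | ⟨i, hi⟩
  · exact ⟨(i : ZMod q), Or.inl ((congrArg Subtype.val hi).trans (hz i))⟩
  · refine ⟨(i : ZMod q) + j, Or.inr ((congrArg Subtype.val hi).trans ?_)⟩
    rw [Subgroup.coe_mul, hz, hj, h.rp_add, mul_assoc]

theorem rp_comm_F (i : ZMod q) {f : X} (hf : f ∈ F) : h.rp i * f = f * h.rp i :=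
  ((show Commute (rot T D) f from h.hFr f hf).pow_left _).eq

theorem rp_comm_A (i : ZMod q) {d : X} (hd : d ∈ A) : h.rp i * d = d * h.rp i :=
  ((show Commute (rot T D) d from h.hKr d (h.A_le_K hd)).pow_left _).eq

theorem T_comm_A {w d : X} (hw : w ∈ (T : Subgroup X)) (hd : d ∈ A) : w * d = d * w := by
  obtain ⟨i, rfl | rfl⟩ := h.mem_T hw
  · exact h.rp_comm_A i hd
  · exact ((show Commute (h.rp i) d from h.rp_comm_A i hd).mul_left (h.hAu d hd)).eq

theorem rp_comm_K (i : ZMod q) {k : X} (hk : k ∈ K) : h.rp i * k = k * h.rp i :=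
  ((show Commute (rot T D) k from h.hKr k hk).pow_left _).eq

theorem T_K {w k : X} (hw : w ∈ (T : Subgroup X)) (hk : k ∈ K) : w * k * w⁻¹ ∈ K := by
  obtain ⟨i, rfl | rfl⟩ := h.mem_T hw
  · rw [h.rp_comm_K i hk, mul_inv_cancel_right]; exact hk
  · have e : h.rp i * u * k * (h.rp i * u)⁻¹ = h.rp i * (u * k * u⁻¹) * (h.rp i)⁻¹ := by group
    rw [e, h.rp_comm_K i (h.hKu k hk), mul_inv_cancel_right]
    exact h.hKu k hk

theorem T_inter_K {w : X} (hw : w ∈ (T : Subgroup X)) (hk : w ∈ K) : w = 1 := by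
  have hc : Nat.Coprime (Nat.card (T : Subgroup X)) (Nat.card K) := by
    obtain ⟨k, hk⟩ := T.2.exists_card_eq
    rw [hk]
    exact (Nat.coprime_two_left.2 h.hKodd).pow_left k
  have := (Subgroup.disjoint_of_coprime_natCard hc).eq_bot
  exact (Subgroup.eq_bot_iff_forall _).1 this w ⟨hw, hk⟩

theorem decomp {w w' k k' : X} (hw : w ∈ (T : Subgroup X)) (hw' : w' ∈ (T : Subgroup X))
    (hk : k ∈ K) (hk' : k' ∈ K) (e : w * k = w' * k') : w = w' ∧ k = k' := by
  have h1 : w'⁻¹ * w = k' * k⁻¹ := by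
    calc w'⁻¹ * w = w'⁻¹ * (w * k) * k⁻¹ := by group
      _ = w'⁻¹ * (w' * k') * k⁻¹ := by rw [e]
      _ = k' * k⁻¹ := by group
  have h2 : w'⁻¹ * w = 1 :=
    h.T_inter_K (mul_mem (inv_mem hw') hw) (h1 ▸ mul_mem hk' (inv_mem hk))
  have h3 : w = w' := (inv_mul_eq_one.1 h2).symm
  exact ⟨h3, by rwa [h3, mul_right_inj] at e⟩

theorem decomp_rp {i j : ZMod q} {k k' : X} (hk : k ∈ K) (hk' : k' ∈ K)
    (e : h.rp i * k = h.rp j * k') : i = j ∧ k = k' :=
  ⟨h.rp_inj (h.decomp (h.rp_mem i) (h.rp_mem j) hk hk' e).1,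
    (h.decomp (h.rp_mem i) (h.rp_mem j) hk hk' e).2⟩

/-- The centraliser `M = C(a)`, as a set of products. -/
def M (_h : InvRot T D u K F A) : Subgroup X where
  carrier := {x | ∃ w ∈ (T : Subgroup X), ∃ k ∈ K, x = w * k}
  one_mem' := ⟨1, one_mem _, 1, one_mem _, (one_mul 1).symm⟩
  mul_mem' := by
    rintro _ _ ⟨w, hw, k, hk, rfl⟩ ⟨w', hw', k', hk', rfl⟩
    refine ⟨w * w', mul_mem hw hw', (w'⁻¹ * k * w') * k', mul_mem ?_ hk', by group⟩
    simpa using _h.T_K (inv_mem hw') hk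
  inv_mem' := by
    rintro _ ⟨w, hw, k, hk, rfl⟩
    exact ⟨w⁻¹, inv_mem hw, w * k⁻¹ * w⁻¹, _h.T_K hw (inv_mem hk), by group⟩

theorem mem_M {x : X} : x ∈ h.M ↔ ∃ w ∈ (T : Subgroup X), ∃ k ∈ K, x = w * k := Iff.rfl

theorem K_le_M : K ≤ h.M := fun k hk => ⟨1, one_mem _, k, hk, (one_mul k).symm⟩

theorem T_le_M : (T : Subgroup X) ≤ h.M := fun w hw => ⟨w, hw, 1, one_mem _, (mul_one w).symm⟩

theorem rp_mem_M (i : ZMod q) : h.rp i ∈ h.M := h.T_le_M (h.rp_mem i)

theorem dz_comm_K {k : X} (hk : k ∈ K) : dz T D * k = k * dz T D := by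
  rw [← h.rp_half]; exact h.rp_comm_K _ hk

theorem cen_dz : Subgroup.centralizer ({dz T D} : Set X) = h.M := by
  refine le_antisymm ?_ ?_
  · rw [h.hcent]
    exact sup_le h.T_le_M h.K_le_M
  · rintro _ ⟨w, hw, k, hk, rfl⟩
    rw [Subgroup.mem_centralizer_singleton_iff]
    exact ((dz_commute T D hw).mul_right (h.dz_comm_K hk)).symm.eq

theorem mem_M_iff {x : X} : x ∈ h.M ↔ x * dz T D = dz T D * x := by
  rw [← h.cen_dz, Subgroup.mem_centralizer_singleton_iff]

theorem mem_M_conj {x : X} : x ∈ h.M ↔ x * dz T D * x⁻¹ = dz T D := by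
  rw [h.mem_M_iff, mul_inv_eq_iff_eq_mul]

/-- The elements with nontrivial rotation as 2-part are fused inside `M` only. -/
theorem sect {g : X} {i j : ZMod q} (hi : i ≠ 0) {k k' : X} (hk : k ∈ K) (hk' : k' ∈ K)
    (e : g * (h.rp i * k) * g⁻¹ = h.rp j * k') : g ∈ h.M := by
  obtain ⟨c, hc⟩ := orderOf_rot_pow_two T D i.val
  obtain ⟨c, rfl⟩ : ∃ c', c = c' + 1 := Nat.exists_eq_succ_of_ne_zero fun e => by
    rw [e, pow_zero, orderOf_eq_one_iff] at hc
    exact hi (h.rp_eq_one.1 hc)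
  have hdz : ∀ x : X, x ∈ Subgroup.zpowers (rot T D) → orderOf x = 2 → x = dz T D := by
    rintro _ ⟨l, rfl⟩ hl
    have e : ((D.r ^ l : (T : Subgroup X)) : X) = rot T D ^ l := SubgroupClass.coe_zpow _ _
    show rot T D ^ l = _
    rw [← e]
    refine congrArg Subtype.val (D.eq_z_of_zpow ?_)
    rw [← Subgroup.orderOf_coe, e]
    exact hl
  set n := Nat.card K * 2 ^ c with hn
  have hKn : ∀ {k : X}, k ∈ K → k ^ n = 1 := fun {k} hk => by
    refine orderOf_dvd_iff_pow_eq_one.1 (Dvd.dvd.mul_right ?_ _)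
    rw [← Subgroup.orderOf_mk k hk]
    exact orderOf_dvd_natCard _
  have hmem : ∀ i : ZMod q, h.rp i ∈ Subgroup.zpowers (rot T D) := fun i =>
    pow_mem (Subgroup.mem_zpowers _) _
  have hleft : (h.rp i) ^ n = dz T D := by
    refine hdz _ (pow_mem (hmem i) _) ?_
    have h1 : orderOf (h.rp i ^ 2 ^ c) = 2 := by
      rw [orderOf_pow_of_dvd (pow_ne_zero _ two_ne_zero) (by
        rw [rp, hc, pow_succ]; exact dvd_mul_right _ _)]
      rw [rp, hc, pow_succ, Nat.mul_div_cancel_left _ (pow_pos two_pos _)]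
    rw [hn, mul_comm, pow_mul, Nat.Coprime.orderOf_pow (by
      rw [h1]; exact Nat.coprime_two_left.2 h.hKodd)]
    exact h1
  have e2 := congrArg (· ^ n) e
  simp only [conj_pow] at e2
  rw [(show Commute (h.rp i) k from h.rp_comm_K i hk).mul_pow,
    (show Commute (h.rp j) k' from h.rp_comm_K j hk').mul_pow, hKn hk, hKn hk', mul_one, mul_one,
    hleft] at e2
  have hright : (h.rp j) ^ n = dz T D :=
    hdz _ (pow_mem (hmem j) _) (by rw [← e2, orderOf_conj_eq, h.orderOf_dz])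
  exact h.mem_M_conj.2 (e2.trans hright)

theorem T_F {w f : X} (hw : w ∈ (T : Subgroup X)) (hf : f ∈ F) : w * f * w⁻¹ ∈ F := by
  obtain ⟨i, rfl | rfl⟩ := h.mem_T hw
  · rw [h.rp_comm_F i hf, mul_inv_cancel_right]; exact hf
  · have e : h.rp i * u * f * (h.rp i * u)⁻¹ = h.rp i * (u * f * u⁻¹) * (h.rp i)⁻¹ := by group
    rw [e, h.hFu f hf, h.rp_comm_F i (inv_mem hf), mul_inv_cancel_right]
    exact inv_mem hf

/-- A linear character of `K` invariant under `u` is invariant under `C(a)`. -/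
theorem M_hom {l : K →* ℂˣ} (hl : ∀ k k' : K, (k' : X) = u * k * u⁻¹ → l k' = l k) {g : X}
    (hg : g ∈ h.M) {k k' : K} (e : (k' : X) = g * k * g⁻¹) : l k' = l k := by
  obtain ⟨w, hw, a, ha, rfl⟩ := h.mem_M.1 hg
  set k0 : K := ⟨a, ha⟩ * k * ⟨a, ha⟩⁻¹ with hk0
  have e0 : l k0 = l k := by
    rw [hk0, map_mul, map_mul, map_inv, mul_right_comm, mul_inv_cancel, one_mul]
  have e1 : (k' : X) = w * (k0 : X) * w⁻¹ := by
    rw [e, hk0]; simp only [Subgroup.coe_mul, Subgroup.coe_inv]; group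
  rw [← e0]
  obtain ⟨i, rfl | rfl⟩ := h.mem_T hw
  · rw [h.rp_comm_K i k0.2, mul_inv_cancel_right] at e1
    rw [show k' = k0 from Subtype.ext e1]
  · refine hl k0 k' (e1.trans ?_)
    have e2 : h.rp i * u * (k0 : X) * (h.rp i * u)⁻¹ = h.rp i * (u * k0 * u⁻¹) * (h.rp i)⁻¹ := by
      group
    rw [e2, h.rp_comm_K i (h.hKu _ k0.2), mul_inv_cancel_right]

/-- Elements of `A` conjugate in `X` are conjugate in `C(a)`. -/
theorem fusion_A {g : X} {d d' : A} (e : (d' : X) = g * d * g⁻¹) :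
    ∃ c ∈ h.M, (d' : X) = c * d * c⁻¹ := by
  have : Fact (Nat.Prime 2) := ⟨Nat.prime_two⟩
  have hc : ∀ y ∈ A, y ∈ Subgroup.centralizer (((T : Subgroup X)) : Set X) := fun y hy =>
    Subgroup.mem_centralizer_iff.2 fun x hx => h.T_comm_A hx hy
  obtain ⟨m, hm, he⟩ := T.conj_eq_normalizer_conj_of_mem_centralizer (d : X) g⁻¹ (hc d d.2)
    (hc _ (by rw [inv_inv, ← e]; exact d'.2))
  rw [inv_inv] at he
  rw [he] at e
  -- the normaliser of `T` centralises the central involution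
  have hmM : m⁻¹ ∈ h.M := by
    refine h.mem_M_conj.2 ?_
    set z' := m⁻¹ * dz T D * m⁻¹⁻¹ with hz'
    have hz'T : z' ∈ (T : Subgroup X) :=
      (Subgroup.mem_normalizer_iff.1 (inv_mem hm) _).1 (SetLike.coe_mem _)
    have hzc : z' * rot T D = rot T D * z' := by
      have hr' : m * rot T D * m⁻¹ ∈ (T : Subgroup X) :=
        (Subgroup.mem_normalizer_iff.1 hm _).1 (rot_mem T D)
      have := (dz_commute T D hr').eq
      rw [hz', inv_inv]
      calc m⁻¹ * dz T D * m * rot T D = m⁻¹ * (dz T D * (m * rot T D * m⁻¹)) * m := by group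
        _ = m⁻¹ * ((m * rot T D * m⁻¹) * dz T D) * m := by rw [this]
        _ = rot T D * (m⁻¹ * dz T D * m) := by group
    have hzo : orderOf z' = 2 := by rw [hz', orderOf_conj_eq, h.orderOf_dz]
    obtain ⟨i, hi | hi⟩ := h.mem_T hz'T
    · have hmem : z' ∈ Subgroup.zpowers (rot T D) := hi ▸ pow_mem (Subgroup.mem_zpowers _) _
      obtain ⟨l, hl⟩ := hmem
      have e1 : ((D.r ^ l : (T : Subgroup X)) : X) = z' := (SubgroupClass.coe_zpow _ _).trans hl
      rw [← e1] at hzo ⊢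
      exact congrArg Subtype.val (D.eq_z_of_zpow (by rwa [Subgroup.orderOf_coe] at hzo))
    · exfalso
      rw [hi] at hzc
      have hc' : Commute (h.rp i) (rot T D) := (Commute.refl (rot T D)).pow_left _
      have e1 : u * rot T D = rot T D * u := by
        refine mul_left_cancel (a := h.rp i) ?_
        rw [← mul_assoc, hzc, ← mul_assoc, ← mul_assoc, hc'.eq]
      have e2 := h.hur
      rw [e1, mul_inv_cancel_right] at e2
      rw [eq_inv_iff_mul_eq_one, ← pow_two, rot_pow_eq_one_iff] at e2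
      have := Nat.le_of_dvd two_pos e2
      have := h.hh
      omega
  exact ⟨m⁻¹, hmM, by rw [inv_inv]; exact e⟩

/-- Conjugates in `M` of elements of `K` lie in `K`. -/
theorem mem_K_of_conj {x c : X} (hx : x ∈ K) (hc : IsConj x c)
    (hct : c * dz T D = dz T D * c) : c ∈ K := by
  obtain ⟨g, rfl⟩ := isConj_iff.1 hc
  set c := g * x * g⁻¹
  have hodd : Odd (orderOf c) := by
    refine h.hKodd.of_dvd_nat ?_
    rw [show orderOf c = orderOf x from orderOf_conj_eq _ _, ← Subgroup.orderOf_mk x hx]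
    exact orderOf_dvd_natCard _
  obtain ⟨w, hw, k, hk, e⟩ := h.mem_M.1 (h.mem_M_iff.2 hct)
  have : Fact (Nat.Prime 2) := ⟨Nat.prime_two⟩
  obtain ⟨n, hn⟩ := T.2 ⟨w, hw⟩
  have hwn : w ^ 2 ^ n = 1 := congrArg Subtype.val hn
  have hpow : ∀ m : ℕ, ∃ k' ∈ K, (w * k) ^ m = w ^ m * k' := by
    intro m
    induction m with
    | zero => exact ⟨1, one_mem _, by simp⟩
    | succ m ih =>
      obtain ⟨k', hk', e'⟩ := ih
      refine ⟨w⁻¹ * k' * w * k, mul_mem (by simpa using h.T_K (inv_mem hw) hk') hk, ?_⟩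
      rw [pow_succ, e', pow_succ]
      group
  obtain ⟨k', hk', e'⟩ := hpow (2 ^ n)
  rw [← e, hwn, one_mul] at e'
  obtain ⟨l, hl⟩ := exists_pow_eq_self_of_coprime
    (Nat.coprime_two_left.2 hodd |>.pow_left n)
  rw [← hl, e']
  exact pow_mem hk' l

end InvRot

end CfsgLib.GW.Twist
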