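import Cfsg.Agent.Lib.GW.Twist.InvRotCoord

/-!
# An involution centraliser with dihedral Sylow subgroup and a character: congruence and uniqueness

An odd coefficient of an invariant linear character makes the other fixed coefficients even; a
constituent sees one character of `K`.
-/

set_option autoImplicit false
set_option linter.unusedSectionVars false
set_option linter.unusedDecidableInType false

set_option maxHeartbeats 800000

namespace CfsgLib.GW.Twist

open CfsgLib.Char CfsgLib.Invol CfsgLib.BlockA.DihedralBlock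
open CfsgLib.Recog.NonCA (eq_one_of_sq_of_odd Two two_sum_invol cf cfZ cfZ_cast isIntegral_hom
  conj_hom_apply class_sum isIntegral_intCast)
open CyclicVec (sg D2)
open scoped ComplexConjugate

universe v

namespace InvRot

open scoped _root_.Classical

section Congr

variable {X : Type v} [Group X] [Fintype X] {T : Sylow 2 X} {D : DihData (T : Subgroup X)} {u : X}
  {K F A : Subgroup X} (h : InvRot T D u K F A)
include h

/-- The inclusion of `A` in `K`. -/
def incl : A →* K := Subgroup.inclusion h.A_le_K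

/-- A linear character of `K` invariant under `u`. -/
def ULin : Type v := {l : K →* ℂˣ // ∀ k, l (h.uK k) = l k}

/-- The principal one. -/
def one : h.ULin := ⟨1, fun _ => rfl⟩

theorem ulin_u (l : h.ULin) : ∀ k k' : K, (k' : X) = u * k * u⁻¹ → l.1 k' = l.1 k := fun k k' e => by
  rw [show k' = h.uK k from Subtype.ext e]
  exact l.2 k

/-- An invariant character is trivial on elements inverted in `C(a)`. -/
theorem inverted (l : h.ULin) {g : X} (hg : g ∈ h.M) {k : K}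
    (e : g * k * g⁻¹ = (k : X)⁻¹) : l.1 k = 1 := by
  have e1 : l.1 k⁻¹ = l.1 k := h.M_hom (h.ulin_u l) hg e.symm
  have e2 : l.1 (k * k) = 1 := by
    rw [map_mul]; nth_rewrite 1 [← e1]; rw [← map_mul, inv_mul_cancel, map_one]
  obtain ⟨m, hm⟩ := h.hKodd
  have e3 : k ^ (2 * m + 1) = 1 := by rw [← hm]; exact pow_card_eq_one'
  rw [← map_one l.1, ← e3, pow_succ, pow_mul, pow_two, map_mul, map_pow, e2, one_pow, one_mul]

/-- The linear character `l` as an irreducible character. -/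
noncomputable def lamIrr (l : h.ULin) : Cfsg.IrrCharacter K :=
  ⟨fun k => (l.1 k : ℂ), isIrrCharacter_linear l.1⟩

theorem lamIrr_fix (l : h.ULin) : h.Fix (h.lamIrr l) := fun k =>
  congrArg (fun x : ℂˣ => (x : ℂ)) (l.2 k)

theorem uK_eq_self {k : K} : h.uK k = k ↔ (k : X) ∈ A := by
  rw [h.mem_A, Subtype.ext_iff, uK_coe, mul_inv_eq_iff_eq_mul]
  exact ⟨fun e => ⟨k.2, e⟩, fun e => e.2⟩

theorem dz_comm_A (d : A) : dz T D * A.subtype d = A.subtype d * dz T D :=
  h.dz_comm_K (h.A_le_K d.2)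

theorem dz_comm_u : dz T D * u = u * dz T D := (dz_commute T D h.huT).eq

/-- The coefficient on `a A`. -/
noncomputable def cr (l : h.ULin) (χ : Cfsg.IrrCharacter X) : ℤ :=
  cfZ h.orderOf_dz h.dz_comm_A (l.1.comp h.incl) χ

theorem cr_eq (l : h.ULin) (χ : Cfsg.IrrCharacter X) :
    (Nat.card A : ℂ) * h.cr l χ = ∑ d : A, (χ : X → ℂ) (dz T D * d) * conj (l.1 (h.incl d) : ℂ) := by
  rw [cr, cfZ_cast, cf, ← mul_assoc, mul_inv_cancel₀ natCard_ne_zero, one_mul]
  rfl

theorem co_eq (θ : Cfsg.IrrCharacter K) (χ : Cfsg.IrrCharacter X) :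
    (Nat.card K : ℂ) * h.fh θ χ =
      ∑ k : K, (χ : X → ℂ) (dz T D * k) * conj ((θ : K → ℂ) k) := by
  rw [h.fh_cast, f, classInner_def, h.rp_half, ← mul_assoc, mul_inv_cancel₀ natCard_ne_zero,
    one_mul]

theorem chi_dz_uK (χ : Cfsg.IrrCharacter X) (k : K) :
    (χ : X → ℂ) (dz T D * h.uK k) = (χ : X → ℂ) (dz T D * k) := by
  have e : dz T D * (h.uK k : X) = u * (dz T D * k) * u⁻¹ := by
    rw [uK_coe, ← mul_assoc, ← mul_assoc, ← mul_assoc, h.dz_comm_u]
  rw [e]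
  exact irr_isClassFunction χ.2 _ u

/-- Sums over `K` of functions invariant under `u` are sums over `A` modulo two. -/
theorem two_sum_K_sub (φ : K → ℂ) (hinv : ∀ k, φ (h.uK k) = φ k)
    (hint : ∀ k, IsIntegral ℤ (φ k)) :
    Two (∑ k : K, φ k - ∑ d : A, φ ⟨d, h.A_le_K d.2⟩) := by
  have e : ∑ d : A, φ ⟨d, h.A_le_K d.2⟩ =
      ∑ k ∈ Finset.univ.filter (fun k : K => (k : X) ∈ A), φ k := by
    refine Finset.sum_bij (fun d _ => (⟨d, h.A_le_K d.2⟩ : K))
      (fun d _ => Finset.mem_filter.2 ⟨Finset.mem_univ _, d.2⟩)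
      (fun a _ b _ e => Subtype.ext (congrArg (fun k : K => (k : X)) e))
      (fun k hk => ⟨⟨k, (Finset.mem_filter.1 hk).2⟩, Finset.mem_univ _, rfl⟩) (fun d _ => rfl)
  rw [e, ← Finset.sum_filter_add_sum_filter_not Finset.univ (fun k : K => (k : X) ∈ A),
    add_sub_cancel_left]
  refine two_sum_invol _ h.uK ?_ (fun k _ => h.uK_uK k) ?_ (fun k _ => hinv k) (fun k _ => hint k)
  · intro k hk
    simp only [Finset.mem_filter, Finset.mem_univ, true_and] at hk ⊢
    intro e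
    refine hk ?_
    rw [← h.uK_uK k, show h.uK (h.uK k) = h.uK k from h.uK_eq_self.2 e]
    exact e
  · intro k hk e
    exact (Finset.mem_filter.1 hk).2 (h.uK_eq_self.1 e)

theorem cr_fh_even (l : h.ULin) (χ : Cfsg.IrrCharacter X) :
    Even (h.cr l χ - h.fh (h.lamIrr l) χ) := by
  have h1 := h.two_sum_K_sub (fun k => (χ : X → ℂ) (dz T D * k) * conj (l.1 k : ℂ))
    (fun k => by rw [h.chi_dz_uK, l.2]) (fun k => (CfsgLib.BlockB.irr_isIntegral χ _).mul (by
      rw [conj_hom_apply, ← map_inv]; exact isIntegral_hom _ _))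
  have hco : ∑ k : K, (χ : X → ℂ) (dz T D * k) * conj (l.1 k : ℂ) =
      (Nat.card K : ℂ) * h.fh (h.lamIrr l) χ := (h.co_eq (h.lamIrr l) χ).symm
  rw [hco, Finset.sum_congr rfl fun (d : A) _ => show
      (χ : X → ℂ) (dz T D * ((⟨d, h.A_le_K d.2⟩ : K) : X)) *
        conj (l.1 ⟨d, h.A_le_K d.2⟩ : ℂ) = (χ : X → ℂ) (dz T D * d) * conj (l.1 (h.incl d) : ℂ)
      from rfl, ← h.cr_eq] at h1
  have h2 : Even ((Nat.card K : ℤ) * h.fh (h.lamIrr l) χ - (Nat.card A : ℤ) * h.cr l χ) :=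
    Two.even (by push_cast; exact h1)
  have hK : Odd (Nat.card K : ℤ) := (Int.odd_coe_nat _).2 h.hKodd
  have hD : Odd (Nat.card A : ℤ) := (Int.odd_coe_nat _).2 h.hAodd
  rw [Int.even_sub, Int.even_mul, Int.even_mul] at h2
  rw [Int.even_sub]
  have a := Int.not_even_iff_odd.2 hK
  have b := Int.not_even_iff_odd.2 hD
  tauto

theorem fusion_lam (l : h.ULin) {g : X} {d d' : A} (e : (d' : X) = g * d * g⁻¹) :
    l.1 (h.incl d') = l.1 (h.incl d) := by
  obtain ⟨c, hc, hce⟩ := h.fusion_A e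
  exact h.M_hom (h.ulin_u l) hc hce

/-- For a fixed character, the restriction to `tA` is congruent to its multiple. -/
theorem two_sub_fixed {l : h.ULin}
    {χ : Cfsg.IrrCharacter X} (hl : Odd (h.fh (h.lamIrr l) χ)) (y : A) :
    Two ((χ : X → ℂ) ((dz T D) * y) - (h.fh (h.lamIrr l) χ : ℂ) * (l.1 (h.incl y) : ℂ)) := by
  set Q : A → Finset A := fun x => Finset.univ.filter (fun δ : A => IsConj (x : X) (δ : X)) with hQ
  set ω : A → ℂ := fun x => Cfsg.centralChar (χ : X → ℂ) (x : X) with hω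
  have hint := fun z : X => CfsgLib.BlockB.irr_isIntegral χ z
  have hconjl : ∀ a : A, IsIntegral ℤ (conj (l.1 (h.incl a) : ℂ)) := fun a => by
    rw [conj_hom_apply, ← map_inv]; exact isIntegral_hom _ _
  have s1 : ∀ x y : A, Two ((χ : X → ℂ) ((dz T D) * y) * ω x -
      ∑ δ ∈ Q x, (χ : X → ℂ) ((dz T D) * y * δ)) := by
    intro x y
    simp only [hω]
    rw [← class_sum χ ((dz T D) * (y : X)) (x : X)]
    set Cx : Finset X := Finset.univ.filter (IsConj (x : X)) with hCx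
    have hA : Cx.filter (fun c => c ∈ A) = (Q x).image (fun δ : A => (δ : X)) := by
      ext c
      simp only [hCx, hQ, Finset.mem_filter, Finset.mem_univ, true_and, Finset.mem_image]
      exact ⟨fun hc => ⟨⟨c, hc.2⟩, hc.1, rfl⟩, fun ⟨δ, hδ, e⟩ => e ▸ ⟨hδ, δ.2⟩⟩
    rw [← Finset.sum_filter_add_sum_filter_not Cx (fun c => c ∈ A), hA,
      Finset.sum_image Subtype.val_injective.injOn, add_sub_cancel_left,
      ← Finset.sum_filter_add_sum_filter_not (Cx.filter fun c => c ∉ A) (fun c => c * (dz T D) = (dz T D) * c)]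
    refine Two.add ?_ ?_
    · refine two_sum_invol _ (fun c => u * c * u⁻¹) ?_ ?_ ?_ ?_ (fun c _ => hint _)
      · intro c hc
        simp only [hCx, Finset.mem_filter, Finset.mem_univ, true_and] at hc ⊢
        refine ⟨⟨hc.1.1.trans (isConj_iff.2 ⟨u, rfl⟩), fun e => hc.1.2 ?_⟩, ?_⟩
        · have e2 : c = u⁻¹ * (u * c * u⁻¹) * u := by group
          rw [e2, mul_assoc, ← h.hAu _ e, inv_mul_cancel_left]
          exact e
        · have hu : Commute u (dz T D) := h.dz_comm_u.symm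
          exact ((hu.mul_left (show Commute c (dz T D) from hc.2)).mul_left hu.inv_left).eq
      · intro c _
        simp only [h.uinv, ← mul_assoc, h.uu', one_mul]
        rw [mul_assoc, h.uu', mul_one]
      · intro c hc e
        simp only [hCx, Finset.mem_filter, Finset.mem_univ, true_and] at hc
        have hcK : c ∈ K := h.mem_K_of_conj (h.A_le_K x.2) hc.1.1 hc.2
        exact hc.1.2 (h.uK_eq_self.1 (show h.uK ⟨c, hcK⟩ = ⟨c, hcK⟩ from Subtype.ext e))
      · intro c _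
        rw [← irr_isClassFunction χ.2 ((dz T D) * (y : X) * c) u]
        refine congrArg (χ : X → ℂ) ?_
        calc (dz T D) * (y : X) * (u * c * u⁻¹) = (dz T D) * ((y : X) * u) * c * u⁻¹ := by group
          _ = u * ((dz T D) * (y : X) * c) * u⁻¹ := by
            rw [← h.hAu _ y.2, ← mul_assoc, h.dz_comm_u]; group
    · refine two_sum_invol _ (fun c => (dz T D) * c * (dz T D)⁻¹) ?_ ?_ ?_ ?_ (fun c _ => hint _)
      · intro c hc
        simp only [hCx, Finset.mem_filter, Finset.mem_univ, true_and] at hc ⊢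
        refine ⟨⟨hc.1.1.trans (isConj_iff.2 ⟨(dz T D), rfl⟩), fun e => hc.2 ?_⟩, fun e => hc.2 ?_⟩
        · have e2 : c = (dz T D)⁻¹ * ((dz T D) * c * (dz T D)⁻¹) * (dz T D) := by group
          have e3 : (dz T D)⁻¹ * ((dz T D) * c * (dz T D)⁻¹) * (dz T D) ∈ A := by
            rw [mul_assoc, ← h.dz_comm_K (h.A_le_K e), inv_mul_cancel_left]; exact e
          rw [← e2] at e3
          exact (h.dz_comm_K (h.A_le_K e3)).symm
        · calc c * (dz T D) = (dz T D)⁻¹ * ((dz T D) * c * (dz T D)⁻¹ * (dz T D)) * (dz T D) := by group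
            _ = (dz T D)⁻¹ * ((dz T D) * ((dz T D) * c * (dz T D)⁻¹)) * (dz T D) := by rw [e]
            _ = (dz T D) * c := by group
      · intro c _
        simp only [invol_inv h.orderOf_dz, ← mul_assoc, invol_mul_self h.orderOf_dz, one_mul]
        rw [mul_assoc, invol_mul_self h.orderOf_dz, mul_one]
      · intro c hc e
        exact (Finset.mem_filter.1 hc).2 (mul_inv_eq_iff_eq_mul.1 e).symm
      · intro c _
        rw [← irr_isClassFunction χ.2 ((dz T D) * (y : X) * c) (dz T D)]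
        refine congrArg (χ : X → ℂ) ?_
        calc (dz T D) * (y : X) * ((dz T D) * c * (dz T D)⁻¹) = (dz T D) * ((y : X) * (dz T D)) * c * (dz T D)⁻¹ := by group
          _ = (dz T D) * ((dz T D) * (y : X) * c) * (dz T D)⁻¹ := by rw [← h.dz_comm_K (h.A_le_K y.2)]; group
  have hcr : Odd ((Nat.card A : ℤ) * h.cr l χ) :=
    ((Int.odd_coe_nat _).2 h.hAodd).mul (by
      have := Int.even_iff.1 (h.cr_fh_even l χ)
      rw [Int.odd_iff] at hl ⊢
      omega)
  have hshift : ∀ (z : A), ∑ y : A, conj (l.1 (h.incl y) : ℂ) * (χ : X → ℂ) ((dz T D) * y * z) =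
      (l.1 (h.incl z) : ℂ) * ((Nat.card A : ℂ) * h.cr l χ) := by
    intro z
    rw [h.cr_eq, Finset.mul_sum]
    refine Fintype.sum_equiv (Equiv.mulRight z) _ _ fun y => ?_
    rw [Equiv.coe_mulRight, Subgroup.coe_mul, map_mul, map_mul, Units.val_mul, map_mul,
      conj_hom_apply l.1 (h.incl z)]
    rw [show ∀ a b c : ℂ, (l.1 (h.incl z) : ℂ) * (a * (b * c)) = ((l.1 (h.incl z) : ℂ) * c) * (b * a) from
      fun a b c => by ring, ← Units.val_mul, mul_inv_cancel, Units.val_one, one_mul, mul_assoc (dz T D)]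
  have s2 : ∀ x : A, Two (ω x - ∑ δ ∈ Q x, (l.1 (h.incl δ) : ℂ)) := by
    intro x
    refine Two.cancel_odd hcr ((CfsgLib.BlockB.irr_centralChar_isIntegral χ _).sub
      (IsIntegral.sum _ fun δ _ => isIntegral_hom _ _)) ?_
    have h1 : Two (∑ y : A, conj (l.1 (h.incl y) : ℂ) * ((χ : X → ℂ) ((dz T D) * y) * ω x -
        ∑ δ ∈ Q x, (χ : X → ℂ) ((dz T D) * y * δ))) :=
      Two.sum _ fun y _ => (s1 x y).mul_left (hconjl y)
    convert h1 using 1
    simp only [mul_sub, Finset.sum_sub_distrib, Finset.mul_sum]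
    rw [Finset.sum_comm (s := Finset.univ), Finset.sum_congr rfl fun δ _ => hshift δ]
    push_cast
    rw [h.cr_eq, Finset.sum_mul]
    refine congrArg₂ (· - ·) ?_ ?_
    · exact Finset.sum_congr rfl fun y _ => by ring
    · exact Finset.sum_congr rfl fun δ _ => by rw [← h.cr_eq]; ring
  set gy : ℂ := (χ : X → ℂ) ((dz T D) * y) with hgy
  have s3 : ∀ x : A, Two (∑ δ ∈ Q x, (gy - conj (l.1 (h.incl δ) : ℂ) * (χ : X → ℂ) ((dz T D) * y * δ))) := by
    intro x
    have h1 : Two ((gy * ω x - ∑ δ ∈ Q x, (χ : X → ℂ) ((dz T D) * y * δ)) -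
        gy * (ω x - ∑ δ ∈ Q x, (l.1 (h.incl δ) : ℂ))) := (s1 x y).sub ((s2 x).mul_left (hint _))
    have h2 := h1.mul_left (hconjl x)
    convert h2 using 1
    simp only [Finset.sum_sub_distrib, mul_sub, Finset.mul_sum]
    have hone : ∀ δ ∈ Q x, (l.1 (h.incl δ) : ℂ) = (l.1 (h.incl x) : ℂ) := fun δ hδ => by
      obtain ⟨g, hg⟩ := isConj_iff.1 (Finset.mem_filter.1 hδ).2
      rw [h.fusion_lam l hg.symm]
    have e1 : conj (l.1 (h.incl x) : ℂ) * (l.1 (h.incl x) : ℂ) = 1 := by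
      rw [conj_hom_apply, ← Units.val_mul, inv_mul_cancel, Units.val_one]
    rw [Finset.sum_congr rfl fun δ hδ => show
        conj (l.1 (h.incl δ) : ℂ) * (χ : X → ℂ) ((dz T D) * y * δ) = conj (l.1 (h.incl x) : ℂ) * (χ : X → ℂ) ((dz T D) * y * δ) by
      rw [hone δ hδ],
      Finset.sum_congr rfl (s₂ := Q x) (g := fun _ => gy)
        (f := fun δ => conj (l.1 (h.incl x) : ℂ) * (gy * (l.1 (h.incl δ) : ℂ))) fun δ hδ => by
      rw [hone δ hδ, mul_left_comm, e1, mul_one]]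
    ring
  have htot : Two (∑ δ : A, (gy - conj (l.1 (h.incl δ) : ℂ) * (χ : X → ℂ) ((dz T D) * y * δ))) := by
    rw [← Finset.sum_fiberwise Finset.univ (fun δ : A => ConjClasses.mk (δ : X))]
    refine Two.sum _ fun C _ => ?_
    rcases (Finset.univ.filter fun δ : A => ConjClasses.mk (δ : X) = C).eq_empty_or_nonempty with
      e | ⟨x, hx⟩
    · rw [e, Finset.sum_empty]; exact Two.zero
    · have e : (Finset.univ.filter fun δ : A => ConjClasses.mk (δ : X) = C) = Q x := by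
        rw [← (Finset.mem_filter.1 hx).2]
        simp only [hQ]
        exact Finset.filter_congr fun δ _ => by
          rw [ConjClasses.mk_eq_mk_iff_isConj]; exact ⟨IsConj.symm, IsConj.symm⟩
      rw [e]; exact s3 x
  have hsum : ∑ δ : A, (gy - conj (l.1 (h.incl δ) : ℂ) * (χ : X → ℂ) ((dz T D) * y * δ)) =
      ((Nat.card A : ℤ) : ℂ) * (gy - (h.cr l χ : ℂ) * (l.1 (h.incl y) : ℂ)) := by
    rw [Finset.sum_sub_distrib, Finset.sum_const, Finset.card_univ, nsmul_eq_mul,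
      ← Nat.card_eq_fintype_card, Int.cast_natCast, mul_sub, ← mul_assoc, h.cr_eq, Finset.sum_mul]
    congr 1
    refine Fintype.sum_equiv (Equiv.mulLeft y) _ _ fun δ => ?_
    rw [Equiv.coe_mulLeft, Subgroup.coe_mul, ← mul_assoc, map_mul, map_mul, Units.val_mul, map_mul,
      conj_hom_apply l.1 (h.incl y)]
    rw [show ∀ a b c : ℂ, a * (b * c) * (l.1 (h.incl y) : ℂ) = (b * (l.1 (h.incl y) : ℂ)) * (c * a) from
      fun a b c => by ring, ← Units.val_mul, inv_mul_cancel, Units.val_one, one_mul]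
  rw [hsum] at htot
  have h1 : Two (gy - (h.cr l χ : ℂ) * (l.1 (h.incl y) : ℂ)) := Two.cancel_odd
    ((Int.odd_coe_nat _).2 h.hAodd) ((hint _).sub ((isIntegral_intCast _).mul (isIntegral_hom _ _)))
    htot
  obtain ⟨k, hk⟩ := h.cr_fh_even l χ
  have h2 : Two (((h.cr l χ - h.fh (h.lamIrr l) χ : ℤ) : ℂ) * (l.1 (h.incl y) : ℂ)) :=
    ⟨(k : ℂ) * (l.1 (h.incl y) : ℂ), (isIntegral_intCast k).mul (isIntegral_hom _ _), by
      rw [hk]; push_cast; ring⟩
  convert h1.add h2 using 1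
  push_cast
  ring

/-- Coefficients at the other characters of `K` fixed by `u` are even. -/
theorem fh_even_of_fixed {l : h.ULin} {χ : Cfsg.IrrCharacter X}
    (hl : Odd (h.fh (h.lamIrr l) χ)) (θ : Cfsg.IrrCharacter K) (hθ : h.Fix θ)
    (hne : θ ≠ h.lamIrr l) : Even (h.fh θ χ) := by
  set R : K → ℂ := fun k =>
    ((χ : X → ℂ) (dz T D * k) - (h.fh (h.lamIrr l) χ : ℂ) * (l.1 k : ℂ)) *
      conj ((θ : K → ℂ) k) with hR
  have hθint : ∀ k, IsIntegral ℤ (conj ((θ : K → ℂ) k)) := fun k => by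
    rw [← char_inv (irr_isCharacter θ.2)]; exact CfsgLib.BlockB.irr_isIntegral θ _
  have h1 := h.two_sum_K_sub R
    (fun k => by simp only [hR]; rw [h.chi_dz_uK, l.2, hθ])
    (fun k => ((CfsgLib.BlockB.irr_isIntegral χ _).sub
      ((isIntegral_intCast _).mul (isIntegral_hom _ _))).mul (hθint k))
  have h2 : Two (∑ d : A, R ⟨d, h.A_le_K d.2⟩) := Two.sum _ fun d _ => by
    simp only [hR]
    rw [mul_comm]
    exact (h.two_sub_fixed hl d).mul_left (hθint _)
  have h3 := h1.add h2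
  rw [sub_add_cancel] at h3
  have e : ∑ k : K, R k = (((Nat.card K : ℤ) * h.fh θ χ : ℤ) : ℂ) := by
    push_cast
    rw [h.co_eq]
    simp only [hR, sub_mul, Finset.sum_sub_distrib, mul_assoc, ← Finset.mul_sum]
    have h0 := irr_classInner_ne (h.lamIrr l).2 θ.2 (fun e => hne (Subtype.ext e).symm)
    rw [classInner_def, mul_eq_zero, or_iff_right (inv_ne_zero natCard_ne_zero)] at h0
    rw [show ∑ k : K, (l.1 k : ℂ) * conj ((θ : K → ℂ) k) = 0 from h0, mul_zero, sub_zero]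
  rw [e] at h3
  have := h3.even
  rw [Int.even_mul] at this
  exact this.resolve_left (Int.not_even_iff_odd.2 ((Int.odd_coe_nat _).2 h.hKodd))

end Congr

variable {X : Type v} [Group X] [Fintype X] [Fintype (Cfsg.IrrCharacter X)] {T : Sylow 2 X}
  {D : DihData (T : Subgroup X)} {u : X} {K F A : Subgroup X} (h : InvRot T D u K F A)
include h

local notation "q" => (2 * D.h)
local notation "Z" => ZMod (2 * D.h)

/-- The coefficient at the first exceptional column. -/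
noncomputable def P (θ : Cfsg.IrrCharacter K) (χ : Cfsg.IrrCharacter X) : ℤ := h.dif θ χ 1

/-- The coefficient at the last column. -/
noncomputable def Q (θ : Cfsg.IrrCharacter K) (χ : Cfsg.IrrCharacter X) : ℤ :=
  h.dif θ χ (D.h : Z)

theorem one_ne_zero' : (1 : Z) ≠ 0 := by
  rw [Ne, ← Nat.cast_one, ZMod.natCast_eq_zero_iff]
  intro e
  have := Nat.le_of_dvd one_pos e
  have := h.hh
  omega

theorem one_ne_neg_one : (1 : Z) ≠ -1 := by
  rw [Ne, eq_neg_iff_add_eq_zero, show (1 : Z) + 1 = ((2 : ℕ) : Z) by norm_num,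
    ZMod.natCast_eq_zero_iff]
  intro e
  have := Nat.le_of_dvd two_pos e
  have := h.hh
  omega

theorem half_neg : -(D.h : Z) = (D.h : Z) := by
  rw [neg_eq_iff_add_eq_zero, ← Nat.cast_add, ZMod.natCast_eq_zero_iff]
  exact ⟨1, by ring⟩

theorem one_ne_half : (1 : Z) ≠ (D.h : Z) := fun e => by
  refine h.one_ne_neg_one ?_
  rw [e, h.half_neg]

theorem P_norm {θ : Cfsg.IrrCharacter K} (hθ : h.Fix θ) :
    ∑ χ : Cfsg.IrrCharacter X, h.P θ χ * h.P θ χ = 3 := by
  simp only [P, h.dif_norm θ θ hθ h.one_ne_zero' h.one_ne_zero', if_neg h.one_ne_neg_one, if_pos]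
  norm_num

theorem Q_norm {θ : Cfsg.IrrCharacter K} (hθ : h.Fix θ) :
    ∑ χ : Cfsg.IrrCharacter X, h.Q θ χ * h.Q θ χ = 4 := by
  simp only [Q, h.dif_norm θ θ hθ h.half_ne_zero h.half_ne_zero, h.half_neg, if_pos]
  norm_num

theorem PQ_inner {θ : Cfsg.IrrCharacter K} (hθ : h.Fix θ) :
    ∑ χ : Cfsg.IrrCharacter X, h.P θ χ * h.Q θ χ = 2 := by
  simp only [P, Q, h.dif_norm θ θ hθ h.one_ne_zero' h.half_ne_zero, h.half_neg,
    if_neg h.one_ne_half, if_pos]
  norm_num

theorem PQ_cross {θ θ' : Cfsg.IrrCharacter K} (hθ' : h.Fix θ') (hne : θ ≠ θ') :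
    ∑ χ : Cfsg.IrrCharacter X, h.P θ χ * h.Q θ' χ = 0 := by
  simp only [P, Q, h.dif_norm θ θ' hθ' h.one_ne_zero' h.half_ne_zero, if_neg hne]

theorem P_abs {θ : Cfsg.IrrCharacter K} (hθ : h.Fix θ) (χ : Cfsg.IrrCharacter X) :
    |h.P θ χ| ≤ 1 := by
  have h1 := h.P_norm hθ
  have h2 := Finset.single_le_sum (fun χ _ => mul_self_nonneg (h.P θ χ)) (Finset.mem_univ χ)
  rw [h1] at h2
  rw [abs_le]
  constructor <;> nlinarith

theorem Q_abs {θ : Cfsg.IrrCharacter K} (hθ : h.Fix θ) (χ : Cfsg.IrrCharacter X) :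
    |h.Q θ χ| ≤ 1 := by
  by_contra hc
  rw [not_le] at hc
  have h4 : 4 ≤ h.Q θ χ * h.Q θ χ := by
    rw [← abs_mul_abs_self]
    nlinarith
  have hzero : ∀ χ', χ' ≠ χ → h.Q θ χ' = 0 := by
    intro χ' hne
    have h1 := h.Q_norm hθ
    have h2 := Finset.sum_le_sum_of_subset_of_nonneg (Finset.subset_univ ({χ, χ'} : Finset _))
      fun χ _ _ => mul_self_nonneg (h.Q θ χ)
    rw [h1, Finset.sum_pair hne.symm] at h2
    exact mul_self_eq_zero.1 (le_antisymm (by linarith) (mul_self_nonneg _))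
  have h3 := h.dif_degree θ (D.h : Z)
  rw [Finset.sum_eq_single χ (fun χ' _ hne => by
    rw [show h.dif θ χ' (D.h : Z) = 0 from hzero χ' hne, Int.cast_zero, mul_zero]) (by simp)] at h3
  rcases mul_eq_zero.1 h3 with e | e
  · exact irr_apply_one_ne_zero χ.2 e
  · have e' : h.Q θ χ = 0 := Int.cast_eq_zero.1 e
    rw [e'] at h4
    norm_num at h4

omit [Fintype (Cfsg.IrrCharacter X)] in
theorem fh_parity {θ : Cfsg.IrrCharacter K} (hθ : h.Fix θ) (χ : Cfsg.IrrCharacter X) :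
    Even (h.fh θ χ - h.Q θ χ) :=
  CyclicVec.even_sum_sg_sub (h.mult_neg hθ χ)

omit [Fintype (Cfsg.IrrCharacter X)] in
theorem D2_of_ne {θ : Cfsg.IrrCharacter K} {χ : Cfsg.IrrCharacter X} {ν : Z}
    (hν : h.dif θ χ ν ≠ 0) : 2 * ((q : ℕ) - 1 : ℤ) ≤ D2 (h.mult θ χ) :=
  CyclicVec.D2_nonconst (ν := ν) fun e => hν (by rw [dif, e, sub_self])

omit [Fintype (Cfsg.IrrCharacter X)] in
theorem D2_cases (θ : Cfsg.IrrCharacter K) (χ : Cfsg.IrrCharacter X) :
    D2 (h.mult θ χ) = 0 ∨ ∃ ν, h.dif θ χ ν ≠ 0 := by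
  by_cases hc : ∃ ν, h.dif θ χ ν ≠ 0
  · exact Or.inr hc
  push Not at hc
  refine Or.inl (Finset.sum_eq_zero fun ν _ => Finset.sum_eq_zero fun μ _ => ?_)
  have h1 : h.mult θ χ ν = h.mult θ χ μ := by
    linarith [(show h.mult θ χ 0 - h.mult θ χ ν = 0 from hc ν),
      (show h.mult θ χ 0 - h.mult θ χ μ = 0 from hc μ)]
  rw [h1, sub_self, mul_zero]

omit [Fintype (Cfsg.IrrCharacter X)] in
theorem D2_pair [Fintype (Cfsg.IrrCharacter K)] (χ : Cfsg.IrrCharacter X)
    {θ θ' : Cfsg.IrrCharacter K} (hne : θ ≠ θ') :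
    D2 (h.mult θ χ) + D2 (h.mult θ' χ) < 4 * (q : ℕ) := by
  refine lt_of_le_of_lt ?_ (h.weight_lt χ)
  rw [← Finset.sum_pair (f := fun θ => D2 (h.mult θ χ)) hne]
  exact Finset.sum_le_sum_of_subset_of_nonneg (Finset.subset_univ _) fun _ _ _ => CyclicVec.D2_nonneg _

/-- What two fixed characters on one constituent look like. -/
theorem shared {l : h.ULin} {θ : Cfsg.IrrCharacter K} (hθ : h.Fix θ) (hne : θ ≠ h.lamIrr l)
    {χ : Cfsg.IrrCharacter X} {ν : Z} (hl : h.dif (h.lamIrr l) χ ν ≠ 0) {μ : Z}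
    (hθn : h.dif θ χ μ ≠ 0) :
    (h.Q (h.lamIrr l) χ ≠ 0 → h.Q θ χ = 0 ∧ h.P θ χ ≠ 0) ∧
      (h.Q (h.lamIrr l) χ = 0 → h.Q θ χ ≠ 0) := by
  have := Fintype.ofFinite (Cfsg.IrrCharacter K)
  have hq := h.four_le_q
  have hq' : (4 : ℤ) ≤ (q : ℕ) := by exact_mod_cast hq
  have hfix := h.lamIrr_fix l
  have hpair := h.D2_pair χ (Ne.symm hne)
  have hbal : ∀ {θ : Cfsg.IrrCharacter K}, h.Fix θ → ∀ {ν : Z}, h.dif θ χ ν ≠ 0 →
      h.Q θ χ = 0 → 4 * ((q : ℕ) - 2 : ℤ) ≤ D2 (h.mult θ χ) := fun {θ} hθ {ν} hν h0 =>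
    CyclicVec.D2_balanced (h.mult_neg hθ χ) (sub_eq_zero.1 h0).symm (ν := ν)
      fun e => hν (by rw [dif, e, sub_self])
  refine ⟨fun hQ => ?_, fun hQ hQ' => ?_⟩
  · have hodd : Odd (h.fh (h.lamIrr l) χ) := by
      have h1 := Int.even_iff.1 (h.fh_parity hfix χ)
      obtain ⟨a, b⟩ := abs_le.1 (h.Q_abs hfix χ)
      rw [Int.odd_iff]
      omega
    have hQ' : h.Q θ χ = 0 := by
      have h1 := Int.even_iff.1 (h.fh_even_of_fixed hodd θ hθ hne)
      have h2 := Int.even_iff.1 (h.fh_parity hθ χ)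
      obtain ⟨a, b⟩ := abs_le.1 (h.Q_abs hθ χ)
      omega
    refine ⟨hQ', fun hP => ?_⟩
    have h1 := h.D2_of_ne hl
    have h2 := hbal hθ hθn hQ'
    have hh2 : D.h = 2 := by
      have := h.hh
      by_contra hne2
      have : (6 : ℤ) ≤ (q : ℕ) := by exact_mod_cast (show 6 ≤ 2 * D.h by omega)
      linarith
    refine hθn ?_
    have hcases : μ = 0 ∨ μ = 1 ∨ μ = (D.h : Z) ∨ μ = -1 := by
      have hv := ZMod.val_lt μ
      rw [← ZMod.natCast_zmod_val μ]
      rcases (by omega : μ.val = 0 ∨ μ.val = 1 ∨ μ.val = 2 ∨ μ.val = 3) with e | e | e | e <;> rw [e]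
      · simp
      · simp
      · rw [hh2]; simp
      · refine Or.inr (Or.inr (Or.inr ?_))
        rw [eq_neg_iff_add_eq_zero, show ((3 : ℕ) : Z) + 1 = ((4 : ℕ) : Z) by norm_num,
          ZMod.natCast_eq_zero_iff, hh2]
    rcases hcases with rfl | rfl | rfl | rfl
    · rw [dif, sub_self]
    · exact hP
    · exact hQ'
    · rw [dif, h.mult_neg hθ]; exact hP
  · have h1 := hbal hfix hl hQ
    have h2 := hbal hθ hθn hQ'
    linarith

/-- A constituent sees only `l`. -/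
theorem unique {l : h.ULin} {χ : Cfsg.IrrCharacter X} (hP : h.P (h.lamIrr l) χ ≠ 0)
    {θ : Cfsg.IrrCharacter K} (hne : θ ≠ h.lamIrr l) : D2 (h.mult θ χ) = 0 := by
  refine (h.D2_cases θ χ).resolve_right ?_
  rintro ⟨μ, hμ⟩
  have := Fintype.ofFinite (Cfsg.IrrCharacter K)
  have hq : (4 : ℤ) ≤ (q : ℕ) := by exact_mod_cast h.four_le_q
  have hfix := h.lamIrr_fix l
  by_cases hθ : h.Fix θ
  swap
  · have hne' : h.conjU θ ≠ θ := fun e => hθ ((h.fix_iff θ).2 e)
    have hne2 : h.conjU θ ≠ h.lamIrr l := fun e => hne (by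
      have e2 : h.conjU (h.conjU θ) = θ := Subtype.ext (funext fun k => by
        show (θ : K → ℂ) (h.uK (h.uK k)) = _
        rw [h.uK_uK])
      rw [← e2, e]
      exact (h.fix_iff _).1 hfix)
    have h3 := Finset.sum_le_sum_of_subset_of_nonneg
      (Finset.subset_univ ({θ, h.conjU θ, h.lamIrr l} : Finset (Cfsg.IrrCharacter K)))
      (f := fun θ => D2 (h.mult θ χ)) fun _ _ _ => CyclicVec.D2_nonneg _
    rw [Finset.sum_insert (by simp [Ne.symm hne', hne]), Finset.sum_pair hne2, h.D2_conjU] at h3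
    have h4 := h.weight_lt χ
    have h5 := h.D2_of_ne hμ
    have h6 := h.D2_of_ne (ν := 1) hP
    linarith
  obtain ⟨hA, hB⟩ := h.shared hθ hne (ν := 1) hP hμ
  have hsh : ∀ {χ' : Cfsg.IrrCharacter X}, h.Q (h.lamIrr l) χ' ≠ 0 → h.Q θ χ' = 0 := by
    intro χ' hQ
    by_contra hQ'
    exact hQ' ((h.shared hθ hne hQ hQ').1 hQ).1
  by_cases hQ : h.Q (h.lamIrr l) χ = 0
  · have hQ' := hB hQ
    have hsum := h.PQ_cross (θ := h.lamIrr l) hθ (Ne.symm hne)
    rw [Finset.sum_eq_single χ (fun χ' _ hχ' => ?_) (by simp)] at hsum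
    · exact mul_ne_zero hP hQ' hsum
    · by_cases hP' : h.P (h.lamIrr l) χ' = 0
      · rw [hP', zero_mul]
      · rw [hsh (support_of_inner (h.P_abs hfix) (h.Q_abs hfix) (h.P_norm hfix) (h.PQ_inner hfix)
          hP hQ hχ' hP'), mul_zero]
  · obtain ⟨hQ', hPθ⟩ := hA hQ
    have hsum := h.PQ_cross (θ := θ) hfix hne
    rw [Finset.sum_eq_single χ (fun χ' _ hχ' => ?_) (by simp)] at hsum
    · exact mul_ne_zero hPθ hQ hsum
    · by_cases hP' : h.P θ χ' = 0
      · rw [hP', zero_mul]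
      · have hQ2 := support_of_inner (h.P_abs hθ) (h.Q_abs hθ) (h.P_norm hθ) (h.PQ_inner hθ)
          hPθ hQ' hχ' hP'
        have hQ3 : h.Q (h.lamIrr l) χ' = 0 := by_contra fun e => hQ2 (hsh e)
        rw [hQ3, mul_zero]

/-- The values of a constituent on the sections. -/
theorem chi_sect {l : h.ULin} {χ : Cfsg.IrrCharacter X} (hP : h.P (h.lamIrr l) χ ≠ 0) {i : Z}
    (hi : i ≠ 0) (k : K) :
    (χ : X → ℂ) (h.rp i * k) = h.f (h.lamIrr l) χ i * (l.1 k : ℂ) := by
  have := Fintype.ofFinite (Cfsg.IrrCharacter K)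
  rw [h.expand χ i k, Finset.sum_eq_single (h.lamIrr l)]
  · rfl
  · intro θ _ hne
    have hconst := CyclicVec.D2_eq_zero (h.unique hP hne)
    rw [h.f_eq, Finset.sum_congr rfl fun ν _ => by rw [hconst ν 0], ← Finset.sum_mul]
    have e := psi_sum D i
    rw [if_neg hi] at e
    rw [e, zero_mul, zero_mul]
  · simp

end InvRot

end CfsgLib.GW.Twist
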