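import Cfsg.Agent.Lib.GW.Twist.KleinSetup
import Cfsg.Agent.Lib.Char.LinearSum

/-!
# The twist lemma for a four-group Sylow 2-subgroup: coefficients on `tK`
-/

set_option autoImplicit false
set_option linter.unusedSectionVars false
set_option linter.unusedDecidableInType false

namespace CfsgLib.GW.Twist

open CfsgLib.Char
open CfsgLib.Recog.NonCA (eq_one_of_sq_of_odd mem_of_sq_mem Two two_sum_invol four_cases cf cfZ
  cfZ_cast cf_add_inner cf_norm cf_degree irr_degree_nat isIntegral_hom conj_hom_apply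
  sum_conj_mul_hom sum_all_hom hom_eq_one_of_sq class_sum isIntegral_natCast isIntegral_intCast
  conj_mem_cen)
open scoped ComplexConjugate

universe v w

namespace TwistCent

variable {X : Type v} [Group X] {t u n : X} {F A : Subgroup X}

section Basic

variable (h : TwistCent t u n F A)
include h

theorem exists_dpart (k : h.K) : ∃ d : A, ∃ f ∈ F, (k : X) = f * (d : X) := by
  obtain ⟨f, hf, d, hd, e⟩ := h.mem_K.1 k.2
  exact ⟨⟨d, hd⟩, f, hf, e⟩

/-- The `A`-part of an element of `K`. -/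
noncomputable def dpart (k : h.K) : A := (h.exists_dpart k).choose

theorem dpart_eq {k : h.K} {f : X} (hf : f ∈ F) {d : A} (e : (k : X) = f * (d : X)) :
    h.dpart k = d := by
  obtain ⟨f', hf', e'⟩ := (h.exists_dpart k).choose_spec
  exact Subtype.ext (h.FD_ext hf' hf (h.dpart k).2 d.2 (e'.symm.trans e)).2

/-- The projection `K → A`. -/
noncomputable def proj : h.K →* A := MonoidHom.mk' h.dpart fun a b => by
  obtain ⟨f, hf, e⟩ := (h.exists_dpart a).choose_spec
  obtain ⟨f', hf', e'⟩ := (h.exists_dpart b).choose_spec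
  have e2 : ((a * b : h.K) : X) =
      (f * ((h.dpart a : X) * f' * (h.dpart a : X)⁻¹)) * ((h.dpart a * h.dpart b : A) : X) := by
    rw [Subgroup.coe_mul, Subgroup.coe_mul]
    exact (congrArg₂ (· * ·) e e').trans h.mul_FD
  exact h.dpart_eq (mul_mem hf (h.hAF _ (h.dpart a).2 f' hf')) e2

theorem proj_eq {k : h.K} {f : X} (hf : f ∈ F) {d : A} (e : (k : X) = f * (d : X)) :
    h.proj k = d := h.dpart_eq hf e

/-- The inflation of a character of `A` to `K`. -/
noncomputable def lamK (l : A →* ℂˣ) : h.K →* ℂˣ := l.comp h.proj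

theorem lamK_apply {l : A →* ℂˣ} {k : h.K} {f : X} (hf : f ∈ F) {d : A}
    (e : (k : X) = f * (d : X)) : h.lamK l k = l d := by
  rw [lamK, MonoidHom.comp_apply, h.proj_eq hf e]

theorem K_comm (k : h.K) : t * h.K.subtype k = h.K.subtype k * t :=
  (h.mem_M_iff.1 (h.K_le_M k.2)).symm

theorem D_comm (d : A) : t * A.subtype d = A.subtype d * t := h.hAt d d.2

theorem F_hom_comm (a b : F) : a * b = b * a := Subtype.ext (h.hFcomm _ a.2 _ b.2)

/-- Conjugation by `n` on `A`. -/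
def sig : A →* A where
  toFun d := ⟨n * d * n⁻¹, h.hAn d d.2⟩
  map_one' := Subtype.ext (by simp)
  map_mul' a b := Subtype.ext (by simp [mul_assoc])

theorem sig_apply (d : A) : (h.sig d : X) = n * d * n⁻¹ := rfl

theorem sig_injective : Function.Injective h.sig := fun a b e => Subtype.ext (by
  simpa [sig] using congrArg Subtype.val e)

/-- `sig` as an equivalence. -/
noncomputable def sigEquiv [Finite X] : A ≃ A :=
  Equiv.ofBijective h.sig ⟨h.sig_injective, Finite.surjective_of_injective h.sig_injective⟩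

theorem comp_sig_cube [Finite X] (l : A →* ℂˣ) :
    ((l.comp h.sig).comp h.sig).comp h.sig = l := by
  obtain ⟨e, he, hed⟩ := h.n_cube
  refine MonoidHom.ext fun d => ?_
  have e1 : h.sig (h.sig (h.sig d)) = ⟨e, he⟩ * d * ⟨e, he⟩⁻¹ := Subtype.ext (hed d d.2)
  simp only [MonoidHom.comp_apply, e1, map_mul, map_inv]
  rw [mul_right_comm, mul_inv_cancel, one_mul]

theorem fixed_fusion [Finite X] {l : A →* ℂˣ} (hl : l.comp h.sig = l) {g : X} {d d' : A}
    (e : (d' : X) = g * d * g⁻¹) : l d' = l d := by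
  refine h.fusion_hom (fun a a' ea => ?_) e
  rw [show a' = h.sig a from Subtype.ext ea]
  exact DFunLike.congr_fun hl a

/-- Conjugation by `M` on `K`. -/
theorem K_normal {g : X} (hg : g ∈ h.M) (k : h.K) :
    ∃ k' : h.K, h.K.subtype k' = g * h.K.subtype k * g⁻¹ ∧
      ∀ l : A →* ℂˣ, h.lamK l k' = h.lamK l k := by
  obtain ⟨e, he, hed⟩ := h.M_K hg
  obtain ⟨f, hf, d, hd, ek⟩ := h.mem_K.1 k.2
  obtain ⟨f', hf', e'⟩ := hed f hf d hd
  have hd' : e * d * e⁻¹ ∈ A := mul_mem (mul_mem he hd) (inv_mem he)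
  refine ⟨⟨g * k * g⁻¹, by rw [ek, e']; exact h.FD_mem_K hf' hd'⟩, rfl, fun l => ?_⟩
  rw [h.lamK_apply hf (d := ⟨d, hd⟩) ek,
    h.lamK_apply hf' (d := ⟨_, hd'⟩) (show g * (k : X) * g⁻¹ = f' * (e * d * e⁻¹) by rw [ek, e'])]
  rw [show (⟨e * d * e⁻¹, hd'⟩ : A) = ⟨e, he⟩ * ⟨d, hd⟩ * ⟨e, he⟩⁻¹ from rfl, map_mul, map_mul,
    map_inv, mul_right_comm, mul_inv_cancel, one_mul]

/-- Conjugation by `u` on `K`. -/
def uK : h.K → h.K := fun k => ⟨u * k * u⁻¹, h.W_K h.u_mem_W k.2⟩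

theorem uK_coe (k : h.K) : (h.uK k : X) = u * k * u⁻¹ := rfl

theorem uK_mul (a b : h.K) : h.uK (a * b) = h.uK a * h.uK b := Subtype.ext (by
  simp only [uK_coe, Subgroup.coe_mul]; group)

theorem uK_inv (a : h.K) : h.uK a⁻¹ = (h.uK a)⁻¹ := Subtype.ext (by
  simp only [uK_coe, Subgroup.coe_inv]; group)

theorem uK_uK (k : h.K) : h.uK (h.uK k) = k := Subtype.ext (by
  simp only [uK_coe, h.uinv, ← mul_assoc, h.uu', one_mul]
  rw [mul_assoc, h.uu', mul_one])

/-- Conjugation by `u` on `K`, as an equivalence. -/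
def uEquiv : h.K ≃ h.K := ⟨h.uK, h.uK, h.uK_uK, h.uK_uK⟩

theorem lamK_uK (l : A →* ℂˣ) (k : h.K) : h.lamK l (h.uK k) = h.lamK l k := by
  obtain ⟨f, hf, d, hd, ek⟩ := h.mem_K.1 k.2
  rw [h.lamK_apply hf (d := ⟨d, hd⟩) ek, h.lamK_apply (inv_mem hf) (d := ⟨d, hd⟩)]
  rw [uK_coe, ek, ← h.hFu f hf]
  calc u * (f * d) * u⁻¹ = u * f * (d * u⁻¹) := by group
    _ = u * f * (u⁻¹ * d) := by rw [h.uinv, h.hAu d hd]
    _ = u * f * u⁻¹ * d := by group

theorem uK_eq_self [Finite X] {k : h.K} : h.uK k = k ↔ (k : X) ∈ A := by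
  constructor
  · intro e
    obtain ⟨f, hf, d, hd, ek⟩ := h.mem_K.1 k.2
    have e1 : u * (k : X) * u⁻¹ = k := congrArg Subtype.val e
    have e2 : u * (k : X) * u⁻¹ = f⁻¹ * d := by
      rw [ek, ← h.hFu f hf]
      calc u * (f * d) * u⁻¹ = u * f * (d * u⁻¹) := by group
        _ = u * f * (u⁻¹ * d) := by rw [h.uinv, h.hAu d hd]
        _ = u * f * u⁻¹ * d := by group
    rw [e2, ek, mul_left_inj] at e1
    have hf1 : f = 1 := eq_one_of_sq_of_odd h.hFodd hf (by
      nth_rewrite 2 [← e1]; exact mul_inv_cancel f)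
    rw [ek, hf1, one_mul]; exact hd
  · intro hk
    refine Subtype.ext ?_
    rw [uK_coe, h.hAu _ hk, mul_inv_cancel_right]

theorem t_comm_K (k : h.K) : t * (k : X) = (k : X) * t := h.K_comm k

end Basic

section Defs

variable [Fintype X] (h : TwistCent t u n F A)

open scoped _root_.Classical in
/-- The coefficient of a linear character of `A`. -/
noncomputable def cl (l : A →* ℂˣ) (χ : Cfsg.IrrCharacter X) : ℤ :=
  cfZ h.ht h.K_comm (h.lamK l) χ

open scoped _root_.Classical in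
/-- The coefficient on `t A`. -/
noncomputable def cr (l : A →* ℂˣ) (χ : Cfsg.IrrCharacter X) : ℤ :=
  cfZ h.ht h.D_comm l χ

end Defs

section Sums

open scoped _root_.Classical

variable [Fintype X] (h : TwistCent t u n F A)
include h

theorem cl_cast (l : A →* ℂˣ) (χ : Cfsg.IrrCharacter X) :
    (h.cl l χ : ℂ) = cf t h.K.subtype (h.lamK l) (χ : X → ℂ) := cfZ_cast _ _ _ _

theorem cr_cast (l : A →* ℂˣ) (χ : Cfsg.IrrCharacter X) :
    (h.cr l χ : ℂ) = cf t A.subtype l (χ : X → ℂ) := cfZ_cast _ _ _ _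

theorem cl_eq (l : A →* ℂˣ) (χ : Cfsg.IrrCharacter X) :
    (Nat.card h.K : ℂ) * h.cl l χ = ∑ k : h.K, (χ : X → ℂ) (t * k) * conj (h.lamK l k : ℂ) := by
  rw [cl_cast, cf, ← mul_assoc, mul_inv_cancel₀ natCard_ne_zero, one_mul]
  rfl

theorem cr_eq (l : A →* ℂˣ) (χ : Cfsg.IrrCharacter X) :
    (Nat.card A : ℂ) * h.cr l χ = ∑ d : A, (χ : X → ℂ) (t * d) * conj (l d : ℂ) := by
  rw [cr_cast, cf, ← mul_assoc, mul_inv_cancel₀ natCard_ne_zero, one_mul]
  rfl

theorem card_prod_image {Γ : Type w} [Group Γ] [Fintype Γ] (S : Finset X) (hS : ∀ w ∈ S, w ∈ h.W)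
    (ι : Γ →* X) (hinj : Function.Injective ι) (hK : ∀ γ, ι γ ∈ h.K) :
    ((S ×ˢ (Finset.univ : Finset Γ)).image fun p => p.1 * ι p.2).card = S.card * Nat.card Γ := by
  rw [Finset.card_image_of_injOn, Finset.card_product, Finset.card_univ, Nat.card_eq_fintype_card]
  rintro ⟨w, γ⟩ hp ⟨w', γ'⟩ hp' e
  simp only [Finset.coe_product, Set.mem_prod, Finset.mem_coe] at hp hp'
  have e' : w * ι γ = w' * ι γ' := e
  have h1 : w'⁻¹ * w = ι γ' * (ι γ)⁻¹ := by
    calc w'⁻¹ * w = w'⁻¹ * (w * ι γ) * (ι γ)⁻¹ := by group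
      _ = w'⁻¹ * (w' * ι γ') * (ι γ)⁻¹ := by rw [e']
      _ = ι γ' * (ι γ)⁻¹ := by group
  have h2 : w'⁻¹ * w = 1 := h.W_inter_K
    (by rw [h.W_inv (hS _ hp'.1)]; exact h.W_mul (hS _ hp'.1) (hS _ hp.1))
    (h1 ▸ mul_mem (hK γ') (inv_mem (hK γ)))
  have h3 : w' = w := inv_mul_eq_one.1 h2
  rw [h3, mul_right_inj] at e'
  exact Prod.ext h3.symm (hinj e')

theorem M_filter :
    (Finset.univ.filter fun g : X => g * t * g⁻¹ = t) =
      ((({1, t, u, t * u} : Finset X)) ×ˢ (Finset.univ : Finset h.K)).image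
        fun p => p.1 * h.K.subtype p.2 := by
  ext g
  simp only [Finset.mem_filter, Finset.mem_univ, true_and, and_true, Finset.mem_image,
    Finset.mem_product, Finset.mem_insert, Finset.mem_singleton, Prod.exists]
  rw [← h.mem_M_conj, h.mem_M]
  constructor
  · rintro ⟨w, hw, k, hk, rfl⟩
    exact ⟨w, ⟨k, hk⟩, h.mem_W.1 hw, rfl⟩
  · rintro ⟨w, k, hw, rfl⟩
    exact ⟨w, h.mem_W.2 hw, k, k.2, rfl⟩

theorem card_W : ({1, t, u, t * u} : Finset X).card = 4 := by
  have h1 : (1 : X) ≠ t := Ne.symm h.t_ne_one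
  have h2 : (1 : X) ≠ u := Ne.symm h.u_ne_one
  have h3 : (1 : X) ≠ t * u := fun e => h.hne (by
    calc t = t * u * u := by rw [mul_assoc, h.uu', mul_one]
      _ = u := by rw [← e, one_mul])
  have h4 : t ≠ t * u := fun e => h.u_ne_one (mul_left_cancel ((mul_one t).trans e)).symm
  have h5 : u ≠ t * u := fun e => h.t_ne_one (mul_right_cancel ((one_mul u).trans e)).symm
  simp [h1, h2, h3, h4, h5, h.hne]

theorem card_M : (Finset.univ.filter fun g : X => g * t * g⁻¹ = t).card =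
    4 * (Nat.card F * Nat.card A) := by
  rw [h.M_filter, h.card_prod_image _ (fun w hw => ?_) _ h.K.subtype_injective (fun k => k.2),
    h.card_W, h.card_K]
  simpa [h.mem_W] using hw

theorem lamK_injective {l l' : A →* ℂˣ} (e : h.lamK l = h.lamK l') : l = l' := by
  refine MonoidHom.ext fun d => ?_
  have hd : ((⟨d, h.D_le_K d.2⟩ : h.K) : X) = (1 : X) * (d : X) := (one_mul _).symm
  have := DFunLike.congr_fun e ⟨d, h.D_le_K d.2⟩
  rwa [h.lamK_apply (one_mem _) hd, h.lamK_apply (one_mem _) hd] at this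

variable [Fintype (Cfsg.IrrCharacter X)]

theorem cl_norm (l l' : A →* ℂˣ) :
    ∑ χ : Cfsg.IrrCharacter X, h.cl l χ * h.cl l' χ = if l = l' then 4 else 0 := by
  have hn := cf_norm h.ht h.K.subtype_injective h.K_comm h.odd_K (h.lamK l) (h.lamK l')
    (fun g hg k => (h.K_normal (h.mem_M_conj.2 hg) k).imp fun _ e => e.1)
  simp only [← h.cl_cast, map_intCast] at hn
  apply Int.cast_injective (α := ℂ)
  push_cast
  rw [hn]
  by_cases e : l = l'
  · subst e
    rw [Finset.filter_congr (q := fun g : X => g * t * g⁻¹ = t)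
      (fun g _ => and_iff_left_of_imp fun hg γ γ' e => by
        obtain ⟨k', hk', hl⟩ := h.K_normal (h.mem_M_conj.2 hg) γ
        rw [show γ' = k' from Subtype.ext (e.trans hk'.symm), hl l]), h.card_M, ← h.card_K,
      if_pos rfl]
    have : (Nat.card h.K : ℂ) ≠ 0 := natCard_ne_zero
    push_cast
    field_simp
  · rw [if_neg e, Finset.filter_eq_empty_iff.2]
    · simp
    · intro g _ hg
      refine e (h.lamK_injective (MonoidHom.ext fun k => ?_))
      obtain ⟨k', hk', hl⟩ := h.K_normal (h.mem_M_conj.2 hg.1) k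
      rw [← hg.2 k k' hk', hl l']

theorem cl_degree (l : A →* ℂˣ) :
    ∑ χ : Cfsg.IrrCharacter X, (χ : X → ℂ) 1 * (h.cl l χ : ℂ) = 0 := by
  simp only [h.cl_cast]
  exact cf_degree h.ht h.K.subtype_injective h.K_comm h.odd_K _

theorem cl_cases (l : A →* ℂˣ) :
    (∀ χ, h.cl l χ = 0 ∨ h.cl l χ = 1 ∨ h.cl l χ = -1) ∧
      (Finset.univ.filter fun χ => h.cl l χ ≠ 0).card = 4 := by
  choose d hd0 hd using fun χ : Cfsg.IrrCharacter X => irr_degree_nat χ
  refine four_cases (fun χ => h.cl l χ) (fun χ => (d χ : ℤ)) (fun χ => by exact_mod_cast hd0 χ)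
    (by rw [h.cl_norm, if_pos rfl]) ?_
  apply Int.cast_injective (α := ℂ)
  push_cast
  simp only [← hd]
  exact h.cl_degree l

omit [Fintype (Cfsg.IrrCharacter X)] in
/-- Sums over `K` of functions invariant under `u` are sums over `A` modulo two. -/
theorem two_sum_K_sub (φ : h.K → ℂ) (hinv : ∀ k, φ (h.uK k) = φ k)
    (hint : ∀ k, IsIntegral ℤ (φ k)) :
    Two (∑ k : h.K, φ k - ∑ d : A, φ ⟨d, h.D_le_K d.2⟩) := by
  have e : ∑ d : A, φ ⟨d, h.D_le_K d.2⟩ =
      ∑ k ∈ Finset.univ.filter (fun k : h.K => (k : X) ∈ A), φ k := by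
    refine Finset.sum_bij (fun d _ => (⟨d, h.D_le_K d.2⟩ : h.K))
      (fun d _ => Finset.mem_filter.2 ⟨Finset.mem_univ _, d.2⟩)
      (fun a _ b _ e => Subtype.ext (congrArg (fun k : h.K => (k : X)) e))
      (fun k hk => ⟨⟨k, (Finset.mem_filter.1 hk).2⟩, Finset.mem_univ _, rfl⟩) (fun d _ => rfl)
  rw [e, ← Finset.sum_filter_add_sum_filter_not Finset.univ (fun k : h.K => (k : X) ∈ A),
    add_sub_cancel_left]
  refine two_sum_invol _ h.uK ?_ (fun k _ => h.uK_uK k) ?_ (fun k _ => hinv k) (fun k _ => hint k)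
  · intro k hk
    simp only [Finset.mem_filter, Finset.mem_univ, true_and] at hk ⊢
    intro e
    refine hk ?_
    rw [← h.uK_uK k, show h.uK (h.uK k) = h.uK k from h.uK_eq_self.2 e]
    exact e
  · intro k hk e
    exact (Finset.mem_filter.1 hk).2 (h.uK_eq_self.1 e)

omit [Fintype (Cfsg.IrrCharacter X)] in
theorem chi_t_uK (χ : Cfsg.IrrCharacter X) (k : h.K) :
    (χ : X → ℂ) (t * h.uK k) = (χ : X → ℂ) (t * k) := by
  have e : t * (h.uK k : X) = u * (t * k) * u⁻¹ := by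
    rw [uK_coe, ← mul_assoc, ← mul_assoc, ← mul_assoc, h.htu]
  rw [e]
  exact irr_isClassFunction χ.2 _ u

omit [Fintype (Cfsg.IrrCharacter X)] in
theorem cr_cl_even (l : A →* ℂˣ) (χ : Cfsg.IrrCharacter X) : Even (h.cr l χ - h.cl l χ) := by
  have h1 := h.two_sum_K_sub (fun k => (χ : X → ℂ) (t * k) * conj (h.lamK l k : ℂ))
    (fun k => by rw [h.chi_t_uK, h.lamK_uK]) (fun k => (CfsgLib.BlockB.irr_isIntegral χ _).mul (by
      rw [conj_hom_apply, ← map_inv]; exact isIntegral_hom _ _))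
  rw [← h.cl_eq, Finset.sum_congr rfl fun (d : A) _ => show
      (χ : X → ℂ) (t * ((⟨d, h.D_le_K d.2⟩ : h.K) : X)) *
        conj (h.lamK l ⟨d, h.D_le_K d.2⟩ : ℂ) = (χ : X → ℂ) (t * d) * conj (l d : ℂ) by
    rw [h.lamK_apply (one_mem F) (d := d) (one_mul _).symm], ← h.cr_eq] at h1
  have h2 : Even ((Nat.card h.K : ℤ) * h.cl l χ - (Nat.card A : ℤ) * h.cr l χ) :=
    Two.even (by push_cast; exact h1)
  have hK : Odd (Nat.card h.K : ℤ) := (Int.odd_coe_nat _).2 h.odd_K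
  have hD : Odd (Nat.card A : ℤ) := (Int.odd_coe_nat _).2 h.hAodd
  rw [Int.even_sub, Int.even_mul, Int.even_mul] at h2
  rw [Int.even_sub]
  have a := Int.not_even_iff_odd.2 hK
  have b := Int.not_even_iff_odd.2 hD
  tauto

theorem cr_sig_even (l : A →* ℂˣ) (χ : Cfsg.IrrCharacter X) :
    Even (h.cr l χ - h.cr (l.comp h.sig) χ) := by
  obtain ⟨k, m, hk, hm⟩ := cf_add_inner h.ht h.D_comm l χ
  obtain ⟨k', m', hk', hm'⟩ := cf_add_inner (t := u) h.hu (ι := A.subtype)
    (fun d => h.hAu d d.2) l χ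
  have hmm : m = m' := by exact_mod_cast hm.symm.trans hm'
  have hkey : cf u A.subtype l (χ : X → ℂ) = h.cr (l.comp h.sig) χ := by
    rw [h.cr_cast, cf, cf]
    congr 1
    refine (Fintype.sum_equiv h.sigEquiv _ _ fun d => ?_).symm
    simp only [MonoidHom.comp_apply, Subgroup.coe_subtype]
    congr 1
    have e : (u : X) * (h.sigEquiv d : X) = n * (t * d) * n⁻¹ := by
      show u * (n * d * n⁻¹) = _
      refine (congrArg (· * (n * (d : X) * n⁻¹)) h.hn.1.symm).trans ?_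
      group
    rw [e, irr_isClassFunction χ.2]
  refine ⟨k - k', Int.cast_injective (α := ℂ) ?_⟩
  push_cast
  rw [← hkey, h.cr_cast, hk, hk', hmm]
  ring

theorem cl_sig_even (l : A →* ℂˣ) (χ : Cfsg.IrrCharacter X) :
    Even (h.cl l χ - h.cl (l.comp h.sig) χ) := by
  have h1 := h.cr_cl_even l χ
  have h2 := h.cr_sig_even l χ
  have h3 := h.cr_cl_even (l.comp h.sig) χ
  rw [Int.even_sub] at *
  tauto

theorem cl_sig_ne_zero (l : A →* ℂˣ) (χ : Cfsg.IrrCharacter X) :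
    h.cl (l.comp h.sig) χ ≠ 0 ↔ h.cl l χ ≠ 0 := by
  have := Int.even_iff.1 (h.cl_sig_even l χ)
  rcases (h.cl_cases l).1 χ with a | a | a <;>
    rcases (h.cl_cases (l.comp h.sig)).1 χ with b | b | b <;> omega

theorem cr_odd {l : A →* ℂˣ} {χ : Cfsg.IrrCharacter X} (hl : h.cl l χ ≠ 0) :
    Odd (h.cr l χ) := by
  have := Int.even_iff.1 (h.cr_cl_even l χ)
  rw [Int.odd_iff]
  rcases (h.cl_cases l).1 χ with a | a | a <;> omega

end Sums

end TwistCent

end CfsgLib.GW.Twist
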