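import Cfsg.Agent.Lib.GW.Twist.KleinCoord

/-!
# The twist lemma for a four-group Sylow 2-subgroup: purity

A character with an odd coefficient at a linear character of `A` restricts to `tK` as a signed
sum over the orbit of that character under the rotation.
-/

set_option autoImplicit false
set_option linter.unusedSectionVars false
set_option linter.unusedDecidableInType false
set_option maxHeartbeats 800000

namespace CfsgLib.GW.Twist

open CfsgLib.Char
open CfsgLib.Recog.NonCA (eq_one_of_sq_of_odd mem_of_sq_mem Two two_sum_invol cf isIntegral_hom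
  conj_hom_apply class_sum conj_mem_cen irr_degree_nat
  cf_add_inner)
open scoped ComplexConjugate

universe v w

/-- The convolution of two irreducible characters. -/
theorem sum_irr_conv {Γ : Type w} [Group Γ] [Fintype Γ] (θ η : Cfsg.IrrCharacter Γ) (y : Γ) :
    ∑ x : Γ, (θ : Γ → ℂ) x⁻¹ * (η : Γ → ℂ) (y * x) =
      (Nat.card Γ : ℂ) * Cfsg.classInner (θ : Γ → ℂ) (η : Γ → ℂ) / (η : Γ → ℂ) 1 *
        (η : Γ → ℂ) y := by
  obtain ⟨η, m, ρ, hρ, rfl⟩ := η
  have h := congr_arg (fun f => LinearMap.trace ℂ (Fin m → ℂ) (ρ y * f))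
    (classOp_eq_scalar (irr_isClassFunction θ.2) ρ)
  simp only [classOp, Finset.mul_sum, map_sum, mul_smul_comm, ← map_mul, map_smul, smul_eq_mul] at h
  rw [← Equiv.sum_comp (Equiv.inv Γ)]
  simp only [Equiv.inv_apply, inv_inv, Representation.char_one]
  change ∑ x : Γ, (θ : Γ → ℂ) x * LinearMap.trace ℂ (Fin m → ℂ) (ρ (y * x⁻¹)) = _
  rw [h, ← Module.End.one_eq_id, mul_one]
  rfl

/-- The coefficient of an irreducible character on a translate is an integer. -/
theorem coord_add_inner {X : Type v} [Group X] [Fintype X] {Γ : Type w} [Group Γ] [Fintype Γ]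
    {t : X} (ht : orderOf t = 2) {ι : Γ →* X} (hcomm : ∀ γ, t * ι γ = ι γ * t)
    (θ : Cfsg.IrrCharacter Γ) (χ : Cfsg.IrrCharacter X) :
    ∃ k m : ℤ, Cfsg.classInner (fun γ => (χ : X → ℂ) (t * ι γ)) (θ : Γ → ℂ) = 2 * k - m ∧
      Cfsg.classInner (fun γ => (χ : X → ℂ) (ι γ)) (θ : Γ → ℂ) = m := by
  classical
  let j : Subgroup.zpowers t × Γ →* X := (Subgroup.zpowers t).subtype.noncommCoprod ι
    (fun a γ => by
      obtain ⟨k, hk⟩ := Subgroup.mem_zpowers_iff.1 a.2
      show Commute (a : X) (ι γ)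
      rw [← hk]
      exact Commute.zpow_left (hcomm γ) k)
  obtain ⟨k, hk⟩ := classInner_isCharacter_nat
    (isCharacter_comp (irr_isCharacter χ.2) j)
    (isCharacter_comp (irr_isCharacter θ.2) (MonoidHom.snd (Subgroup.zpowers t) Γ))
  obtain ⟨m, hm⟩ := classInner_isCharacter_nat
    (isCharacter_comp (irr_isCharacter χ.2) ι) (irr_isCharacter θ.2)
  refine ⟨k, m, ?_, by exact_mod_cast hm⟩
  have ht1 : (1 : Subgroup.zpowers t) ≠ ⟨t, Subgroup.mem_zpowers t⟩ := fun e => by
    have e' : t = 1 := (congrArg Subtype.val e).symm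
    rw [e', orderOf_one] at ht
    norm_num at ht
  have huniv : (Finset.univ : Finset (Subgroup.zpowers t)) = {1, ⟨t, Subgroup.mem_zpowers t⟩} := by
    symm
    refine Finset.eq_univ_of_card _ ?_
    rw [Finset.card_pair ht1, ← Nat.card_eq_fintype_card, Nat.card_zpowers, ht]
  rw [classInner_def, Nat.card_prod, Nat.card_zpowers, ht, Fintype.sum_prod_type, huniv,
    Finset.sum_pair ht1] at hk
  rw [classInner_def] at hm
  simp only [j, Function.comp_apply, MonoidHom.noncommCoprod_apply,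
    MonoidHom.coe_snd, Subgroup.coe_subtype, OneMemClass.coe_one, one_mul] at hk
  simp only [Function.comp_apply] at hm
  push_cast at hk ⊢
  rw [classInner_def]
  rw [mul_inv, mul_add, mul_assoc, mul_assoc] at hk
  linear_combination (2 : ℂ) * hk - hm

namespace TwistCent

open scoped _root_.Classical

variable {X : Type v} [Group X] [Fintype X] {t u n : X} {F A : Subgroup X}
  (h : TwistCent t u n F A)
include h

theorem coord_int (θ : Cfsg.IrrCharacter h.K) (χ : Cfsg.IrrCharacter X) :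
    ∃ m : ℤ, Cfsg.classInner (fun k : h.K => (χ : X → ℂ) (t * k)) (θ : h.K → ℂ) = m := by
  obtain ⟨k, m, hk, -⟩ := coord_add_inner h.ht h.K_comm θ χ
  exact ⟨2 * k - m, by push_cast; exact hk⟩

/-- The coefficient of `θ` in `k ↦ χ (t k)`. -/
noncomputable def co (θ : Cfsg.IrrCharacter h.K) (χ : Cfsg.IrrCharacter X) : ℤ :=
  (h.coord_int θ χ).choose

theorem co_cast (θ : Cfsg.IrrCharacter h.K) (χ : Cfsg.IrrCharacter X) :
    (h.co θ χ : ℂ) = Cfsg.classInner (fun k : h.K => (χ : X → ℂ) (t * k)) (θ : h.K → ℂ) :=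
  (h.coord_int θ χ).choose_spec.symm

theorem chi_tK_class (χ : Cfsg.IrrCharacter X) :
    Cfsg.IsClassFunction h.K (fun k : h.K => (χ : X → ℂ) (t * k)) := by
  intro a g
  show (χ : X → ℂ) (t * ((g * a * g⁻¹ : h.K) : X)) = (χ : X → ℂ) (t * a)
  have e : t * ((g * a * g⁻¹ : h.K) : X) = g * (t * a) * (g : X)⁻¹ := by
    simp only [Subgroup.coe_mul, Subgroup.coe_inv, ← mul_assoc, h.t_comm_K g]
  rw [e]
  exact irr_isClassFunction χ.2 _ _

theorem expand [Fintype (Cfsg.IrrCharacter h.K)] (χ : Cfsg.IrrCharacter X) (k : h.K) :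
    (χ : X → ℂ) (t * k) = ∑ θ : Cfsg.IrrCharacter h.K, (h.co θ χ : ℂ) * (θ : h.K → ℂ) k := by
  simp only [h.co_cast]
  exact classFunction_apply_eq_sum (h.chi_tK_class χ) k

/-- The linear character `l`, inflated, as an irreducible character. -/
noncomputable def lamIrr (l : A →* ℂˣ) : Cfsg.IrrCharacter h.K :=
  ⟨fun k => (h.lamK l k : ℂ), isIrrCharacter_linear (h.lamK l)⟩

theorem co_lam (l : A →* ℂˣ) (χ : Cfsg.IrrCharacter X) : h.co (h.lamIrr l) χ = h.cl l χ := by
  apply Int.cast_injective (α := ℂ)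
  rw [h.co_cast, h.cl_cast, classInner_def, cf]
  rfl

theorem lamIrr_injective : Function.Injective h.lamIrr := fun l l' e =>
  h.lamK_injective (MonoidHom.ext fun k => Units.ext (congrFun (congrArg Subtype.val e) k))

theorem normSq_sum_lt (χ : Cfsg.IrrCharacter X) :
    ∑ k : h.K, Complex.normSq ((χ : X → ℂ) (t * k)) < 4 * (Nat.card h.K : ℝ) := by
  set nf : X → ℝ := fun y => Complex.normSq ((χ : X → ℂ) y) with hnf
  have hnn : ∀ y, 0 ≤ nf y := fun y => Complex.normSq_nonneg _
  set π : X × h.K → X := fun p => p.1 * (t * p.2) * p.1⁻¹ with hπ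
  have hfib : ∀ y, ((Finset.univ.filter fun p : X × h.K => π p = y).card : ℝ) ≤
      4 * (Nat.card h.K : ℝ) := by
    intro y
    rcases (Finset.univ.filter fun p : X × h.K => π p = y).eq_empty_or_nonempty with e | ⟨p0, hp0⟩
    · rw [e, Finset.card_empty, Nat.cast_zero]; positivity
    have e0 : π p0 = y := (Finset.mem_filter.1 hp0).2
    have hcard : (Finset.univ.filter fun p : X × h.K => π p = y).card ≤
        (Finset.univ.filter fun g : X => g * t * g⁻¹ = t).card := by
      refine Finset.card_le_card_of_injOn (fun p => p0.1⁻¹ * p.1) ?_ ?_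
      · intro p hp
        have e1 : π p = y := (Finset.mem_filter.1 hp).2
        refine Finset.mem_filter.2 ⟨Finset.mem_univ _, ?_⟩
        refine conj_mem_cen h.ht h.K.subtype_injective h.K_comm h.odd_K
          (γ := p.2) (γ' := p0.2) ?_
        calc p0.1⁻¹ * p.1 * (t * (p.2 : X)) * (p0.1⁻¹ * p.1)⁻¹
            = p0.1⁻¹ * π p * p0.1 := by rw [hπ]; group
          _ = p0.1⁻¹ * π p0 * p0.1 := by rw [e1, e0]
          _ = t * (p0.2 : X) := by rw [hπ]; group
      · intro p hp q hq e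
        have e1 : π p = π q := (Finset.mem_filter.1 hp).2.trans (Finset.mem_filter.1 hq).2.symm
        have e2 : p.1 = q.1 := mul_left_cancel e
        refine Prod.ext e2 (Subtype.ext ?_)
        rw [hπ] at e1
        simp only [e2, mul_left_inj, mul_right_inj] at e1
        exact e1
    rw [h.card_M, ← h.card_K] at hcard
    exact_mod_cast hcard
  have hpair : ∑ p : X × h.K, nf (π p) =
      (Nat.card X : ℝ) * ∑ k : h.K, nf (t * k) := by
    rw [Fintype.sum_prod_type, Nat.card_eq_fintype_card, ← nsmul_eq_mul, ← Finset.card_univ,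
      ← Finset.sum_const]
    refine Finset.sum_congr rfl fun g _ => Finset.sum_congr rfl fun k _ => ?_
    simp only [hnf, hπ, irr_isClassFunction χ.2 (t * (k : X)) g]
  have htot : ∑ y : X, nf y = (Nat.card X : ℝ) := by
    have h1 := irr_classInner_self χ.2
    rw [classInner_def, inv_mul_eq_iff_eq_mul₀ natCard_ne_zero, mul_one] at h1
    apply Complex.ofReal_injective
    push_cast
    rw [← h1]
    exact Finset.sum_congr rfl fun y _ => (Complex.mul_conj _).symm
  have h1mem : (1 : X) ∉ Finset.univ.image π := by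
    intro e
    obtain ⟨⟨g, k⟩, -, e⟩ := Finset.mem_image.1 e
    have e' : t * (k : X) = 1 := conj_eq_one_iff.1 e
    have htk : t ∈ h.K := by
      exact (congrArg (· ∈ h.K) (eq_inv_of_mul_eq_one_left e')).mpr (inv_mem k.2)
    exact h.t_ne_one (h.W_inter_K (h.mem_W.2 (Or.inr (Or.inl rfl))) htk)
  have hpos : 0 < nf 1 := Complex.normSq_pos.2 (irr_apply_one_ne_zero χ.2)
  have himg : ∑ y ∈ Finset.univ.image π, nf y < (Nat.card X : ℝ) := by
    rw [← htot]
    exact Finset.sum_lt_sum_of_subset (Finset.subset_univ _) (Finset.mem_univ (1 : X)) h1mem hpos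
      fun y _ _ => hnn y
  have hle : ∑ p : X × h.K, nf (π p) ≤
      4 * (Nat.card h.K : ℝ) * ∑ y ∈ Finset.univ.image π, nf y := by
    rw [Finset.sum_comp, Finset.mul_sum]
    refine Finset.sum_le_sum fun y _ => ?_
    rw [nsmul_eq_mul]
    exact mul_le_mul_of_nonneg_right (hfib y) (hnn y)
  have hXpos : (0 : ℝ) < Nat.card X := by exact_mod_cast Nat.card_pos
  have hKpos : (0 : ℝ) < Nat.card h.K := by exact_mod_cast Nat.card_pos
  rw [hpair] at hle
  exact lt_of_mul_lt_mul_left (lt_of_le_of_lt hle (by nlinarith)) hXpos.le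

theorem co_sq_lt [Fintype (Cfsg.IrrCharacter h.K)] (χ : Cfsg.IrrCharacter X) :
    ∑ θ : Cfsg.IrrCharacter h.K, h.co θ χ * h.co θ χ < 4 := by
  have h1 := classInner_eq_sum_mul (h.chi_tK_class χ) (fun k : h.K => (χ : X → ℂ) (t * k))
  simp only [← h.co_cast, map_intCast] at h1
  rw [classInner_def, inv_mul_eq_iff_eq_mul₀ natCard_ne_zero] at h1
  have h2 : ((∑ k : h.K, Complex.normSq ((χ : X → ℂ) (t * k)) : ℝ) : ℂ) =
      (((Nat.card h.K : ℝ) * (∑ θ : Cfsg.IrrCharacter h.K, h.co θ χ * h.co θ χ : ℤ) : ℝ) : ℂ) := by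
    push_cast
    rw [← h1]
    exact Finset.sum_congr rfl fun y _ => (Complex.mul_conj _).symm
  have h3 := h.normSq_sum_lt χ
  rw [Complex.ofReal_injective h2, mul_comm (4 : ℝ)] at h3
  have h4 := lt_of_mul_lt_mul_left h3 (by positivity)
  exact_mod_cast h4

theorem four_dvd_card : 4 ∣ Nat.card X := by
  refine Dvd.dvd.trans ?_ (Subgroup.card_subgroup_dvd_card h.M)
  refine ⟨Nat.card F * Nat.card A, ?_⟩
  rw [← h.card_M, Nat.card_eq_fintype_card]
  exact Fintype.card_of_subtype _ fun x => by simp [h.mem_M_conj]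

/-- The class multiplication sum modulo four is a sum over `M`. -/
theorem four_mod (χ : Cfsg.IrrCharacter X) {z x : X} (hz : z * t = t * z) (hx : x * t = t * x) :
    ∃ r : ℂ, IsIntegral ℤ r ∧ ∑ g : X, (χ : X → ℂ) (z * (g * x * g⁻¹)) =
      ∑ g ∈ Finset.univ.filter (fun g : X => g * t * g⁻¹ = t), (χ : X → ℂ) (z * (g * x * g⁻¹)) +
        4 * r := by
  set ff : X → ℂ := fun g => (χ : X → ℂ) (z * (g * x * g⁻¹)) with hff
  set S := Finset.univ.filter (fun g : X => ¬ g * t * g⁻¹ = t) with hS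
  set q : X → Finset X := fun g => {g, t * g, g * t, t * g * t} with hq
  have hR : ∀ g, ff (g * t) = ff g := by
    intro g
    simp only [hff]
    refine congrArg (χ : X → ℂ) (congrArg (z * ·) ?_)
    calc g * t * x * (g * t)⁻¹ = g * (t * x) * t⁻¹ * g⁻¹ := by group
      _ = g * x * g⁻¹ := by rw [← hx]; group
  have hL : ∀ g, ff (t * g) = ff g := by
    intro g
    simp only [hff]
    rw [← irr_isClassFunction χ.2 (z * (g * x * g⁻¹)) t]
    refine congrArg (χ : X → ℂ) ?_
    calc z * (t * g * x * (t * g)⁻¹) = (z * t) * (g * x * g⁻¹) * t⁻¹ := by group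
      _ = t * (z * (g * x * g⁻¹)) * t⁻¹ := by rw [hz]; group
  have htt := h.tt
  have hmemS : ∀ {g : X}, g ∈ S ↔ g * t ≠ t * g := by
    intro g
    simp [hS, mul_inv_eq_iff_eq_mul]
  have hinvL : ∀ g, q (t * g) = q g := by
    intro g
    ext a
    simp only [hq, Finset.mem_insert, Finset.mem_singleton, ← mul_assoc, htt, one_mul]
    tauto
  have hinvR : ∀ g, q (g * t) = q g := by
    intro g
    ext a
    simp only [hq, Finset.mem_insert, Finset.mem_singleton, ← mul_assoc, mul_assoc _ t t, htt,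
      mul_one]
    tauto
  have hclosed : ∀ g, ∀ a ∈ q g, q a = q g ∧ ff a = ff g := by
    intro g a ha
    simp only [hq, Finset.mem_insert, Finset.mem_singleton] at ha
    rcases ha with rfl | rfl | rfl | rfl
    · exact ⟨rfl, rfl⟩
    · exact ⟨hinvL _, hL _⟩
    · exact ⟨hinvR _, hR _⟩
    · exact ⟨(hinvR _).trans (hinvL _), (hR _).trans (hL _)⟩
  have hsubS : ∀ g ∈ S, ∀ a ∈ q g, a ∈ S := by
    intro g hg a ha
    rw [hmemS] at hg ⊢
    simp only [hq, Finset.mem_insert, Finset.mem_singleton] at ha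
    rcases ha with rfl | rfl | rfl | rfl <;> intro e <;> apply hg
    · exact e
    · rw [mul_assoc] at e; exact mul_left_cancel e
    · rw [← mul_assoc] at e; exact mul_right_cancel e
    · have e' : t * (g * t) * t = t * (t * g) * t := by
        simpa [mul_assoc] using e
      exact mul_left_cancel (mul_right_cancel e')
  have hcard : ∀ g ∈ S, (q g).card = 4 := by
    intro g hg
    rw [hmemS] at hg
    have h1 : t * g ≠ g := fun e => h.t_ne_one (mul_eq_right.1 e)
    have h2 : g * t ≠ g := fun e => h.t_ne_one (mul_eq_left.1 e)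
    have h3 : t * g * t ≠ g := fun e => hg (by
      conv_lhs => rw [← e]
      rw [mul_assoc (t * g) t t, htt, mul_one])
    have h4 : t * g * t ≠ t * g := fun e => h.t_ne_one (mul_eq_left.1 e)
    have h5 : t * g * t ≠ g * t := fun e => h1 (mul_right_cancel e)
    simp [hq, Ne.symm h1, Ne.symm h2, Ne.symm h3, Ne.symm h4, Ne.symm h5, Ne.symm hg]
  have hint : ∀ g, IsIntegral ℤ (ff g) := fun g => CfsgLib.BlockB.irr_isIntegral χ _
  have hfour : ∃ r : ℂ, IsIntegral ℤ r ∧ ∑ g ∈ S, ff g = 4 * r := by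
    have hterm : ∀ T ∈ S.image q, ∃ r : ℂ, IsIntegral ℤ r ∧
        ∑ g ∈ S.filter (fun g => q g = T), ff g = 4 * r := by
      intro T hT
      obtain ⟨g, hg, rfl⟩ := Finset.mem_image.1 hT
      refine ⟨ff g, hint g, ?_⟩
      have e : S.filter (fun a => q a = q g) = q g := by
        ext a
        simp only [Finset.mem_filter]
        refine ⟨fun ha => ha.2 ▸ by simp [hq], fun ha => ⟨hsubS g hg a ha, (hclosed g a ha).1⟩⟩
      rw [e, Finset.sum_congr rfl fun a ha => (hclosed g a ha).2, Finset.sum_const, hcard g hg,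
        nsmul_eq_mul, Nat.cast_ofNat]
    choose r hr hr' using hterm
    refine ⟨∑ T ∈ (S.image q).attach, r T.1 T.2, IsIntegral.sum _ fun T _ => hr _ _, ?_⟩
    rw [← Finset.sum_fiberwise_of_maps_to (t := S.image q) (g := q)
      (fun g hg => Finset.mem_image_of_mem q hg), ← Finset.sum_attach, Finset.mul_sum]
    exact Finset.sum_congr rfl fun T _ => hr' _ _
  obtain ⟨r, hr, hr'⟩ := hfour
  refine ⟨r, hr, ?_⟩
  rw [← hr', hS, Finset.sum_filter_add_sum_filter_not]

theorem deg_odd [Fintype (Cfsg.IrrCharacter X)] {l : A →* ℂˣ} {χ : Cfsg.IrrCharacter X}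
    (hl : h.cl l χ ≠ 0) {d : ℕ} (hd : (χ : X → ℂ) 1 = d) : Odd d := by
  rw [← Nat.not_even_iff_odd]
  rintro ⟨m, rfl⟩
  have : Fact (Nat.Prime 2) := ⟨Nat.prime_two⟩
  obtain ⟨P, hP⟩ := h.hsyl
  have hval : ∀ a : A, Two ((χ : X → ℂ) (t * a)) := by
    intro a
    have hle : (P : Subgroup X) ≤ Subgroup.centralizer ({t * (a : X)} : Set X) := by
      rw [hP, sup_le_iff, Subgroup.zpowers_le, Subgroup.zpowers_le,
        Subgroup.mem_centralizer_singleton_iff, Subgroup.mem_centralizer_singleton_iff]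
      exact ⟨((Commute.refl t).mul_right (show Commute t a from h.hAt _ a.2)).eq,
        (((show Commute t u from h.htu).symm).mul_right (show Commute u a from h.hAu _ a.2)).eq⟩
    have hodd : Odd (Subgroup.centralizer ({t * (a : X)} : Set X)).index := by
      rw [← Nat.not_even_iff_odd, even_iff_two_dvd]
      exact fun e => P.not_dvd_index (e.trans (Subgroup.index_dvd_of_le hle))
    have hc := CfsgLib.BlockB.irr_centralChar_isIntegral χ (t * (a : X))
    refine Two.cancel_odd ((Int.odd_coe_nat _).2 hodd) (CfsgLib.BlockB.irr_isIntegral χ _)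
      ⟨(m : ℂ) * Cfsg.centralChar (χ : X → ℂ) (t * (a : X)), (isIntegral_natCast m).mul hc, ?_⟩
    have hne : (χ : X → ℂ) 1 ≠ 0 := irr_apply_one_ne_zero χ.2
    rw [Cfsg.centralChar, hd] at *
    push_cast at hne ⊢
    have hm : (m : ℂ) ≠ 0 := fun e => hne (by rw [e, add_zero])
    field_simp
    ring
  have hs : Two (∑ a : A, (χ : X → ℂ) (t * a) * conj (l a : ℂ)) :=
    Two.sum _ fun a _ => by
      rw [mul_comm]
      exact (hval a).mul_left (by rw [conj_hom_apply, ← map_inv]; exact isIntegral_hom _ _)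
  rw [← h.cr_eq] at hs
  have he : Even ((Nat.card A : ℤ) * h.cr l χ) := Two.even (by push_cast; exact hs)
  rw [Int.even_mul] at he
  have a := Int.not_even_iff_odd.2 ((Int.odd_coe_nat _).2 h.hAodd)
  have b := Int.not_even_iff_odd.2 (h.cr_odd hl)
  tauto

/-- Coefficients at characters of `K` moved by `u` are even. -/
theorem co_even_of_moved [Fintype (Cfsg.IrrCharacter h.K)] {χ : Cfsg.IrrCharacter X} {d : ℕ}
    (hd : (χ : X → ℂ) 1 = d) (hodd : Odd d) (θ θ' : Cfsg.IrrCharacter h.K)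
    (hθ' : ∀ k, (θ' : h.K → ℂ) k = (θ : h.K → ℂ) (h.uK k)) (hne : θ' ≠ θ) :
    Even (h.co θ χ) := by
  set c := h.co θ χ with hc
  obtain ⟨e, he0, he⟩ := irr_degree_nat θ
  have he' : (θ' : h.K → ℂ) 1 = e := by
    rw [hθ', show h.uK 1 = 1 from h.uK_eq_self.2 (one_mem A), he]
  have hco : h.co θ' χ = c := by
    apply Int.cast_injective (α := ℂ)
    rw [hc, h.co_cast, h.co_cast, classInner_def, classInner_def]
    refine congrArg _ (Fintype.sum_equiv h.uEquiv _ _ fun k => ?_)
    show _ = (χ : X → ℂ) (t * (h.uK k : X)) * conj ((θ : h.K → ℂ) (h.uK k))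
    rw [h.chi_t_uK, hθ']
  obtain ⟨q, hq⟩ := CfsgLib.BlockB.irr_degree_dvd_card θ
  have hcd : (Cfsg.charDegree (θ : h.K → ℂ) : ℂ) = e :=
    (CfsgLib.BlockB.irr_degree_cast θ).trans he
  rw [show Cfsg.charDegree (θ : h.K → ℂ) = e from by exact_mod_cast hcd] at hq
  have hqodd : Odd q := (Nat.odd_mul.1 (hq ▸ h.odd_K)).2
  have hconv : ∀ (η : Cfsg.IrrCharacter h.K) (y : h.K),
      ∑ x : h.K, (η : h.K → ℂ) x⁻¹ * (χ : X → ℂ) (t * ((y * x : h.K) : X)) =
        (h.co η χ : ℂ) * ((Nat.card h.K : ℂ) / (η : h.K → ℂ) 1 * (η : h.K → ℂ) y) := by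
    intro η y
    simp only [h.expand χ, Finset.mul_sum]
    rw [Finset.sum_comm, Finset.sum_eq_single η]
    · simp only [mul_left_comm ((η : h.K → ℂ) _)]
      rw [← Finset.mul_sum, sum_irr_conv, irr_classInner_self η.2, mul_one]
    · intro η' _ hη
      simp only [mul_left_comm ((η : h.K → ℂ) _)]
      rw [← Finset.mul_sum, sum_irr_conv,
        irr_classInner_ne η.2 η'.2 (fun e' => hη (Subtype.ext e').symm), mul_zero, zero_div,
        zero_mul, mul_zero]
    · simp
  obtain ⟨m4, hm4⟩ := h.four_dvd_card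
  have hpt : ∀ y : h.K, Two ((c : ℂ) * ((θ : h.K → ℂ) y + (θ' : h.K → ℂ) y)) := by
    intro y
    choose r hr hr' using fun x : h.K => h.four_mod χ (z := t * (y : X)) (x := (x : X))
      (by rw [mul_assoc, ← h.t_comm_K y])
      (h.t_comm_K x).symm
    set Φ : X → ℂ := fun g => ∑ x : h.K, (θ : h.K → ℂ) x⁻¹ *
      (χ : X → ℂ) (t * (y : X) * (g * x * g⁻¹)) with hΦ
    have hL : ∑ g : X, Φ g = (Nat.card X : ℂ) * (χ : X → ℂ) (t * y) *
        (∑ x : h.K, (θ : h.K → ℂ) x⁻¹ * (χ : X → ℂ) x) / d := by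
      simp only [hΦ]
      rw [Finset.sum_comm, Finset.mul_sum, Finset.sum_div]
      refine Finset.sum_congr rfl fun x _ => ?_
      rw [← Finset.mul_sum, CfsgLib.BlockB.sum_irr_mul_conj, hd]
      ring
    have hR : ∑ g : X, Φ g = ∑ g ∈ Finset.univ.filter (fun g : X => g * t * g⁻¹ = t), Φ g +
        4 * ∑ x : h.K, (θ : h.K → ℂ) x⁻¹ * r x := by
      simp only [hΦ]
      rw [Finset.sum_comm, Finset.sum_comm (s := Finset.univ.filter _), Finset.mul_sum,
        ← Finset.sum_add_distrib]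
      refine Finset.sum_congr rfl fun x _ => ?_
      rw [← Finset.mul_sum, ← Finset.mul_sum, hr' x]
      ring
    have hW : ∀ w ∈ h.W, ∀ k : h.K, Φ (w * k) = Φ w := by
      intro w _ k
      simp only [hΦ]
      refine Fintype.sum_equiv (MulAut.conj k).toEquiv _ _ fun x => ?_
      simp only [MulEquiv.toEquiv_eq_coe, MulEquiv.coe_toEquiv, MulAut.conj_apply,
        Subgroup.coe_mul, Subgroup.coe_inv]
      rw [show (k * x * k⁻¹)⁻¹ = k * x⁻¹ * k⁻¹ by group, irr_isClassFunction θ.2]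
      congr 2
      group
    have hM : ∑ g ∈ Finset.univ.filter (fun g : X => g * t * g⁻¹ = t), Φ g =
        (Nat.card h.K : ℂ) * (Φ 1 + Φ t + Φ u + Φ (t * u)) := by
      have hinj := Finset.card_image_iff.1 (show (((({1, t, u, t * u} : Finset X)) ×ˢ
          (Finset.univ : Finset h.K)).image fun p => p.1 * h.K.subtype p.2).card =
          ((({1, t, u, t * u} : Finset X)) ×ˢ (Finset.univ : Finset h.K)).card by
        rw [← h.M_filter, h.card_M, Finset.card_product, h.card_W, Finset.card_univ,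
          ← Nat.card_eq_fintype_card, h.card_K])
      rw [h.M_filter, Finset.sum_image hinj, Finset.sum_product,
        Finset.sum_congr rfl fun w hw => show
          ∑ k : h.K, Φ (w * h.K.subtype k) = (Nat.card h.K : ℂ) * Φ w by
          simp only [Subgroup.coe_subtype]
          rw [Finset.sum_congr rfl fun k _ => hW w (by simpa [h.mem_W] using hw) k,
            Finset.sum_const, Finset.card_univ, nsmul_eq_mul, Nat.card_eq_fintype_card],
        ← Finset.mul_sum]
      congr 1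
      have h1 : (1 : X) ≠ t := Ne.symm h.t_ne_one
      have h2 : (1 : X) ≠ u := Ne.symm h.u_ne_one
      have h3 : (1 : X) ≠ t * u := fun e => h.hne (by
        calc t = t * u * u := by rw [mul_assoc, h.uu', mul_one]
          _ = u := by rw [← e, one_mul])
      have h4 : t ≠ t * u := fun e => h.u_ne_one (mul_eq_left.1 e.symm)
      have h5 : u ≠ t * u := fun e => h.t_ne_one (mul_eq_right.1 e.symm)
      rw [Finset.sum_insert (by simp [h1, h2, h3]), Finset.sum_insert (by simp [h.hne, h4]),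
        Finset.sum_pair h5]
      ring
    have h1 : Φ 1 = (c : ℂ) * ((Nat.card h.K : ℂ) / e * (θ : h.K → ℂ) y) := by
      simp only [hΦ]
      rw [← he, hc, ← hconv θ y]
      exact Finset.sum_congr rfl fun x _ => by simp [mul_assoc]
    have hu : Φ u = (c : ℂ) * ((Nat.card h.K : ℂ) / e * (θ' : h.K → ℂ) y) := by
      simp only [hΦ]
      rw [← he', ← hco, ← hconv θ' y]
      refine (Fintype.sum_equiv h.uEquiv _ _ fun z => ?_).symm
      show _ = (θ : h.K → ℂ) (h.uK z)⁻¹ * _
      rw [hθ', ← h.uK_inv]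
      congr 2
      rw [Subgroup.coe_mul, mul_assoc, ← h.uK_coe]
      exact congrArg (fun k : h.K => (χ : X → ℂ) (t * ((y : X) * (k : X)))) (h.uK_uK z).symm
    have htconj : ∀ z : h.K, t * (z : X) * t⁻¹ = z := fun z => by
      rw [h.t_comm_K z, mul_inv_cancel_right]
    have ht' : Φ t = Φ 1 := by
      simp only [hΦ, htconj]
      simp
    have htu : Φ (t * u) = Φ u := by
      simp only [hΦ]
      refine Finset.sum_congr rfl fun x _ => ?_
      rw [show t * u * (x : X) * (t * u)⁻¹ = t * (h.uK x : X) * t⁻¹ by rw [uK_coe]; group,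
        htconj, uK_coe]
    have hdc : (d : ℂ) ≠ 0 := by
      exact_mod_cast hodd.pos.ne'
    have hec : (e : ℂ) ≠ 0 := by exact_mod_cast he0.ne'
    have hKc : (Nat.card h.K : ℂ) = e * q := by exact_mod_cast hq
    set S := ∑ x : h.K, (θ : h.K → ℂ) x⁻¹ * (χ : X → ℂ) x with hS
    set R := ∑ x : h.K, (θ : h.K → ℂ) x⁻¹ * r x with hRdef
    have hX : (Nat.card X : ℂ) = 4 * m4 := by exact_mod_cast hm4
    have heq := hL.symm.trans hR
    rw [hM, h1, ht', h1, htu, hu, hX] at heq
    have key : ((Nat.card h.K * q * d : ℕ) : ℂ) * ((c : ℂ) * ((θ : h.K → ℂ) y + (θ' : h.K → ℂ) y))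
        = 2 * ((m4 : ℂ) * (χ : X → ℂ) (t * y) * S - d * R) := by
      rw [hKc] at heq
      push_cast
      rw [hKc]
      field_simp at heq
      linear_combination (-(1 / 2 : ℂ)) * heq
    refine Two.cancel_odd (m := ((Nat.card h.K * q * d : ℕ) : ℤ))
      ((Int.odd_coe_nat _).2 ((h.odd_K.mul hqodd).mul hodd))
      ((isIntegral_intCast c).mul ((CfsgLib.BlockB.irr_isIntegral θ y).add
        (CfsgLib.BlockB.irr_isIntegral θ' y)))
      ⟨(m4 : ℂ) * (χ : X → ℂ) (t * y) * S - d * R, ?_, by rw [Int.cast_natCast]; exact key⟩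
    exact (((isIntegral_natCast m4).mul (CfsgLib.BlockB.irr_isIntegral χ _)).mul
      (IsIntegral.sum _ fun x _ => (CfsgLib.BlockB.irr_isIntegral θ _).mul
        (CfsgLib.BlockB.irr_isIntegral χ _))).sub ((isIntegral_natCast d).mul
      (IsIntegral.sum _ fun x _ => (CfsgLib.BlockB.irr_isIntegral θ _).mul (hr x)))
  have hsum : Two (∑ y : h.K, (θ : h.K → ℂ) y⁻¹ *
      ((c : ℂ) * ((θ : h.K → ℂ) y + (θ' : h.K → ℂ) y))) :=
    Two.sum _ fun y _ => (hpt y).mul_left (CfsgLib.BlockB.irr_isIntegral θ _)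
  have horth : ∀ η : Cfsg.IrrCharacter h.K, ∑ y : h.K, (θ : h.K → ℂ) y⁻¹ * (η : h.K → ℂ) y =
      (Nat.card h.K : ℂ) * Cfsg.classInner (θ : h.K → ℂ) (η : h.K → ℂ) := fun η => by
    have := sum_irr_conv θ η 1
    simp only [one_mul] at this
    rw [this, div_mul_cancel₀ _ (irr_apply_one_ne_zero η.2)]
  have e1 : ∑ y : h.K, (θ : h.K → ℂ) y⁻¹ * ((c : ℂ) * ((θ : h.K → ℂ) y + (θ' : h.K → ℂ) y)) =
      ((c * (Nat.card h.K : ℤ) : ℤ) : ℂ) := by
    simp only [mul_left_comm ((θ : h.K → ℂ) _) (c : ℂ), mul_add, Finset.sum_add_distrib,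
      ← Finset.mul_sum, horth]
    rw [irr_classInner_self θ.2,
      irr_classInner_ne θ.2 θ'.2 (fun e' => hne (Subtype.ext e').symm)]
    push_cast
    ring
  rw [e1] at hsum
  have := hsum.even
  rw [Int.even_mul] at this
  exact this.resolve_right (Int.not_even_iff_odd.2 ((Int.odd_coe_nat _).2 h.odd_K))

/-- For a fixed character, the restriction to `tA` is congruent to its multiple. -/
theorem two_sub_fixed [Fintype (Cfsg.IrrCharacter X)] {l : A →* ℂˣ}
    (hfix : l.comp h.sig = l) {χ : Cfsg.IrrCharacter X} (hl : h.cl l χ ≠ 0) (y : A) :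
    Two ((χ : X → ℂ) (t * y) - (h.cl l χ : ℂ) * (l y : ℂ)) := by
  set Q : A → Finset A := fun x => Finset.univ.filter (fun δ : A => IsConj (x : X) (δ : X)) with hQ
  set ω : A → ℂ := fun x => Cfsg.centralChar (χ : X → ℂ) (x : X) with hω
  have hint := fun z : X => CfsgLib.BlockB.irr_isIntegral χ z
  have hconjl : ∀ a : A, IsIntegral ℤ (conj (l a : ℂ)) := fun a => by
    rw [conj_hom_apply, ← map_inv]; exact isIntegral_hom _ _
  have s1 : ∀ x y : A, Two ((χ : X → ℂ) (t * y) * ω x -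
      ∑ δ ∈ Q x, (χ : X → ℂ) (t * y * δ)) := by
    intro x y
    simp only [hω]
    rw [← class_sum χ (t * (y : X)) (x : X)]
    set Cx : Finset X := Finset.univ.filter (IsConj (x : X)) with hCx
    have hA : Cx.filter (fun c => c ∈ A) = (Q x).image (fun δ : A => (δ : X)) := by
      ext c
      simp only [hCx, hQ, Finset.mem_filter, Finset.mem_univ, true_and, Finset.mem_image]
      exact ⟨fun hc => ⟨⟨c, hc.2⟩, hc.1, rfl⟩, fun ⟨δ, hδ, e⟩ => e ▸ ⟨hδ, δ.2⟩⟩
    rw [← Finset.sum_filter_add_sum_filter_not Cx (fun c => c ∈ A), hA,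
      Finset.sum_image Subtype.val_injective.injOn, add_sub_cancel_left,
      ← Finset.sum_filter_add_sum_filter_not (Cx.filter fun c => c ∉ A) (fun c => c * t = t * c)]
    refine Two.add ?_ ?_
    · refine two_sum_invol _ (fun c => u * c * u⁻¹) ?_ ?_ ?_ ?_ (fun c _ => hint _)
      · intro c hc
        simp only [hCx, Finset.mem_filter, Finset.mem_univ, true_and] at hc ⊢
        refine ⟨⟨hc.1.1.trans (isConj_iff.2 ⟨u, rfl⟩), fun e => hc.1.2 ?_⟩, ?_⟩
        · have e2 : c = u⁻¹ * (u * c * u⁻¹) * u := by group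
          rw [e2, mul_assoc, ← h.hAu _ e, inv_mul_cancel_left]
          exact e
        · have hu : Commute u t := h.htu.symm
          exact ((hu.mul_left (show Commute c t from hc.2)).mul_left hu.inv_left).eq
      · intro c _
        simp only [h.uinv, ← mul_assoc, h.uu', one_mul]
        rw [mul_assoc, h.uu', mul_one]
      · intro c hc e
        simp only [hCx, Finset.mem_filter, Finset.mem_univ, true_and] at hc
        have hcK : c ∈ h.K := h.mem_K_of_conj (h.D_le_K x.2) hc.1.1 hc.2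
        exact hc.1.2 (h.uK_eq_self.1 (show h.uK ⟨c, hcK⟩ = ⟨c, hcK⟩ from Subtype.ext e))
      · intro c _
        rw [← irr_isClassFunction χ.2 (t * (y : X) * c) u]
        refine congrArg (χ : X → ℂ) ?_
        calc t * (y : X) * (u * c * u⁻¹) = t * ((y : X) * u) * c * u⁻¹ := by group
          _ = u * (t * (y : X) * c) * u⁻¹ := by
            rw [← h.hAu _ y.2, ← mul_assoc, h.htu]; group
    · refine two_sum_invol _ (fun c => t * c * t⁻¹) ?_ ?_ ?_ ?_ (fun c _ => hint _)
      · intro c hc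
        simp only [hCx, Finset.mem_filter, Finset.mem_univ, true_and] at hc ⊢
        refine ⟨⟨hc.1.1.trans (isConj_iff.2 ⟨t, rfl⟩), fun e => hc.2 ?_⟩, fun e => hc.2 ?_⟩
        · have e2 : c = t⁻¹ * (t * c * t⁻¹) * t := by group
          have e3 : t⁻¹ * (t * c * t⁻¹) * t ∈ A := by
            rw [mul_assoc, ← h.hAt _ e, inv_mul_cancel_left]; exact e
          rw [← e2] at e3
          exact (h.hAt _ e3).symm
        · calc c * t = t⁻¹ * (t * c * t⁻¹ * t) * t := by group
            _ = t⁻¹ * (t * (t * c * t⁻¹)) * t := by rw [e]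
            _ = t * c := by group
      · intro c _
        simp only [h.tinv, ← mul_assoc, h.tt, one_mul]
        rw [mul_assoc, h.tt, mul_one]
      · intro c hc e
        exact (Finset.mem_filter.1 hc).2 (mul_inv_eq_iff_eq_mul.1 e).symm
      · intro c _
        rw [← irr_isClassFunction χ.2 (t * (y : X) * c) t]
        refine congrArg (χ : X → ℂ) ?_
        calc t * (y : X) * (t * c * t⁻¹) = t * ((y : X) * t) * c * t⁻¹ := by group
          _ = t * (t * (y : X) * c) * t⁻¹ := by rw [← h.hAt _ y.2]; group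
  have hcr : Odd ((Nat.card A : ℤ) * h.cr l χ) :=
    ((Int.odd_coe_nat _).2 h.hAodd).mul (h.cr_odd hl)
  have hshift : ∀ (z : A), ∑ y : A, conj (l y : ℂ) * (χ : X → ℂ) (t * y * z) =
      (l z : ℂ) * ((Nat.card A : ℂ) * h.cr l χ) := by
    intro z
    rw [h.cr_eq, Finset.mul_sum]
    refine Fintype.sum_equiv (Equiv.mulRight z) _ _ fun y => ?_
    rw [Equiv.coe_mulRight, Subgroup.coe_mul, map_mul, Units.val_mul, map_mul,
      conj_hom_apply l z]
    rw [show ∀ a b c : ℂ, (l z : ℂ) * (a * (b * c)) = ((l z : ℂ) * c) * (b * a) from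
      fun a b c => by ring, ← Units.val_mul, mul_inv_cancel, Units.val_one, one_mul, mul_assoc t]
  have s2 : ∀ x : A, Two (ω x - ∑ δ ∈ Q x, (l δ : ℂ)) := by
    intro x
    refine Two.cancel_odd hcr ((CfsgLib.BlockB.irr_centralChar_isIntegral χ _).sub
      (IsIntegral.sum _ fun δ _ => isIntegral_hom _ _)) ?_
    have h1 : Two (∑ y : A, conj (l y : ℂ) * ((χ : X → ℂ) (t * y) * ω x -
        ∑ δ ∈ Q x, (χ : X → ℂ) (t * y * δ))) :=
      Two.sum _ fun y _ => (s1 x y).mul_left (hconjl y)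
    convert h1 using 1
    simp only [mul_sub, Finset.sum_sub_distrib, Finset.mul_sum]
    rw [Finset.sum_comm (s := Finset.univ), Finset.sum_congr rfl fun δ _ => hshift δ]
    push_cast
    rw [h.cr_eq, Finset.sum_mul]
    refine congrArg₂ (· - ·) ?_ ?_
    · exact Finset.sum_congr rfl fun y _ => by ring
    · exact Finset.sum_congr rfl fun δ _ => by rw [← h.cr_eq]; ring
  set gy : ℂ := (χ : X → ℂ) (t * y) with hgy
  have s3 : ∀ x : A, Two (∑ δ ∈ Q x, (gy - conj (l δ : ℂ) * (χ : X → ℂ) (t * y * δ))) := by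
    intro x
    have h1 : Two ((gy * ω x - ∑ δ ∈ Q x, (χ : X → ℂ) (t * y * δ)) -
        gy * (ω x - ∑ δ ∈ Q x, (l δ : ℂ))) := (s1 x y).sub ((s2 x).mul_left (hint _))
    have h2 := h1.mul_left (hconjl x)
    convert h2 using 1
    simp only [Finset.sum_sub_distrib, mul_sub, Finset.mul_sum]
    have hone : ∀ δ ∈ Q x, (l δ : ℂ) = (l x : ℂ) := fun δ hδ => by
      obtain ⟨g, hg⟩ := isConj_iff.1 (Finset.mem_filter.1 hδ).2
      rw [h.fixed_fusion hfix hg.symm]
    have e1 : conj (l x : ℂ) * (l x : ℂ) = 1 := by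
      rw [conj_hom_apply, ← Units.val_mul, inv_mul_cancel, Units.val_one]
    rw [Finset.sum_congr rfl fun δ hδ => show
        conj (l δ : ℂ) * (χ : X → ℂ) (t * y * δ) = conj (l x : ℂ) * (χ : X → ℂ) (t * y * δ) by
      rw [hone δ hδ],
      Finset.sum_congr rfl (s₂ := Q x) (g := fun _ => gy)
        (f := fun δ => conj (l x : ℂ) * (gy * (l δ : ℂ))) fun δ hδ => by
      rw [hone δ hδ, mul_left_comm, e1, mul_one]]
    ring
  have htot : Two (∑ δ : A, (gy - conj (l δ : ℂ) * (χ : X → ℂ) (t * y * δ))) := by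
    rw [← Finset.sum_fiberwise Finset.univ (fun δ : A => ConjClasses.mk (δ : X))]
    refine Two.sum _ fun C _ => ?_
    rcases (Finset.univ.filter fun δ : A => ConjClasses.mk (δ : X) = C).eq_empty_or_nonempty with
      e | ⟨x, hx⟩
    · rw [e, Finset.sum_empty]; exact Two.zero
    · have e : (Finset.univ.filter fun δ : A => ConjClasses.mk (δ : X) = C) = Q x := by
        rw [← (Finset.mem_filter.1 hx).2]
        simp only [hQ]
        exact Finset.filter_congr fun δ _ => by
          rw [ConjClasses.mk_eq_mk_iff_isConj]; exact ⟨IsConj.symm, IsConj.symm⟩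
      rw [e]; exact s3 x
  have hsum : ∑ δ : A, (gy - conj (l δ : ℂ) * (χ : X → ℂ) (t * y * δ)) =
      ((Nat.card A : ℤ) : ℂ) * (gy - (h.cr l χ : ℂ) * (l y : ℂ)) := by
    rw [Finset.sum_sub_distrib, Finset.sum_const, Finset.card_univ, nsmul_eq_mul,
      ← Nat.card_eq_fintype_card, Int.cast_natCast, mul_sub, ← mul_assoc, h.cr_eq, Finset.sum_mul]
    congr 1
    refine Fintype.sum_equiv (Equiv.mulLeft y) _ _ fun δ => ?_
    rw [Equiv.coe_mulLeft, Subgroup.coe_mul, ← mul_assoc, map_mul, Units.val_mul, map_mul,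
      conj_hom_apply l y]
    rw [show ∀ a b c : ℂ, a * (b * c) * (l y : ℂ) = (b * (l y : ℂ)) * (c * a) from
      fun a b c => by ring, ← Units.val_mul, inv_mul_cancel, Units.val_one, one_mul]
  rw [hsum] at htot
  have h1 : Two (gy - (h.cr l χ : ℂ) * (l y : ℂ)) := Two.cancel_odd
    ((Int.odd_coe_nat _).2 h.hAodd) ((hint _).sub ((isIntegral_intCast _).mul (isIntegral_hom _ _)))
    htot
  obtain ⟨k, hk⟩ := h.cr_cl_even l χ
  have h2 : Two (((h.cr l χ - h.cl l χ : ℤ) : ℂ) * (l y : ℂ)) :=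
    ⟨(k : ℂ) * (l y : ℂ), (isIntegral_intCast k).mul (isIntegral_hom _ _), by
      rw [hk]; push_cast; ring⟩
  convert h1.add h2 using 1
  push_cast
  ring

/-- Coefficients at characters of `K` fixed by `u`, other than the given one, are even. -/
theorem co_even_of_fixed [Fintype (Cfsg.IrrCharacter X)] [Fintype (Cfsg.IrrCharacter h.K)]
    {l : A →* ℂˣ} (hfix : l.comp h.sig = l) {χ : Cfsg.IrrCharacter X} (hl : h.cl l χ ≠ 0)
    (θ : Cfsg.IrrCharacter h.K) (hθ : ∀ k, (θ : h.K → ℂ) (h.uK k) = (θ : h.K → ℂ) k)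
    (hne : θ ≠ h.lamIrr l) : Even (h.co θ χ) := by
  set R : h.K → ℂ := fun k =>
    ((χ : X → ℂ) (t * k) - (h.cl l χ : ℂ) * (h.lamK l k : ℂ)) * conj ((θ : h.K → ℂ) k) with hR
  have hθint : ∀ k, IsIntegral ℤ (conj ((θ : h.K → ℂ) k)) := fun k => by
    rw [← char_inv (irr_isCharacter θ.2)]; exact CfsgLib.BlockB.irr_isIntegral θ _
  have h1 := h.two_sum_K_sub R
    (fun k => by simp only [hR]; rw [h.chi_t_uK, h.lamK_uK, hθ])
    (fun k => ((CfsgLib.BlockB.irr_isIntegral χ _).sub
      ((isIntegral_intCast _).mul (isIntegral_hom _ _))).mul (hθint k))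
  have h2 : Two (∑ d : A, R ⟨d, h.D_le_K d.2⟩) := Two.sum _ fun d _ => by
    simp only [hR]
    rw [h.lamK_apply (one_mem F) (d := d) (one_mul _).symm, mul_comm]
    exact (h.two_sub_fixed hfix hl d).mul_left (hθint _)
  have h3 := h1.add h2
  rw [sub_add_cancel] at h3
  have e : ∑ k : h.K, R k = ((h.co θ χ * (Nat.card h.K : ℤ) : ℤ) : ℂ) := by
    push_cast
    rw [h.co_cast, classInner_def, mul_comm, ← mul_assoc, mul_inv_cancel₀ natCard_ne_zero, one_mul]
    simp only [hR, sub_mul, Finset.sum_sub_distrib, mul_assoc, ← Finset.mul_sum]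
    have h0 := irr_classInner_ne (h.lamIrr l).2 θ.2 (fun e => hne (Subtype.ext e).symm)
    rw [classInner_def, mul_eq_zero, or_iff_right (inv_ne_zero natCard_ne_zero)] at h0
    rw [show ∑ k : h.K, (h.lamK l k : ℂ) * conj ((θ : h.K → ℂ) k) = 0 from h0, mul_zero, sub_zero]
  rw [e] at h3
  have := h3.even
  rw [Int.even_mul] at this
  exact this.resolve_right (Int.not_even_iff_odd.2 ((Int.odd_coe_nat _).2 h.odd_K))

/-- The orbit of `l`. -/
noncomputable def orbit (l : A →* ℂˣ) : Finset (A →* ℂˣ) :=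
  {l, l.comp h.sig, (l.comp h.sig).comp h.sig}

theorem cl_ne_zero_orbit [Fintype (Cfsg.IrrCharacter X)] {l μ : A →* ℂˣ}
    {χ : Cfsg.IrrCharacter X} (hl : h.cl l χ ≠ 0) (hμ : μ ∈ h.orbit l) : h.cl μ χ ≠ 0 := by
  simp only [orbit, Finset.mem_insert, Finset.mem_singleton] at hμ
  rcases hμ with rfl | rfl | rfl
  exacts [hl, (h.cl_sig_ne_zero _ χ).2 hl,
    (h.cl_sig_ne_zero _ χ).2 ((h.cl_sig_ne_zero _ χ).2 hl)]

theorem card_orbit_moved {l : A →* ℂˣ} (hmv : l.comp h.sig ≠ l) : (h.orbit l).card = 3 := by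
  set l1 := l.comp h.sig with hl1
  set l2 := l1.comp h.sig with hl2
  have h3 : l2.comp h.sig = l := h.comp_sig_cube l
  have h02 : l2 ≠ l := fun e => hmv (by rw [e] at h3; exact h3)
  have h12 : l2 ≠ l1 := fun e => hmv (by
    have h4 : l1.comp h.sig = l := by rw [← e]; exact h3
    rw [← hl2, e] at h4
    exact h4)
  rw [orbit, ← hl1, ← hl2]
  simp [Ne.symm hmv, Ne.symm h02, Ne.symm h12]

/-- On `tK` a constituent is a signed sum over the orbit. -/
theorem chi_tK [Fintype (Cfsg.IrrCharacter X)] {l : A →* ℂˣ} {χ : Cfsg.IrrCharacter X}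
    (hl : h.cl l χ ≠ 0) (k : h.K) :
    (χ : X → ℂ) (t * k) = ∑ μ ∈ h.orbit l, (h.cl μ χ : ℂ) * (h.lamK μ k : ℂ) := by
  have := Fintype.ofFinite (Cfsg.IrrCharacter h.K)
  set S := (h.orbit l).image h.lamIrr with hS
  have hsq : ∀ μ ∈ h.orbit l, h.co (h.lamIrr μ) χ * h.co (h.lamIrr μ) χ = 1 := fun μ hμ => by
    rw [h.co_lam]
    rcases (h.cl_cases μ).1 χ with a | a | a
    · exact absurd a (h.cl_ne_zero_orbit hl hμ)
    · rw [a]; rfl
    · rw [a]; rfl
  have hsumS : ∑ θ ∈ S, h.co θ χ * h.co θ χ = ((h.orbit l).card : ℤ) := by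
    rw [hS, Finset.sum_image h.lamIrr_injective.injOn, Finset.sum_congr rfl hsq, Finset.sum_const,
      nsmul_eq_mul, mul_one]
  have hzero : ∀ θ ∉ S, h.co θ χ = 0 := by
    intro θ hθ
    by_contra hne
    have hlt : h.co θ χ * h.co θ χ + ((h.orbit l).card : ℤ) < 4 := by
      rw [← hsumS, ← Finset.sum_insert (f := fun θ => h.co θ χ * h.co θ χ) hθ]
      exact lt_of_le_of_lt (Finset.sum_le_sum_of_subset_of_nonneg (Finset.subset_univ _)
        fun _ _ _ => mul_self_nonneg _) (h.co_sq_lt χ)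
    by_cases hmv : l.comp h.sig = l
    · obtain ⟨d, -, hd⟩ := irr_degree_nat χ
      have heven : Even (h.co θ χ) := by
        let θ' : Cfsg.IrrCharacter h.K := ⟨fun k => (θ : h.K → ℂ) (h.uK k),
          isIrrCharacter_comp_surjective θ.2 (MonoidHom.mk' h.uK h.uK_mul)
            fun k => ⟨h.uK k, h.uK_uK k⟩⟩
        by_cases e : θ' = θ
        · refine h.co_even_of_fixed hmv hl θ (fun k => congrFun (congrArg Subtype.val e) k) ?_
          intro e'
          exact hθ (e' ▸ Finset.mem_image_of_mem _ (by simp [orbit]))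
        · exact h.co_even_of_moved hd (h.deg_odd hl hd) θ θ' (fun _ => rfl) e
      obtain ⟨a, ha⟩ := heven
      rw [ha] at hne hlt
      have hpos : 1 ≤ (h.orbit l).card := Finset.card_pos.2 ⟨l, by simp [orbit]⟩
      have : 1 ≤ a * a := by
        have : a ≠ 0 := by rintro rfl; exact hne rfl
        nlinarith [mul_self_pos.2 this]
      nlinarith
    · rw [h.card_orbit_moved hmv] at hlt
      push_cast at hlt
      linarith [Int.add_one_le_iff.2 (mul_self_pos.2 hne)]
  rw [h.expand χ k, ← Finset.sum_subset (Finset.subset_univ S)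
    (fun θ _ hθ => by rw [hzero θ hθ, Int.cast_zero, zero_mul]), hS,
    Finset.sum_image h.lamIrr_injective.injOn]
  exact Finset.sum_congr rfl fun μ _ => by rw [h.co_lam]; rfl

end TwistCent

end CfsgLib.GW.Twist
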