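import Cfsg.Agent.Lib.Recog.NonCA.KleinChar

/-!
# The twist lemma for a four-group Sylow 2-subgroup: group theory

`C(t) = ⟨t,u⟩ F A` with `F` abelian inverted by `u` and `A` centralised by the four-group.
-/

set_option autoImplicit false
set_option linter.unusedSectionVars false

namespace CfsgLib.GW.Twist

open CfsgLib.Recog.NonCA (eq_one_of_sq_of_odd mem_of_sq_mem)

universe v

/-- An involution centraliser `C(t) = ⟨t,u⟩ (F A)` with four-group Sylow subgroup `⟨t,u⟩`, `F`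
abelian inverted by `u`, `A` centralised by `u` and not centralising `F`. -/
structure TwistCent {X : Type v} [Group X] (t u n : X) (F A : Subgroup X) : Prop where
  ht : orderOf t = 2
  hu : orderOf u = 2
  htu : t * u = u * t
  hne : t ≠ u
  hsyl : ∃ P : Sylow 2 X, (P : Subgroup X) = Subgroup.zpowers t ⊔ Subgroup.zpowers u
  hn : n * t * n⁻¹ = u ∧ n * u * n⁻¹ = t * u
  hFcomm : ∀ a ∈ F, ∀ b ∈ F, a * b = b * a
  hFodd : Odd (Nat.card F)
  hFu : ∀ a ∈ F, u * a * u⁻¹ = a⁻¹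
  hFt : ∀ a ∈ F, t * a = a * t
  hAodd : Odd (Nat.card A)
  hAt : ∀ d ∈ A, t * d = d * t
  hAu : ∀ d ∈ A, u * d = d * u
  hAn : ∀ d ∈ A, n * d * n⁻¹ ∈ A
  hAF : ∀ d ∈ A, ∀ a ∈ F, d * a * d⁻¹ ∈ F
  hdisj : F ⊓ A = ⊥
  hcent : Subgroup.centralizer ({t} : Set X) =
    Subgroup.zpowers t ⊔ Subgroup.zpowers u ⊔ F ⊔ A
  hmove : ∃ d ∈ A, ∃ f ∈ F, d * f ≠ f * d

namespace TwistCent

variable {X : Type v} [Group X] {t u n : X} {F A : Subgroup X} (h : TwistCent t u n F A)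

local notation "cen(" x ")" => Subgroup.centralizer ({x} : Set X)
include h

theorem tt : t * t = 1 := by
  have := pow_orderOf_eq_one t
  rwa [h.ht, pow_two] at this

theorem uu' : u * u = 1 := by
  have := pow_orderOf_eq_one u
  rwa [h.hu, pow_two] at this

theorem t_ne_one : t ≠ 1 := fun e => by simpa [e] using h.ht

theorem u_ne_one : u ≠ 1 := fun e => by simpa [e] using h.hu

theorem tinv : t⁻¹ = t := inv_eq_of_mul_eq_one_right h.tt

theorem uinv : u⁻¹ = u := inv_eq_of_mul_eq_one_right h.uu'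

/-- The four-group. -/
def W (_h : TwistCent t u n F A) : Set X := {1, t, u, t * u}

theorem mem_W {w : X} : w ∈ h.W ↔ w = 1 ∨ w = t ∨ w = u ∨ w = t * u := by
  simp [W]

theorem one_mem_W : (1 : X) ∈ h.W := h.mem_W.2 (Or.inl rfl)

theorem W_mul {v w : X} (hv : v ∈ h.W) (hw : w ∈ h.W) : v * w ∈ h.W := by
  have e1 : u * t = t * u := h.htu.symm
  have e2 : t * (t * u) = u := by rw [← mul_assoc, h.tt, one_mul]
  have e3 : u * (t * u) = t := by rw [← mul_assoc, e1, mul_assoc, h.uu', mul_one]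
  have e4 : t * u * t = u := by rw [mul_assoc, e1, e2]
  have e5 : t * u * u = t := by rw [mul_assoc, h.uu', mul_one]
  have e6 : t * u * (t * u) = 1 := by rw [mul_assoc, e3, h.tt]
  rcases h.mem_W.1 hv with rfl | rfl | rfl | rfl <;> rcases h.mem_W.1 hw with rfl | rfl | rfl | rfl <;>
    simp [h.mem_W, e1, e2, e3, e4, e5, e6, h.tt, h.uu']

theorem W_sq {w : X} (hw : w ∈ h.W) : w * w = 1 := by
  rcases h.mem_W.1 hw with rfl | rfl | rfl | rfl
  · rw [one_mul]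
  · exact h.tt
  · exact h.uu'
  · rw [mul_assoc, ← mul_assoc u t u, ← h.htu, mul_assoc t u u, h.uu', mul_one, h.tt]

theorem W_inv {w : X} (hw : w ∈ h.W) : w⁻¹ = w := inv_eq_of_mul_eq_one_right (h.W_sq hw)

theorem W_comm_t {w : X} (hw : w ∈ h.W) : w * t = t * w := by
  rcases h.mem_W.1 hw with rfl | rfl | rfl | rfl
  · rw [one_mul, mul_one]
  · rfl
  · exact h.htu.symm
  · rw [mul_assoc, ← h.htu]

theorem W_comm_u {w : X} (hw : w ∈ h.W) : w * u = u * w := by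
  rcases h.mem_W.1 hw with rfl | rfl | rfl | rfl
  · rw [one_mul, mul_one]
  · exact h.htu
  · rfl
  · rw [← mul_assoc, ← h.htu]

theorem W_comm_D {w d : X} (hw : w ∈ h.W) (hd : d ∈ A) : w * d = d * w := by
  rcases h.mem_W.1 hw with rfl | rfl | rfl | rfl
  · rw [one_mul, mul_one]
  · exact h.hAt d hd
  · exact h.hAu d hd
  · rw [mul_assoc, h.hAu d hd, ← mul_assoc, h.hAt d hd, mul_assoc]

theorem W_F {w : X} (hw : w ∈ h.W) :
    (∀ f ∈ F, w * f * w⁻¹ = f) ∨ ∀ f ∈ F, w * f * w⁻¹ = f⁻¹ := by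
  rcases h.mem_W.1 hw with rfl | rfl | rfl | rfl
  · exact Or.inl fun f _ => by group
  · exact Or.inl fun f hf => by rw [h.hFt f hf]; group
  · exact Or.inr h.hFu
  · refine Or.inr fun f hf => ?_
    have e : t * u * f * (t * u)⁻¹ = t * (u * f * u⁻¹) * t⁻¹ := by group
    rw [e, h.hFu f hf, h.hFt _ (inv_mem hf)]
    group

theorem W_F_mem {w f : X} (hw : w ∈ h.W) (hf : f ∈ F) : w * f * w⁻¹ ∈ F := by
  rcases h.W_F hw with e | e <;> rw [e f hf]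
  · exact hf
  · exact inv_mem hf

theorem D_conj_inv {d f : X} (hd : d ∈ A) (hf : f ∈ F) : d⁻¹ * f * d ∈ F := by
  simpa using h.hAF d⁻¹ (inv_mem hd) f hf

theorem mul_FD {f f' d d' : X} :
    f * d * (f' * d') = (f * (d * f' * d⁻¹)) * (d * d') := by group

theorem FD_ext {f f' d d' : X} (hf : f ∈ F) (hf' : f' ∈ F) (hd : d ∈ A) (hd' : d' ∈ A)
    (e : f * d = f' * d') : f = f' ∧ d = d' := by
  have h1 : f'⁻¹ * f = d' * d⁻¹ := by
    calc f'⁻¹ * f = f'⁻¹ * (f * d) * d⁻¹ := by group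
      _ = f'⁻¹ * (f' * d') * d⁻¹ := by rw [e]
      _ = d' * d⁻¹ := by group
  have h2 : f'⁻¹ * f ∈ F ⊓ A :=
    Subgroup.mem_inf.2 ⟨mul_mem (inv_mem hf') hf, h1 ▸ mul_mem hd' (inv_mem hd)⟩
  rw [h.hdisj, Subgroup.mem_bot] at h2
  have h3 : f = f' := (inv_mul_eq_one.1 h2).symm
  exact ⟨h3, by rwa [h3, mul_right_inj] at e⟩

/-- `K = F A`. -/
def K (_h : TwistCent t u n F A) : Subgroup X where
  carrier := {x | ∃ f ∈ F, ∃ d ∈ A, x = f * d}
  one_mem' := ⟨1, one_mem _, 1, one_mem _, (one_mul 1).symm⟩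
  mul_mem' := by
    rintro _ _ ⟨f, hf, d, hd, rfl⟩ ⟨f', hf', d', hd', rfl⟩
    exact ⟨_, mul_mem hf (_h.hAF d hd f' hf'), _, mul_mem hd hd', _h.mul_FD⟩
  inv_mem' := by
    rintro _ ⟨f, hf, d, hd, rfl⟩
    exact ⟨_, _h.D_conj_inv hd (inv_mem hf), d⁻¹, inv_mem hd, by group⟩

theorem mem_K {x : X} : x ∈ h.K ↔ ∃ f ∈ F, ∃ d ∈ A, x = f * d := Iff.rfl

theorem FD_mem_K {f d : X} (hf : f ∈ F) (hd : d ∈ A) : f * d ∈ h.K := ⟨f, hf, d, hd, rfl⟩

theorem F_le_K : F ≤ h.K := fun f hf => ⟨f, hf, 1, one_mem _, (mul_one f).symm⟩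

theorem D_le_K : A ≤ h.K := fun d hd => ⟨1, one_mem _, d, hd, (one_mul d).symm⟩

theorem card_K [Finite X] : Nat.card h.K = Nat.card F * Nat.card A := by
  rw [← Nat.card_prod]
  refine (Nat.card_congr (Equiv.ofBijective
    (fun p : F × A => (⟨(p.1 : X) * p.2, h.FD_mem_K p.1.2 p.2.2⟩ : h.K)) ⟨?_, ?_⟩)).symm
  · rintro ⟨f, d⟩ ⟨f', d'⟩ e
    obtain ⟨e1, e2⟩ := h.FD_ext f.2 f'.2 d.2 d'.2 (congrArg Subtype.val e)
    exact Prod.ext (Subtype.ext e1) (Subtype.ext e2)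
  · rintro ⟨x, f, hf, d, hd, rfl⟩
    exact ⟨(⟨f, hf⟩, ⟨d, hd⟩), rfl⟩

theorem odd_K [Finite X] : Odd (Nat.card h.K) := by
  rw [h.card_K]; exact h.hFodd.mul h.hAodd

theorem W_K {w k : X} (hw : w ∈ h.W) (hk : k ∈ h.K) : w * k * w⁻¹ ∈ h.K := by
  obtain ⟨f, hf, d, hd, rfl⟩ := h.mem_K.1 hk
  have e : w * (f * d) * w⁻¹ = (w * f * w⁻¹) * d := by
    calc w * (f * d) * w⁻¹ = (w * f * w⁻¹) * (w * d * w⁻¹) := by group
      _ = (w * f * w⁻¹) * d := by rw [h.W_comm_D hw hd]; group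
  rw [e]
  exact h.FD_mem_K (h.W_F_mem hw hf) hd

theorem W_inter_K [Finite X] {w : X} (hw : w ∈ h.W) (hk : w ∈ h.K) : w = 1 :=
  eq_one_of_sq_of_odd h.odd_K hk (h.W_sq hw)

/-- The centraliser `M = C(t)`, as a set of products. -/
def M (_h : TwistCent t u n F A) : Subgroup X where
  carrier := {x | ∃ w ∈ _h.W, ∃ k ∈ _h.K, x = w * k}
  one_mem' := ⟨1, _h.one_mem_W, 1, one_mem _, (one_mul 1).symm⟩
  mul_mem' := by
    rintro _ _ ⟨w, hw, k, hk, rfl⟩ ⟨w', hw', k', hk', rfl⟩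
    refine ⟨w * w', _h.W_mul hw hw', (w'⁻¹ * k * w') * k', mul_mem ?_ hk', by group⟩
    have := _h.W_K hw' hk
    rwa [_h.W_inv hw'] at this ⊢
  inv_mem' := by
    rintro _ ⟨w, hw, k, hk, rfl⟩
    exact ⟨w, hw, w * k⁻¹ * w⁻¹, _h.W_K hw (inv_mem hk), by
      rw [mul_inv_rev, _h.W_inv hw, ← mul_assoc, ← mul_assoc, _h.W_sq hw, one_mul]⟩

theorem mem_M {x : X} : x ∈ h.M ↔ ∃ w ∈ h.W, ∃ k ∈ h.K, x = w * k := Iff.rfl

theorem K_le_M : h.K ≤ h.M := fun k hk => ⟨1, h.one_mem_W, k, hk, (one_mul k).symm⟩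

theorem W_le_M {w : X} (hw : w ∈ h.W) : w ∈ h.M := ⟨w, hw, 1, one_mem _, (mul_one w).symm⟩

theorem cen_t : cen(t) = h.M := by
  refine le_antisymm ?_ ?_
  · rw [h.hcent]
    refine sup_le (sup_le (sup_le ?_ ?_) (h.F_le_K.trans h.K_le_M)) (h.D_le_K.trans h.K_le_M)
    · rw [Subgroup.zpowers_le]; exact h.W_le_M (h.mem_W.2 (Or.inr (Or.inl rfl)))
    · rw [Subgroup.zpowers_le]; exact h.W_le_M (h.mem_W.2 (Or.inr (Or.inr (Or.inl rfl))))
  · rintro _ ⟨w, hw, _, ⟨f, hf, d, hd, rfl⟩, rfl⟩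
    rw [Subgroup.mem_centralizer_singleton_iff]
    have a : Commute t (w * (f * d)) :=
      ((show Commute t w from (h.W_comm_t hw).symm)).mul_right
        ((show Commute t f from h.hFt f hf).mul_right (show Commute t d from h.hAt d hd))
    exact a.symm.eq

theorem mem_M_iff {x : X} : x ∈ h.M ↔ x * t = t * x := by
  rw [← h.cen_t, Subgroup.mem_centralizer_singleton_iff]

theorem mem_M_conj {x : X} : x ∈ h.M ↔ x * t * x⁻¹ = t := by
  rw [h.mem_M_iff, mul_inv_eq_iff_eq_mul]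

theorem t_mem_M : t ∈ h.M := h.W_le_M (h.mem_W.2 (Or.inr (Or.inl rfl)))

theorem u_mem_W : u ∈ h.W := h.mem_W.2 (Or.inr (Or.inr (Or.inl rfl)))

theorem M_decomp {x : X} (hx : x ∈ h.M) :
    ∃ w ∈ h.W, ∃ f ∈ F, ∃ d ∈ A, x = w * (f * d) := by
  obtain ⟨w, hw, _, ⟨f, hf, d, hd, rfl⟩, rfl⟩ := h.mem_M.1 hx
  exact ⟨w, hw, f, hf, d, hd, rfl⟩

theorem M_F {g f : X} (hg : g ∈ h.M) (hf : f ∈ F) : g * f * g⁻¹ ∈ F := by
  obtain ⟨w, hw, a, ha, d, hd, rfl⟩ := h.M_decomp hg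
  have e : w * (a * d) * f * (w * (a * d))⁻¹ = w * (a * (d * f * d⁻¹) * a⁻¹) * w⁻¹ := by group
  rw [e]
  exact h.W_F_mem hw (mul_mem (mul_mem ha (h.hAF d hd f hf)) (inv_mem ha))

/-- Conjugation in `M` induces an inner automorphism on `A` modulo `F`. -/
theorem M_K {g : X} (hg : g ∈ h.M) :
    ∃ e ∈ A, ∀ f ∈ F, ∀ d ∈ A, ∃ f' ∈ F, g * (f * d) * g⁻¹ = f' * (e * d * e⁻¹) := by
  obtain ⟨w, hw, a, ha, e, he, rfl⟩ := h.M_decomp hg
  refine ⟨e, he, fun f hf d hd => ?_⟩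
  set d' := e * d * e⁻¹ with hd'
  have hd'A : d' ∈ A := mul_mem (mul_mem he hd) (inv_mem he)
  refine ⟨w * (a * (e * f * e⁻¹) * (d' * a⁻¹ * d'⁻¹)) * w⁻¹, h.W_F_mem hw
    (mul_mem (mul_mem ha (h.hAF e he f hf)) (h.hAF d' hd'A _ (inv_mem ha))), ?_⟩
  calc w * (a * e) * (f * d) * (w * (a * e))⁻¹
      = w * (a * (e * f * e⁻¹) * (d' * a⁻¹)) * w⁻¹ := by rw [hd']; group
    _ = w * (a * (e * f * e⁻¹) * (d' * a⁻¹ * d'⁻¹)) * w⁻¹ * (w * d' * w⁻¹) := by group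
    _ = w * (a * (e * f * e⁻¹) * (d' * a⁻¹ * d'⁻¹)) * w⁻¹ * d' := by
      rw [h.W_comm_D hw hd'A]; group

/-- An element of `M` normalising the four-group acts on `A` by an inner automorphism. -/
theorem cen_P_D [Finite X] {g : X} (hg : g ∈ h.M) (hgu : g * u * g⁻¹ ∈ h.W) :
    ∃ e ∈ A, ∀ d ∈ A, g * d * g⁻¹ = e * d * e⁻¹ := by
  obtain ⟨w, hw, f, hf, e, he, rfl⟩ := h.M_decomp hg
  have e1 : w * (f * e) * u * (w * (f * e))⁻¹ = w * (f * u * f⁻¹) * w⁻¹ := by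
    calc w * (f * e) * u * (w * (f * e))⁻¹ = w * (f * (e * u * e⁻¹) * f⁻¹) * w⁻¹ := by group
      _ = w * (f * u * f⁻¹) * w⁻¹ := by rw [← h.hAu e he, mul_inv_cancel_right]
  rw [e1] at hgu
  have e2 : f * u * f⁻¹ * u ∈ h.W := by
    have := h.W_mul (h.W_mul (h.W_mul hw hgu) hw) h.u_mem_W
    have e3 : w * (w * (f * u * f⁻¹) * w⁻¹) * w * u = f * u * f⁻¹ * u := by
      rw [← mul_assoc, ← mul_assoc, h.W_sq hw, one_mul, inv_mul_cancel_right]
    rwa [e3] at this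
  have e4 : f * u * f⁻¹ * u = f * f := by
    calc f * u * f⁻¹ * u = f * (u * f⁻¹ * u⁻¹) := by rw [h.uinv]; group
      _ = f * f := by rw [h.hFu _ (inv_mem hf), inv_inv]
  rw [e4] at e2
  have hf1 : f = 1 :=
    eq_one_of_sq_of_odd h.hFodd hf (h.W_inter_K e2 (h.F_le_K (mul_mem hf hf)))
  refine ⟨e, he, fun d hd => ?_⟩
  calc w * (f * e) * d * (w * (f * e))⁻¹ = w * (e * d * e⁻¹) * w⁻¹ := by rw [hf1]; group
    _ = e * d * e⁻¹ := by
      rw [h.W_comm_D hw (mul_mem (mul_mem he hd) (inv_mem he)), mul_inv_cancel_right]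

/-- Conjugation by `n` on `A`. -/
theorem n_cube [Finite X] :
    ∃ e ∈ A, ∀ d ∈ A, n * (n * (n * d * n⁻¹) * n⁻¹) * n⁻¹ = e * d * e⁻¹ := by
  have hutu : n * (t * u) * n⁻¹ = t := by
    calc n * (t * u) * n⁻¹ = (n * t * n⁻¹) * (n * u * n⁻¹) := by group
      _ = u * (t * u) := by rw [h.hn.1, h.hn.2]
      _ = (u * t) * u := (mul_assoc _ _ _).symm
      _ = t := by rw [← h.htu, mul_assoc, h.uu', mul_one]
  have ht3 : n * n * n * t * (n * n * n)⁻¹ = t := by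
    calc n * n * n * t * (n * n * n)⁻¹ = n * (n * (n * t * n⁻¹) * n⁻¹) * n⁻¹ := by group
      _ = t := by rw [h.hn.1, h.hn.2, hutu]
  have hu3 : n * n * n * u * (n * n * n)⁻¹ = u := by
    calc n * n * n * u * (n * n * n)⁻¹ = n * (n * (n * u * n⁻¹) * n⁻¹) * n⁻¹ := by group
      _ = u := by rw [h.hn.2, hutu, h.hn.1]
  obtain ⟨e, he, hed⟩ := h.cen_P_D (h.mem_M_conj.2 ht3) (by rw [hu3]; exact h.u_mem_W)
  refine ⟨e, he, fun d hd => ?_⟩
  calc n * (n * (n * d * n⁻¹) * n⁻¹) * n⁻¹ = n * n * n * d * (n * n * n)⁻¹ := by group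
    _ = e * d * e⁻¹ := hed d hd

/-- A linear character of `A` invariant under `n` is invariant under fusion. -/
theorem fusion_hom [Finite X] {l : A →* ℂˣ}
    (hl : ∀ d d' : A, (d' : X) = n * d * n⁻¹ → l d' = l d) {g : X} {d d' : A}
    (e : (d' : X) = g * d * g⁻¹) : l d' = l d := by
  have key : ∀ {g : X}, g ∈ h.M → g * u * g⁻¹ ∈ h.W → ∀ {d d' : A},
      (d' : X) = g * d * g⁻¹ → l d' = l d := by
    intro g hg hgu d d' e
    obtain ⟨a, ha, hea⟩ := h.cen_P_D hg hgu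
    rw [show d' = ⟨a, ha⟩ * d * ⟨a, ha⟩⁻¹ from Subtype.ext (e.trans (hea d d.2)), map_mul, map_mul,
      map_inv, mul_right_comm, mul_inv_cancel, one_mul]
  have hW : ∀ {w : X}, w ∈ h.W → n⁻¹ * w * n ∈ h.W := by
    intro w hw
    have hu0 : n⁻¹ * u * n = t := by rw [← h.hn.1]; group
    have htu0 : n⁻¹ * (t * u) * n = u := by rw [← h.hn.2]; group
    have ht0 : n⁻¹ * t * n = t * u := by
      calc n⁻¹ * t * n = n⁻¹ * ((t * u) * u) * n := by rw [mul_assoc t u u, h.uu', mul_one]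
        _ = (n⁻¹ * (t * u) * n) * (n⁻¹ * u * n) := by group
        _ = u * t := by rw [htu0, hu0]
        _ = t * u := h.htu.symm
    rcases h.mem_W.1 hw with rfl | rfl | rfl | rfl
    · simpa using h.one_mem_W
    · rw [ht0]; exact h.mem_W.2 (Or.inr (Or.inr (Or.inr rfl)))
    · rw [hu0]; exact h.mem_W.2 (Or.inr (Or.inl rfl))
    · rw [htu0]; exact h.u_mem_W
  have hback : ∀ {x : X}, x ∈ A → n⁻¹ * x * n ∈ A := by
    intro x hx
    let φ : A → A := fun a => ⟨n * a * n⁻¹, h.hAn a a.2⟩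
    have hφ : Function.Injective φ := fun a b e => Subtype.ext (by
      simpa [φ] using congrArg Subtype.val e)
    obtain ⟨a, ha⟩ := Finite.surjective_of_injective hφ ⟨x, hx⟩
    have ha' : n * (a : X) * n⁻¹ = x := congrArg Subtype.val ha
    rw [← ha']
    simp [mul_assoc]
  have : Fact (Nat.Prime 2) := ⟨Nat.prime_two⟩
  obtain ⟨P, hP⟩ := h.hsyl
  have hPW : ∀ x ∈ (P : Subgroup X), x ∈ h.W := by
    intro x hx
    rw [hP, Subgroup.zpowers_eq_closure, Subgroup.zpowers_eq_closure, ← Subgroup.closure_union] at hx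
    induction hx using Subgroup.closure_induction with
    | mem y hy =>
      rcases hy with hy | hy
      · rw [Set.mem_singleton_iff.1 hy]; exact h.mem_W.2 (Or.inr (Or.inl rfl))
      · rw [Set.mem_singleton_iff.1 hy]; exact h.u_mem_W
    | one => exact h.one_mem_W
    | mul a b _ _ ha hb => exact h.W_mul ha hb
    | inv a _ ha => rw [h.W_inv ha]; exact ha
  have hc : ∀ y ∈ A, y ∈ Subgroup.centralizer ((P : Subgroup X) : Set X) := fun y hy =>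
    Subgroup.mem_centralizer_iff.2 fun x hx => h.W_comm_D (hPW x hx) hy
  obtain ⟨m, hm, he⟩ := P.conj_eq_normalizer_conj_of_mem_centralizer (d : X) g⁻¹ (hc d d.2)
    (hc _ (by rw [inv_inv, ← e]; exact d'.2))
  rw [inv_inv] at he
  rw [he] at e
  have htP : t ∈ (P : Subgroup X) := by
    rw [hP]; exact Subgroup.mem_sup_left (Subgroup.mem_zpowers t)
  have huP : u ∈ (P : Subgroup X) := by
    rw [hP]; exact Subgroup.mem_sup_right (Subgroup.mem_zpowers u)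
  have hm' : ∀ x ∈ (P : Subgroup X), m⁻¹ * x * m ∈ h.W := fun x hx =>
    hPW _ (by simpa using (Subgroup.mem_normalizer_iff.1 (inv_mem hm) x).1 hx)
  have hgt : m⁻¹ * t * m ∈ h.W := hm' t htP
  have hgu : m⁻¹ * u * m ∈ h.W := hm' u huP
  rcases h.mem_W.1 hgt with e' | e' | e' | e'
  · exact absurd (conj_eq_one_iff.1 (by rwa [inv_inv] : m⁻¹ * t * m⁻¹⁻¹ = 1)) h.t_ne_one
  · exact key (g := m⁻¹) (h.mem_M_conj.2 (by rw [inv_inv]; exact e')) (by rwa [inv_inv])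
      (by rw [inv_inv]; exact e)
  · have hm2 : n⁻¹ * m⁻¹ ∈ h.M := h.mem_M_conj.2 (by
      calc n⁻¹ * m⁻¹ * t * (n⁻¹ * m⁻¹)⁻¹ = n⁻¹ * (m⁻¹ * t * m) * n := by group
        _ = t := by rw [e', ← h.hn.1]; group)
    have hy : n⁻¹ * (d' : X) * n ∈ A := hback d'.2
    rw [hl ⟨_, hy⟩ d' (by simp [mul_assoc])]
    refine key hm2 ?_ (d' := ⟨_, hy⟩) ?_
    · have e2 : n⁻¹ * m⁻¹ * u * (n⁻¹ * m⁻¹)⁻¹ = n⁻¹ * (m⁻¹ * u * m) * n := by group
      rw [e2]; exact hW hgu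
    · show n⁻¹ * (d' : X) * n = _
      rw [e]; group
  · have hm2 : n⁻¹ * (n⁻¹ * m⁻¹) ∈ h.M := h.mem_M_conj.2 (by
      calc n⁻¹ * (n⁻¹ * m⁻¹) * t * (n⁻¹ * (n⁻¹ * m⁻¹))⁻¹
          = n⁻¹ * (n⁻¹ * (m⁻¹ * t * m) * n) * n := by simp [mul_assoc]
        _ = t := by rw [e', ← h.hn.2]; conv_lhs => rw [← h.hn.1]
                    group)
    have hy : n⁻¹ * (d' : X) * n ∈ A := hback d'.2
    have hy2 : n⁻¹ * (n⁻¹ * (d' : X) * n) * n ∈ A := hback hy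
    rw [hl ⟨_, hy⟩ d' (by simp [mul_assoc]), hl ⟨_, hy2⟩ ⟨_, hy⟩ (by simp [mul_assoc])]
    refine key hm2 ?_ (d' := ⟨_, hy2⟩) ?_
    · have e2 : n⁻¹ * (n⁻¹ * m⁻¹) * u * (n⁻¹ * (n⁻¹ * m⁻¹))⁻¹ =
          n⁻¹ * (n⁻¹ * (m⁻¹ * u * m) * n) * n := by simp [mul_assoc]
      rw [e2]; exact hW (hW hgu)
    · show n⁻¹ * (n⁻¹ * (d' : X) * n) * n = _
      rw [e]; simp [mul_assoc]

/-- All involutions are conjugate to `t`. -/
theorem invol_conj [Finite X] {j : X} (hj : orderOf j = 2) : IsConj t j := by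
  have : Fact (Nat.Prime 2) := ⟨Nat.prime_two⟩
  obtain ⟨P, hP⟩ := h.hsyl
  have hp : IsPGroup 2 (Subgroup.zpowers j) :=
    IsPGroup.of_card (n := 1) (by rw [Nat.card_zpowers, hj, pow_one])
  obtain ⟨Q, hQ⟩ := hp.exists_le_sylow
  obtain ⟨g, hg⟩ := MulAction.exists_smul_eq X Q P
  have hx : g * j * g⁻¹ ∈ (P : Subgroup X) := by
    rw [← hg]
    exact ⟨j, hQ (Subgroup.mem_zpowers j), rfl⟩
  have hW : g * j * g⁻¹ ∈ h.W := by
    have hle : (P : Subgroup X) ≤ h.M := by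
      rw [hP]
      exact sup_le (Subgroup.zpowers_le.2 h.t_mem_M) (Subgroup.zpowers_le.2 (h.W_le_M h.u_mem_W))
    obtain ⟨w, hw, k, hk, e⟩ := h.mem_M.1 (hle hx)
    have hkP : k ∈ (P : Subgroup X) := by
      have hwP : w ∈ (P : Subgroup X) := by
        rw [hP]
        have a1 := Subgroup.mem_sup_left (T := Subgroup.zpowers u) (Subgroup.mem_zpowers t)
        have a2 := Subgroup.mem_sup_right (S := Subgroup.zpowers t) (Subgroup.mem_zpowers u)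
        rcases h.mem_W.1 hw with rfl | rfl | rfl | rfl
        exacts [one_mem _, a1, a2, mul_mem a1 a2]
      have := mul_mem (inv_mem hwP) (e ▸ hx)
      rwa [inv_mul_cancel_left] at this
    obtain ⟨i, hi⟩ := IsPGroup.iff_orderOf.1 P.2 ⟨k, hkP⟩
    rw [Subgroup.orderOf_mk] at hi
    have h1 : orderOf k ∣ Nat.card h.K := by
      rw [← Subgroup.orderOf_mk k hk]; exact orderOf_dvd_natCard _
    have h2 : orderOf k = 1 := by
      rw [hi] at h1 ⊢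
      rcases Nat.eq_zero_or_pos i with rfl | hi0
      · rfl
      · have h3 : 2 ∣ Nat.card h.K := (dvd_pow_self 2 hi0.ne').trans h1
        exact absurd h3 h.odd_K.not_two_dvd_nat
    rw [orderOf_eq_one_iff.1 h2, mul_one] at e
    rw [e]; exact hw
  refine (IsConj.trans ?_ (isConj_iff.2 ⟨g, rfl⟩ : IsConj j (g * j * g⁻¹)).symm)
  rcases h.mem_W.1 hW with e | e | e | e <;> rw [e]
  · rw [conj_eq_one_iff] at e
    rw [e, orderOf_one] at hj
    exact absurd hj (by norm_num)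
  · exact isConj_iff.2 ⟨n, h.hn.1⟩
  · exact isConj_iff.2 ⟨n * n, by rw [← h.hn.2, ← h.hn.1]; group⟩

/-- Conjugates in `C(t)` of elements of `K` lie in `K`. -/
theorem mem_K_of_conj [Finite X] {x c : X} (hx : x ∈ h.K) (hc : IsConj x c)
    (hct : c * t = t * c) : c ∈ h.K := by
  obtain ⟨g, rfl⟩ := isConj_iff.1 hc
  have hodd : Odd (Nat.card (Subgroup.zpowers (g * x * g⁻¹))) := by
    rw [Nat.card_zpowers]
    refine h.odd_K.of_dvd_nat ?_
    rw [show orderOf (g * x * g⁻¹) = orderOf x from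
      (MulEquiv.orderOf_eq (MulAut.conj g) x), ← Subgroup.orderOf_mk x hx]
    exact orderOf_dvd_natCard _
  refine mem_of_sq_mem hodd (Subgroup.mem_zpowers _) ?_
  obtain ⟨w, hw, k, hk, e⟩ := h.mem_M.1 (h.mem_M_iff.2 hct)
  rw [e]
  have e2 : w * k * (w * k) = (w * k * w⁻¹) * k := by rw [h.W_inv hw]; group
  rw [e2]
  exact mul_mem (h.W_K hw hk) hk

end TwistCent

end CfsgLib.GW.Twist
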